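import Groth.Agent.L11.GM.Main
import Groth.Agent.L11.Lemma179.Lower
import Groth.Agent.L11.Lemma179.Bridge
import Groth.Agent.L22.EnrSev.H0
import Groth.Agent.L22.LinProj

/-!
# Uniform bounds on sections and regularity of modules with bounded slopes
-/

set_option autoImplicit false
set_option linter.style.haveILetI false
set_option linter.unusedSectionVars false
set_option backward.isDefEq.respectTransparency false
set_option backward.isDefEq.respectTransparency.types false

universe u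

open CategoryTheory CategoryTheory.Limits AlgebraicGeometry TopologicalSpace Opposite

noncomputable section

namespace Groth.L11.GM

open Groth.L22.Reg Groth.L11.Lemma179
open Groth.L00.Tensor (tensorRightF)
open Groth.L16
open Groth.L11.Slope (D1)

variable {k : Type u} [Field k] {n : ℕ}

theorem exists_frame_forms [Infinite k] {E : (Pn n k).Modules} (hE : Coh.IsCoh E) {e : ℕ} (hA : AssDim E (e + 1)) :
    ∃ (y0 : Form n k) (yo : Option (Fin e) → Form n k),
      (∀ x ∈ CohB1.support E, topologicalKrullDim (closure ({x} : Set (Pn n k))) = ((e + 1 : ℕ) : WithBot ℕ∞) → x ∈ Dy y0) ∧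
      ∀ x ∈ CohB1.support E, x ∈ Dy y0 ∨ ∃ o, x ∈ Proj.basicOpen (CohB1.polyGrading n k) (yo o).1 := by
  obtain ⟨y0, hy0⟩ := exists_form_avoiding (finite_avoid hE hA)
  have htop : ∀ x ∈ CohB1.support E, topologicalKrullDim (closure ({x} : Set (Pn n k))) = ((e + 1 : ℕ) : WithBot ℕ∞) →
      x ∈ Dy y0 := fun x hx hd => hy0 x (Or.inl (Or.inr ⟨hx, hd⟩))
  obtain ⟨f, hf⟩ := Groth.L22.LinProj.exists_forms (e + 1) (CohB1.support E \ (Dy y0 : Set (Pn n k)))
    ((CohSupport.isClosed_support E hE.2).sdiff (Dy y0).2) fun x hx => lt_of_le_of_ne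
      ((Groth.L03.Euler.topologicalKrullDim_set_mono (closure_minimal (Set.singleton_subset_iff.2 hx.1)
        (CohSupport.isClosed_support E hE.2))).trans (dim_le_of_assDim hE hA)) fun h => hx.2 (htop x hx.1 h)
  refine ⟨y0, fun o => f ((finSuccEquiv e).symm o), htop, fun x hx => ?_⟩
  by_cases h : x ∈ Dy y0
  · exact Or.inl h
  · obtain ⟨j, hj⟩ := Set.mem_iUnion.1 (hf ⟨hx, h⟩)
    exact Or.inr ⟨finSuccEquiv e j, by show x ∈ Proj.basicOpen _ (f ((finSuccEquiv e).symm (finSuccEquiv e j))).1; rw [Equiv.symm_apply_apply]; exact hj⟩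

/-- Very negative twists of a module without zero dimensional associated points have no sections. -/
theorem exists_h0t_neg [Infinite k] {E : (Pn n k).Modules} (hE : Coh.IsCoh E) {e : ℕ} (hA : AssDim E (e + 1)) :
    ∃ M : ℕ, ∀ j : ℕ, M ≤ j → h0t E (-(j : ℤ)) = 0 := by
  haveI := isProper_over_proj (k := k) (n := n)
  haveI := Groth.L11.Slope.noetherian_proj (k := k) (n := n)
  haveI := hE.1
  obtain ⟨y, hy⟩ := exists_form_avoiding (n := n) (k := k) (Groth.L22.EnrSev.finite_setOf_isAssPoint hE.2)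
  obtain ⟨a⟩ := nonempty_O_add (n := n) (R := k) (show (-1 : ℤ) + 1 = 0 by norm_num)
  obtain ⟨z⟩ := nonempty_O_zero n k
  obtain ⟨M, hM⟩ := Groth.L22.EnrSev.subsingleton_H0_tw (X := Pn n k) k (Q := Twist.twist (CohB1.polyGrading n k) ((1 : ℕ) : ℤ))
    (R := Lm n k) (a ≪≫ z) (ProjTwist.isInvertible_twistProjSpace n k 1) (ProjTwist.isInvertible_twistProjSpace n k (-1)) hE
    (fun x hx hass => by
      have h := hA x hass
      have h1 : topologicalKrullDim (closure ({x} : Set (Pn n k))) ≤ 0 :=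
        (Groth.L03.Euler.topologicalKrullDim_set_mono (closure_minimal (subset_refl _) hx)).trans
          (topologicalKrullDim_zero_of_discreteTopology _)
      rw [h] at h1
      have h2 : e + 1 ≤ 0 := by exact_mod_cast h1
      omega)
    (ProjTwist.sect (CohB1.polyGrading n k) y) (by
      rw [ProjTwist.genLocus_sect _ (hcov n k) y]
      exact Proj.isAffineOpen_basicOpen _ _ y.2 one_pos)
    (fun x hx => by rw [ProjTwist.genLocus_sect _ (hcov n k) y]; exact hy x hx)
  refine ⟨M, fun j hj => ?_⟩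
  have e1 : ∀ j : ℕ, Nonempty (Groth.L18.Ample.tw E (Lm n k) j ≅ tw' E (-(j : ℤ))) := by
    intro j
    induction j with
    | zero => exact ⟨((nonempty_tw_zero E).some).symm ≪≫ eqToIso (by norm_num)⟩
    | succ j ih =>
      obtain ⟨i⟩ := ih
      obtain ⟨i2⟩ := nonempty_tw_tw E (show -(j : ℤ) + -1 = -((j + 1 : ℕ) : ℤ) by omega)
      exact ⟨(tensorRightF (Lm n k)).mapIso i ≪≫ i2⟩
  obtain ⟨i⟩ := e1 j
  haveI := hM j hj
  rw [h0t_eq, ← finrank_HH_iso i 0]
  exact Module.finrank_zero_of_subsingleton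

/-- The bound on sections of a chain. -/
def secBound (α : ℤ) (m : ℕ) (t : ℤ) : ℕ := α.toNat * (t + m).toNat.choose (m + 1)

theorem secBound_step (α : ℤ) (m : ℕ) (t : ℤ) :
    secBound α (m + 1) (t - 1) + secBound α m t ≤ secBound α (m + 1) t := by
  unfold secBound
  rw [← Nat.mul_add]
  refine Nat.mul_le_mul_left _ ?_
  rw [show t - 1 + ((m + 1 : ℕ) : ℤ) = t + (m : ℤ) by push_cast; ring]
  rcases le_or_gt 0 (t + (m : ℤ)) with h | h
  · rw [show (t + ((m + 1 : ℕ) : ℤ)).toNat = (t + (m : ℤ)).toNat + 1 by omega, Nat.choose_succ_succ, add_comm]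
  · rw [show (t + (m : ℤ)).toNat = 0 by omega]
    simp

theorem h0t_le_of_chain [Infinite k] : ∀ (m : ℕ) (E T : (Pn n k).Modules), Chain m E T → Coh.IsCoh E →
    AssDim E (m + 1) → h0t T 0 = 0 → ∀ t : ℤ, h0t E t ≤ secBound (D1^[m + 1] (chiP E) 0) m t := by
  intro m E T h
  induction h with
  | refl E =>
    intro hE hA h0 t
    haveI := Groth.L11.Slope.noetherian_proj (k := k) (n := n)
    obtain ⟨ℓ, hℓ⟩ := exists_form_avoiding (n := n) (k := k) (finite_avoid hE hA)
    obtain ⟨hm, hTA⟩ := assDim_coker hE hA ℓ hℓ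
    haveI := hm
    let ι : CohB1.tensorMod E (Twist.twistProjSpace n k (-1)) ⟶ E := mu (sigmaF ℓ) E
    haveI : Mono ι := hm
    have hT : Coh.IsCoh (cokernel ι) := coh_coker hE ℓ
    have hTd : topologicalKrullDim (CohB1.support (cokernel ι)) ≤ ((0 : ℕ) : WithBot ℕ∞) := dim_le_of_assDim hT hTA
    have hconst : ∀ s : ℤ, (h0t (cokernel ι) s : ℤ) = D1^[1] (chiP E) 0 := fun s => by
      rw [← chiP_eq_h0t fun q hq => Groth.L11.Slope.subsingleton_above_dim hT hTd (by omega) s, chiP_hyp hE ι s]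
      exact (chiP_diff_lin hE (e := 0) (dim_le_of_assDim hE hA) s).2
    rcases le_or_gt t 0 with ht | ht
    · have := h0t_mono hE (-t).toNat t
      rw [show t + ((-t).toNat : ℤ) = 0 by omega, h0] at this
      omega
    · obtain ⟨a, rfl⟩ : ∃ a : ℕ, t = (a : ℤ) := ⟨t.toNat, by omega⟩
      clear ht
      simp only [secBound, Nat.cast_zero, add_zero, Int.toNat_natCast, Nat.choose_one_right, zero_add]
      induction a with
      | zero => rw [Nat.cast_zero, h0]; simp
      | succ a ih =>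
        have h1 := h0t_step hE ι ((a + 1 : ℕ) : ℤ)
        have h2 := hconst ((a + 1 : ℕ) : ℤ)
        rw [show ((a + 1 : ℕ) : ℤ) - 1 = (a : ℤ) by omega] at h1
        rw [Nat.mul_succ]
        omega
  | @step m E T g hg hA' hc ih =>
    intro hE hA h0
    haveI := hg
    let ι : CohB1.tensorMod E (Twist.twistProjSpace n k (-1)) ⟶ E := mu (sigmaF g) E
    haveI : Mono ι := hg
    have hα : D1^[m + 1] (chiP (cokernel ι)) 0 = D1^[m + 1 + 1] (chiP E) 0 := chiP_coker_diff hE ι _ 0
    have ih' := fun s => hα ▸ ih (coh_coker hE g) hA' h0 s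
    obtain ⟨M, hM⟩ := exists_h0t_neg hE hA
    suffices H : ∀ a : ℕ, h0t E (-(M : ℤ) + a) ≤ secBound (D1^[m + 1 + 1] (chiP E) 0) (m + 1) (-(M : ℤ) + a) by
      intro t
      rcases le_or_gt (-(M : ℤ)) t with ht | ht
      · have := H (t + M).toNat
        rwa [show -(M : ℤ) + ((t + M).toNat : ℤ) = t by omega] at this
      · rw [show t = -(((-t).toNat : ℕ) : ℤ) by omega, hM _ (by omega)]
        exact Nat.zero_le _
    intro a
    induction a with
    | zero => rw [Nat.cast_zero, add_zero, hM M le_rfl]; exact Nat.zero_le _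
    | succ a iha =>
      refine (h0t_step hE ι _).trans ((add_le_add ?_ (ih' _)).trans (secBound_step _ m _))
      rwa [show -(M : ℤ) + ((a + 1 : ℕ) : ℤ) - 1 = -(M : ℤ) + (a : ℤ) by omega]

/-- Regularity is bounded in terms of the Euler characteristics along a chain. -/
theorem exists_regular_of_chain : ∀ (m : ℕ) (g : ℤ → ℤ), ∃ M : ℤ, ∀ (k : Type u) [Field k] [Infinite k] (n : ℕ)
    (E T : (Pn n k).Modules), Chain m E T → Coh.IsCoh E → AssDim E (m + 1) → h0t T 0 = 0 → chiP E = g →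
      Regular E M := by
  intro m
  induction m with
  | zero =>
    intro g
    refine ⟨((secBound (D1^[1] g 0) 0 (-1) : ℤ) + |g (-1)|), fun k _ _ n E T hc hE hA h0 hg => ?_⟩
    haveI := Groth.L11.Slope.noetherian_proj (k := k) (n := n)
    obtain ⟨ℓ, hℓ⟩ := exists_form_avoiding (n := n) (k := k) (finite_avoid hE hA)
    obtain ⟨hm, hTA⟩ := assDim_coker hE hA ℓ hℓ
    let ι : CohB1.tensorMod E (Twist.twistProjSpace n k (-1)) ⟶ E := mu (sigmaF ℓ) E
    haveI : Mono ι := hm
    have hR : Regular (cokernel ι) 0 := fun q hq =>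
      Groth.L11.Slope.subsingleton_above_dim (coh_coker hE ℓ) (dim_le_of_assDim (coh_coker hE ℓ) hTA) (by omega) _
    refine (regular_hyp ι hE hR).of_le ?_
    have h1 := chiP_eq_sub (F := E) (t := (0 : ℤ) - 1) fun q hq => subsingleton_ge_two ι hE hR hq (by omega)
    have h2 := h0t_le_of_chain 0 E T hc hE hA h0 ((0 : ℤ) - 1)
    rw [hg] at h1 h2
    rw [show (0 : ℤ) - 1 = -1 by norm_num] at h1 h2 ⊢
    simp only [Nat.zero_add] at h2
    have := neg_abs_le (g (-1))
    omega
  | succ m ih =>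
    intro g
    obtain ⟨M, hM⟩ := ih (D1 g)
    refine ⟨M + ((secBound (D1^[m + 1 + 1] g 0) (m + 1) (M - 1) : ℤ) + |g (M - 1)|), fun k _ _ n E T hc hE hA h0 hg => ?_⟩
    cases hc with
    | step ℓ hm hA' hc' =>
      haveI := hm
      let ι : CohB1.tensorMod E (Twist.twistProjSpace n k (-1)) ⟶ E := mu (sigmaF ℓ) E
      haveI : Mono ι := hm
      have hR : Regular (cokernel ι) M := hM k n _ T hc' (coh_coker hE ℓ) hA' h0 (by rw [chiP_coker hE ℓ, hg])
      refine (regular_hyp ι hE hR).of_le ?_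
      have h1 := chiP_eq_sub (F := E) (t := M - 1) fun q hq => subsingleton_ge_two ι hE hR hq (by omega)
      have h2 := h0t_le_of_chain (m + 1) E T (Chain.step ℓ hm hA' hc') hE hA h0 (M - 1)
      rw [hg] at h1 h2
      have := neg_abs_le (g (M - 1))
      omega

variable [CharZero k]

/-- Bounded slopes give chains with no sections after a shift. -/
theorem exists_chain_shift {E : (Pn n k).Modules} (hE : Coh.IsCoh E) {e : ℕ} (hA : AssDim E (e + 1)) (b c : ℤ)
    (hc : b + D1^[e + 1] (chiP E) 0 - 1 ≤ c)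
    (hb : ∀ (G : (Pn n k).Modules) (ι : G ⟶ E), Mono ι → Coh.IsCoh G → ¬ IsZero G →
      D1^[e] (chiP G) 0 ≤ b * D1^[e + 1] (chiP G) 0) :
    ∃ T, Chain e (tw' E (-c)) T ∧ h0t T 0 = 0 := by
  haveI := Groth.L11.Slope.noetherian_proj (k := k) (n := n)
  haveI : Infinite k := Infinite.of_injective (fun n : ℕ => (n : k)) Nat.cast_injective
  let E' := tw' E (-c)
  have hE' : Coh.IsCoh E' := isCoh_tw hE _
  have hA' : AssDim E' (e + 1) := assDim_tw hA _
  obtain ⟨y0, yo, hy0, hyo⟩ := exists_frame_forms hE' hA'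
  have hchi : chiP E' = fun t => chiP E (-c + t) := funext fun t => chiP_tw E (-c) t
  have htop : D1^[e + 1] (chiP E') 0 = D1^[e + 1] (chiP E) 0 := by
    rw [hchi, D1_iter_shift, (chiP_diff_lin hE (dim_le_of_assDim hE hA) _).2]
  suffices H : ∀ (G : (Pn n k).Modules) (ι : G ⟶ E'), Mono ι → Coh.IsCoh G → ¬ IsZero G →
      D1^[e] (chiP G) 0 ≤ (b - c) * D1^[e + 1] (chiP G) 0 by
    obtain ⟨T, h1, -, h2⟩ := exists_line y0 yo hE' hA' hy0 hyo (b - c) H (by rw [htop]; omega)
    exact ⟨T, h1, h2⟩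
  intro G ι hι hG hG0
  haveI := hι
  haveI : Mono ((tensorRightF (O' n k c)).map ι) :=
    (shortExact_tw (S := ShortComplex.mk ι (cokernel.π ι) (cokernel.condition ι))
      { exact := ShortComplex.exact_cokernel ι } c).mono_f
  obtain ⟨eA⟩ := nonempty_tw_tw E (show -c + c = 0 by ring)
  obtain ⟨eB⟩ := nonempty_tw_zero E
  let u : tw' G c ⟶ E := (tensorRightF (O' n k c)).map ι ≫ (eA ≪≫ eB).hom
  haveI : Mono u := mono_comp _ _
  have hu0 : ¬ IsZero (tw' G c) := fun h => hG0 (by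
    obtain ⟨eC⟩ := nonempty_tw_tw G (show c + -c = 0 by ring)
    obtain ⟨eD⟩ := nonempty_tw_zero G
    exact isZero_of_iso_obj h (eC ≪≫ eD))
  have h := hb (tw' G c) u inferInstance (isCoh_tw hG c) hu0
  have hd : topologicalKrullDim (CohB1.support G) ≤ ((e + 1 : ℕ) : WithBot ℕ∞) :=
    (Groth.L03.Euler.topologicalKrullDim_set_mono (support_subset_of_mono ι)).trans (dim_le_of_assDim hE' hA')
  have hchiG : chiP (tw' G c) = fun t => chiP G (c + t) := funext fun t => chiP_tw G c t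
  rw [hchiG, D1_iter_shift, D1_iter_shift, add_zero, (chiP_diff_lin hG hd c).1, (chiP_diff_lin hG hd c).2] at h
  linarith

/-- Sections of modules with bounded slopes. -/
theorem h0t_le_of_slopes {E : (Pn n k).Modules} (hE : Coh.IsCoh E) {e : ℕ} (hA : AssDim E (e + 1)) (b : ℤ)
    (hb : ∀ (G : (Pn n k).Modules) (ι : G ⟶ E), Mono ι → Coh.IsCoh G → ¬ IsZero G →
      D1^[e] (chiP G) 0 ≤ b * D1^[e + 1] (chiP G) 0) (t : ℤ) :
    h0t E t ≤ secBound (D1^[e + 1] (chiP E) 0) e (t + (b + D1^[e + 1] (chiP E) 0 - 1)) := by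
  haveI : Infinite k := Infinite.of_injective (fun n : ℕ => (n : k)) Nat.cast_injective
  obtain ⟨T, h1, h2⟩ := exists_chain_shift hE hA b _ le_rfl hb
  set c := b + D1^[e + 1] (chiP E) 0 - 1
  have hchi : chiP (tw' E (-c)) = fun s => chiP E (-c + s) := funext fun s => chiP_tw E (-c) s
  have h := h0t_le_of_chain e _ T h1 (isCoh_tw hE _) (assDim_tw hA _) h2 (t + c)
  rw [hchi, D1_iter_shift, (chiP_diff_lin hE (dim_le_of_assDim hE hA) _).2] at h
  obtain ⟨i⟩ := nonempty_tw_tw E (show -c + (t + c) = t by ring)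
  rwa [h0t_eq, finrank_HH_iso i 0, ← h0t_eq] at h

/-- Modules with given characteristics and bounded slopes are uniformly regular. -/
theorem exists_regular_of_slopes (e : ℕ) (P : ℤ → ℤ) (b : ℤ) : ∃ M : ℤ, ∀ (k : Type u) [Field k] [CharZero k] (n : ℕ)
    (E : (Pn n k).Modules), Coh.IsCoh E → AssDim E (e + 1) → chiP E = P →
      (∀ (G : (Pn n k).Modules) (ι : G ⟶ E), Mono ι → Coh.IsCoh G → ¬ IsZero G →
        D1^[e] (chiP G) 0 ≤ b * D1^[e + 1] (chiP G) 0) → Regular E M := by
  let c := b + D1^[e + 1] P 0 - 1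
  obtain ⟨M, hM⟩ := exists_regular_of_chain.{u} e (fun s => P (-c + s))
  refine ⟨-c + M, fun k _ _ n E hE hA hP hb => ?_⟩
  haveI : Infinite k := Infinite.of_injective (fun n : ℕ => (n : k)) Nat.cast_injective
  obtain ⟨T, h1, h2⟩ := exists_chain_shift hE hA b _ le_rfl hb
  rw [hP] at h1
  exact regular_tw.1 (hM k n _ T h1 (isCoh_tw hE _) (assDim_tw hA _) h2 (funext fun s => by rw [chiP_tw, hP]))

end Groth.L11.GM
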