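import Groth.Agent.L11.GM.Sections
import Groth.Agent.L11.Lemma179.Sect
import Groth.Agent.L22.EnrSev.H0

/-!
# General lines by successive hyperplane sections
-/

set_option autoImplicit false
set_option linter.style.haveILetI false
set_option linter.unusedSectionVars false
set_option backward.isDefEq.respectTransparency false
set_option backward.isDefEq.respectTransparency.types false

universe u

open CategoryTheory CategoryTheory.Limits AlgebraicGeometry TopologicalSpace Opposite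

noncomputable section

namespace Groth.L11.GM

open Groth.L22.Reg Groth.L11.Lemma179
open Groth.L00.Tensor (tensorRightF)
open Groth.L16
open Groth.L11.Slope (D1)

variable {k : Type u} [Field k] {n : ℕ}

/-- A pure module cut down by general hyperplanes to dimension one. -/
inductive Chain : ℕ → (Pn n k).Modules → (Pn n k).Modules → Prop
  | refl (E : (Pn n k).Modules) : Chain 0 E E
  | step {m : ℕ} {E T : (Pn n k).Modules} (g : Form n k) (hmono : Mono (mu (sigmaF g) E))
      (hA : AssDim (cokernel (mu (sigmaF g) E)) (m + 1)) (h : Chain m (cokernel (mu (sigmaF g) E)) T) :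
      Chain (m + 1) E T

theorem finrank_hom_of_regular {M : (Pn n k).Modules} {N : ℕ} (hr : Regular M (N : ℤ)) {J : ℕ} (hJ : N ≤ J) :
    (Module.finrank k (Tp n k J ⟶ M) : ℤ) = chiP M J := by
  rw [finrank_hom, chiP_eq_h0t fun q hq => hr.subsingleton hq (by omega)]

theorem coh_coker {E : (Pn n k).Modules} (hE : Coh.IsCoh E) (g : Form n k) :
    Coh.IsCoh (cokernel (mu (sigmaF g) E)) := by
  haveI := Groth.L11.Slope.noetherian_proj (k := k) (n := n)
  exact (CohKernel.isCoh_kernel_cokernel (isCoh_tw hE (-1)) hE _).2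

theorem regular_coker {E : (Pn n k).Modules} {m : ℤ} (h : Regular E m) (g : Form n k) [Mono (mu (sigmaF g) E)] :
    Regular (cokernel (mu (sigmaF g) E)) m := by
  let ι : CohB1.tensorMod E (Twist.twistProjSpace n k (-1)) ⟶ E := mu (sigmaF g) E
  haveI : Mono ι := inferInstanceAs (Mono (mu (sigmaF g) E))
  exact regular_cokernel_hyp h ι

theorem chiP_coker {E : (Pn n k).Modules} (hE : Coh.IsCoh E) (g : Form n k) [Mono (mu (sigmaF g) E)] :
    chiP (cokernel (mu (sigmaF g) E)) = D1 (chiP E) := by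
  let ι : CohB1.tensorMod E (Twist.twistProjSpace n k (-1)) ⟶ E := mu (sigmaF g) E
  haveI : Mono ι := inferInstanceAs (Mono (mu (sigmaF g) E))
  exact funext fun t => chiP_hyp hE ι t

/-- Sections of a hyperplane section lift in high degrees. -/
theorem lift_coker {E : (Pn n k).Modules} (hE : Coh.IsCoh E) {N : ℕ} (hr : Regular E (N : ℤ)) (g : Form n k)
    [Mono (mu (sigmaF g) E)] {J : ℕ} (hJ : N + 1 ≤ J) (χ : Tp n k J ⟶ cokernel (mu (sigmaF g) E)) :
    ∃ ξ : Tp n k J ⟶ E, ξ ≫ cokernel.π (mu (sigmaF g) E) = χ := by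
  obtain ⟨J, rfl⟩ : ∃ a, J = a + 1 := ⟨J - 1, by omega⟩
  haveI := finite_hom hE (J + 1)
  haveI := finite_hom hE J
  haveI := finite_hom (coh_coker hE g) (J + 1)
  let G : (Tp n k (J + 1) ⟶ E) →ₗ[k] (Tp n k (J + 1) ⟶ cokernel (mu (sigmaF g) E)) :=
    Linear.rightComp k (Tp n k (J + 1)) (cokernel.π (mu (sigmaF g) E))
  have hker : LinearMap.ker G ≤ LinearMap.range (mulF g E J) := fun ψ hψ => exists_mulF_eq g ψ hψ
  have h1 := LinearMap.finrank_range_add_finrank_ker G
  have h2 := (Submodule.finrank_mono hker).trans (LinearMap.finrank_range_le (mulF g E J))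
  have h3 := Submodule.finrank_le (LinearMap.range G)
  have hT := finrank_hom_of_regular (regular_coker hr g) (show N ≤ J + 1 by omega)
  have hA := finrank_hom_of_regular hr (show N ≤ J + 1 by omega)
  have hB := finrank_hom_of_regular hr (show N ≤ J by omega)
  rw [chiP_coker hE g, Slope.D1, show ((J + 1 : ℕ) : ℤ) - 1 = (J : ℤ) by omega] at hT
  have htop : LinearMap.range G = ⊤ := Submodule.eq_top_of_finrank_eq (by omega)
  exact LinearMap.range_eq_top.1 htop χ

variable (y0 w : Form n k) {m : ℕ} (u : Fin m → Form n k)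

/-- The forms vanishing on a line. -/
def lineForm (p : Fin m ⊕ Fin m → k) (i : Fin m) : Form n k :=
  u i - p (Sum.inl i) • y0 - p (Sum.inr i) • w

/-- The restriction of `E ⟶ Q` to a line. -/
structure Cut (e : ℕ) (y0 w : Form n k) (h : Fin e → Form n k) (N : ℕ) (E Q : (Pn n k).Modules) (q : E ⟶ Q) where
  T : (Pn n k).Modules
  R1 : (Pn n k).Modules
  π : E ⟶ T
  π' : Q ⟶ R1
  q1 : T ⟶ R1
  chain : Chain e E T
  cohT : Coh.IsCoh T
  cohR : Coh.IsCoh R1
  assT : AssDim T 1
  assR : AssDim R1 1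
  epi : Epi q1
  comm : π ≫ q1 = q ≫ π'
  topT : ∀ x ∈ CohB1.support T, topologicalKrullDim (closure ({x} : Set (Pn n k))) = ((1 : ℕ) : WithBot ℕ∞) → x ∈ Dy y0
  topR : ∀ x ∈ CohB1.support R1, topologicalKrullDim (closure ({x} : Set (Pn n k))) = ((1 : ℕ) : WithBot ℕ∞) → x ∈ Dy y0
  coverT : ∀ x ∈ CohB1.support T, x ∈ Dy y0 ∨ x ∈ Proj.basicOpen (CohB1.polyGrading n k) w.1
  coverR : ∀ x ∈ CohB1.support R1, x ∈ Dy y0 ∨ x ∈ Proj.basicOpen (CohB1.polyGrading n k) w.1
  chiT : chiP T = D1^[e] (chiP E)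
  chiR : chiP R1 = D1^[e] (chiP Q)
  regT : Regular T (N : ℤ)
  regR : Regular R1 (N : ℤ)
  kills : ∀ i j (φ : Tp n k j ⟶ E), coef y0 (h i) • π.app (Dy y0) (eta y0 j φ) = 0
  lift : ∀ J, N + 1 ≤ J → ∀ χ : Tp n k J ⟶ T, ∃ ξ : Tp n k J ⟶ E, ξ ≫ π = χ
  liftR : ∀ J, N + 1 ≤ J → ∀ χ : Tp n k J ⟶ R1, ∃ ξ : Tp n k J ⟶ Q, ξ ≫ π' = χ
  ker : ∀ J, N + 1 ≤ J → ∀ ξ : Tp n k (J + 1) ⟶ E, ξ ≫ π = 0 →
    ∃ ψ : Fin e → (Tp n k J ⟶ E), eta y0 (J + 1) ξ = ∑ i, coef y0 (h i) • eta y0 J (ψ i)

theorem support_coker {E : (Pn n k).Modules} (g : Form n k) {x : Pn n k}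
    (hx : x ∈ CohB1.support (cokernel (mu (sigmaF g) E))) :
    x ∈ CohB1.support E ∧ g ∈ vanAt x := by
  refine ⟨Groth.L11.Slope.support_subset_of_epi (cokernel.π (mu (sigmaF g) E)) hx, mem_vanAt.2 fun hb => hx ?_⟩
  refine subsingleton_of_forall_eq 0 fun v => ?_
  obtain ⟨e, he⟩ := (Groth.L21.Mod.epi_iff_stalk_surjective (cokernel.π (mu (sigmaF g) E))).1 inferInstance x v
  obtain ⟨a, rfl⟩ := (bijective_mu x (sigmaF g) (bijective_sigmaF g hb) E).2 e
  rw [← he]
  show sm x (cokernel.π (mu (sigmaF g) E)) (sm x (mu (sigmaF g) E) a) = 0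
  rw [← sm_comp, cokernel.condition, sm_zero]

theorem coef_sub_smul (f g : Form n k) (a : k) :
    coef y0 (f - a • g) = coef y0 f - scalD y0 a * coef y0 g := by
  rw [← coef_smul]
  exact map_sub (coefL y0) f (a • g)

theorem coef_sum {ι : Type*} (s : Finset ι) (f : ι → Form n k) : coef y0 (∑ i ∈ s, f i) = ∑ i ∈ s, coef y0 (f i) :=
  map_sum (coefL y0) f s

/-- General lines exist off any hypersurface of parameters. -/
theorem exists_cut [Infinite k] (N : ℕ) : ∀ (m : ℕ) (u : Fin m → Form n k) (C : P0 k m), C ≠ 0 →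
    ∀ (E Q : (Pn n k).Modules) (q : E ⟶ Q) [Epi q], Coh.IsCoh E → Coh.IsCoh Q → AssDim E (m + 1) → AssDim Q (m + 1) →
      Regular E (N : ℤ) → Regular Q (N : ℤ) →
      (∀ x ∈ CohB1.support E, y0 ∈ vanAt x → w ∈ vanAt x → ∃ i, u i ∉ vanAt x) →
      (∀ x ∈ CohB1.support E, topologicalKrullDim (closure ({x} : Set (Pn n k))) = ((m + 1 : ℕ) : WithBot ℕ∞) → x ∈ Dy y0) →
      ∃ p : Fin m ⊕ Fin m → k, MvPolynomial.eval p C ≠ 0 ∧ Nonempty (Cut m y0 w (lineForm y0 w u p) N E Q q)
  | 0, u, C, hC, E, Q, q, _, hcE, hcQ, hAE, hAQ, hrE, hrQ, hcov, htop => by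
    have hcov' : ∀ x ∈ CohB1.support E, x ∈ Dy y0 ∨ x ∈ Proj.basicOpen (CohB1.polyGrading n k) w.1 := fun x hx => by
      by_contra hcon
      rw [not_or] at hcon
      obtain ⟨i, -⟩ := hcov x hx (mem_vanAt.2 hcon.1) (mem_vanAt.2 hcon.2)
      exact i.elim0
    refine ⟨fun i => i.elim Fin.elim0 Fin.elim0, fun h => hC ?_, ⟨⟨E, Q, 𝟙 E, 𝟙 Q, q, Chain.refl E, hcE, hcQ, hAE, hAQ,
      inferInstance, by rw [Category.id_comp, Category.comp_id], htop,
      fun x hx => htop x (Groth.L11.Slope.support_subset_of_epi q hx), hcov',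
      fun x hx => hcov' x (Groth.L11.Slope.support_subset_of_epi q hx), rfl, rfl, hrE, hrQ, fun i => i.elim0,
      fun J _ χ => ⟨χ, Category.comp_id χ⟩, fun J _ χ => ⟨χ, Category.comp_id χ⟩, fun J _ ξ hξ => ?_⟩⟩⟩
    · exact MvPolynomial.funext fun z => by
        rw [show z = fun i => i.elim Fin.elim0 Fin.elim0 from funext fun i => i.elim Fin.elim0 Fin.elim0, h, map_zero]
    · rw [Category.comp_id] at hξ
      exact ⟨Fin.elim0, by rw [hξ, map_zero]; simp⟩
  | m + 1, u, C, hC, E, Q, q, _, hcE, hcQ, hAE, hAQ, hrE, hrQ, hcov, htop => by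
    classical
    haveI := Groth.L11.Slope.noetherian_proj (k := k) (n := n)
    open MvPolynomial in
    let τ : Fin (m + 1) ⊕ Fin (m + 1) → MvPolynomial ((Fin 2 ⊕ Fin m) ⊕ (Fin m ⊕ Fin m)) k :=
      Sum.elim (Fin.cons (X (Sum.inl (Sum.inl 0)) + ∑ l : Fin m, X (Sum.inl (Sum.inr l)) * X (Sum.inr (Sum.inl l)))
          fun l => X (Sum.inr (Sum.inl l)))
        (Fin.cons (X (Sum.inl (Sum.inl 1)) + ∑ l : Fin m, X (Sum.inl (Sum.inr l)) * X (Sum.inr (Sum.inr l)))
          fun l => X (Sum.inr (Sum.inr l)))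
    let C' : MvPolynomial ((Fin 2 ⊕ Fin m) ⊕ (Fin m ⊕ Fin m)) k := MvPolynomial.aeval τ C
    have heval : ∀ z, MvPolynomial.eval z C' = MvPolynomial.eval (fun i => MvPolynomial.eval z (τ i)) C := fun z => by
      rw [← MvPolynomial.aeval_eq_eval, ← MvPolynomial.aeval_eq_eval]
      exact MvPolynomial.comp_aeval_apply _ (MvPolynomial.aeval z) C
    obtain ⟨p₀, hp₀⟩ : ∃ p, MvPolynomial.eval p C ≠ 0 := by
      by_contra hall
      push Not at hall
      exact hC (MvPolynomial.funext fun z => by rw [hall z, map_zero])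
    have hC' : C' ≠ 0 := fun h0 => hp₀ (by
      have h1 := heval (Sum.elim (Sum.elim ![p₀ (Sum.inl 0), p₀ (Sum.inr 0)] fun _ => 0)
        (Sum.elim (fun l => p₀ (Sum.inl l.succ)) fun l => p₀ (Sum.inr l.succ)))
      rw [h0, map_zero] at h1
      rw [h1]
      congr 1
      refine congrArg MvPolynomial.eval (funext fun i => ?_)
      rcases i with i | i <;> refine Fin.cases ?_ (fun l => ?_) i <;> simp [τ])
    let Z : Set (Pn n k) := CohB1.support E ∩ ((Dy y0 : Set (Pn n k)))ᶜ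
    have hZc : IsClosed Z := (CohSupport.isClosed_support E hcE.2).inter (Dy y0).isOpen.isClosed_compl
    have hZd : topologicalKrullDim Z ≤ ((m + 1 : ℕ) : WithBot ℕ∞) := by
      refine le_of_not_gt fun hlt => ?_
      have h1 : ((m + 2 : ℕ) : WithBot ℕ∞) ≤ topologicalKrullDim Z := by
        generalize topologicalKrullDim Z = D at hlt
        induction D using WithBot.recBotCoe with
        | bot => exact absurd hlt (by simp)
        | coe D =>
          have h2 : ((m + 1 : ℕ) : ℕ∞) < D := WithBot.coe_lt_coe.1 hlt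
          have h3 := Order.add_one_le_of_lt h2
          show ((((m + 2 : ℕ) : ℕ∞)) : WithBot ℕ∞) ≤ (D : WithBot ℕ∞)
          exact WithBot.coe_le_coe.2 (by exact_mod_cast h3)
      obtain ⟨y, hy, hyd⟩ := Groth.L03.Euler.exists_point_dim_closure_ge hZc h1
      exact hy.2 (htop y hy.1 (le_antisymm ((Groth.L03.Euler.topologicalKrullDim_set_mono (closure_minimal
        (Set.singleton_subset_iff.2 hy.1) (CohSupport.isClosed_support E hcE.2))).trans (dim_le_of_assDim hcE hAE)) hyd))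
    let S : Set (Pn n k) := (avoid E (m + 1) ∪ avoid Q (m + 1) ∪
      {x | x ∈ Z ∧ topologicalKrullDim (closure ({x} : Set (Pn n k))) = ((m + 1 : ℕ) : WithBot ℕ∞)}) ∩ CohB1.support E
    haveI := isProper_over_proj (k := k) (n := n)
    have hSfin : S.Finite := (((finite_avoid hcE hAE).union (finite_avoid hcQ hAQ)).union
      (Groth.L22.Inter.finite_top hZc hZd)).inter_of_left _
    have hL : ∀ x ∈ S, ∃ L : MvPolynomial ((Fin 2 ⊕ Fin m) ⊕ (Fin m ⊕ Fin m)) k, L ≠ 0 ∧
        ∀ z, MvPolynomial.eval z L ≠ 0 → u 0 - z (Sum.inl (Sum.inl 0)) • y0 - z (Sum.inl (Sum.inl 1)) • w -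
          ∑ l : Fin m, z (Sum.inl (Sum.inr l)) • u l.succ ∉ vanAt x := by
      intro x hx
      have hne : y0 ∉ vanAt x ∨ w ∉ vanAt x ∨ ∃ i, u i ∉ vanAt x := by
        by_contra hcon
        simp only [not_or, not_exists, not_not] at hcon
        obtain ⟨i, hi⟩ := hcov x hx.2 hcon.1 hcon.2.1
        exact hi (hcon.2.2 i)
      obtain ⟨f, hf⟩ : ∃ f, f ∉ vanAt x ∧ (f = y0 ∨ f = w ∨ ∃ i, f = u i) := by
        rcases hne with h | h | ⟨i, h⟩
        · exact ⟨y0, h, Or.inl rfl⟩
        · exact ⟨w, h, Or.inr (Or.inl rfl)⟩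
        · exact ⟨u i, h, Or.inr (Or.inr ⟨i, rfl⟩)⟩
      obtain ⟨φ, hφf, hφ⟩ := Submodule.exists_le_ker_of_notMem hf.1
      open MvPolynomial in
      refine ⟨MvPolynomial.C (φ (u 0)) - MvPolynomial.C (φ y0) * X (Sum.inl (Sum.inl 0)) - MvPolynomial.C (φ w) * X (Sum.inl (Sum.inl 1)) -
        ∑ l : Fin m, MvPolynomial.C (φ (u l.succ)) * X (Sum.inl (Sum.inr l)), fun h0 => ?_, fun z hz hmem => hz ?_⟩
      · have hz : ∀ z : (Fin 2 ⊕ Fin m) ⊕ (Fin m ⊕ Fin m) → k, φ (u 0) - φ y0 * z (Sum.inl (Sum.inl 0)) -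
            φ w * z (Sum.inl (Sum.inl 1)) - ∑ l : Fin m, φ (u l.succ) * z (Sum.inl (Sum.inr l)) = 0 := fun z => by
          simpa using congrArg (eval z) h0
        have e0 : φ (u 0) = 0 := by simpa using hz 0
        rcases hf.2 with rfl | rfl | ⟨i, rfl⟩
        · exact hφf (by simpa [e0] using hz (Pi.single (Sum.inl (Sum.inl 0)) 1))
        · exact hφf (by simpa [e0] using hz (Pi.single (Sum.inl (Sum.inl 1)) 1))
        · induction i using Fin.cases with
          | zero => exact hφf e0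
          | succ l => exact hφf (by simpa [e0, Pi.single_apply] using hz (Pi.single (Sum.inl (Sum.inr l)) 1))
      · have h0 := LinearMap.mem_ker.1 (hφ hmem)
        simp only [map_sub, map_sum, map_smul, smul_eq_mul] at h0
        rw [← h0]
        simp [mul_comm]
    choose L hL0 hL using hL
    haveI := hSfin.fintype
    have hprod : C' * ∏ x : S, L x.1 x.2 ≠ 0 :=
      mul_ne_zero hC' (Finset.prod_ne_zero_iff.2 fun x _ => hL0 x.1 x.2)
    obtain ⟨z, hz⟩ : ∃ z, MvPolynomial.eval z (C' * ∏ x : S, L x.1 x.2) ≠ 0 := by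
      by_contra hall
      push Not at hall
      exact hprod (MvPolynomial.funext fun z => by rw [hall z, map_zero])
    rw [map_mul, mul_ne_zero_iff, map_prod, Finset.prod_ne_zero_iff] at hz
    let g : Form n k := u 0 - z (Sum.inl (Sum.inl 0)) • y0 - z (Sum.inl (Sum.inl 1)) • w -
      ∑ l : Fin m, z (Sum.inl (Sum.inr l)) • u l.succ
    have hgS : ∀ x ∈ S, x ∈ Proj.basicOpen (CohB1.polyGrading n k) g.1 := fun x hx =>
      not_not.1 fun hb => hL x hx z (hz.2 ⟨x, hx⟩ (Finset.mem_univ _)) (mem_vanAt.2 hb)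
    have hsuppQ : CohB1.support Q ⊆ CohB1.support E := Groth.L11.Slope.support_subset_of_epi q
    have havoidE : ∀ x ∈ avoid E (m + 1), x ∈ CohB1.support E := by
      rintro x ((hx | hx) | hx)
      · exact mem_support_of_isAssPoint hx
      · exact hx.1
      · obtain ⟨c, -, hc⟩ := Set.mem_iUnion₂.1 hx
        exact hc.1
    have havoidQ : ∀ x ∈ avoid Q (m + 1), x ∈ CohB1.support Q := by
      rintro x ((hx | hx) | hx)
      · exact mem_support_of_isAssPoint hx
      · exact hx.1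
      · obtain ⟨c, -, hc⟩ := Set.mem_iUnion₂.1 hx
        exact hc.1
    obtain ⟨hmE, hAE'⟩ := assDim_coker hcE hAE g fun x hx => hgS x ⟨Or.inl (Or.inl hx), havoidE x hx⟩
    obtain ⟨hmQ, hAQ'⟩ := assDim_coker hcQ hAQ g fun x hx => hgS x ⟨Or.inl (Or.inr hx), hsuppQ (havoidQ x hx)⟩
    let E' := cokernel (mu (sigmaF g) E)
    let Q' := cokernel (mu (sigmaF g) Q)
    let q' : E' ⟶ Q' := cokernel.map (mu (sigmaF g) E) (mu (sigmaF g) Q)
      ((tensorRightF (O' n k (-1))).map q) q (mu_natural (sigmaF g) q).symm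
    have hq' : cokernel.π (mu (sigmaF g) E) ≫ q' = q ≫ cokernel.π (mu (sigmaF g) Q) := cokernel.π_desc _ _ _
    haveI : Epi q' := epi_of_epi_fac hq'
    open MvPolynomial in
    let C1 : P0 k m := aeval (Sum.elim (fun i => MvPolynomial.C (z (Sum.inl i))) fun i => X i) C'
    have heval1 : ∀ p, MvPolynomial.eval p C1 = MvPolynomial.eval (Sum.elim (fun i => z (Sum.inl i)) p) C' := fun p => by
      rw [← MvPolynomial.aeval_eq_eval, ← MvPolynomial.aeval_eq_eval]
      refine (MvPolynomial.comp_aeval_apply _ (MvPolynomial.aeval p) C').trans ?_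
      exact congrArg (fun φ => MvPolynomial.aeval φ C') (funext fun i => by rcases i with i | i <;> simp)
    have hC1 : C1 ≠ 0 := fun h0 => hz.1 (by
      have h1 := heval1 (fun i => z (Sum.inr i))
      rw [h0, map_zero, show Sum.elim (fun i => z (Sum.inl i)) (fun i => z (Sum.inr i)) = z from
        funext fun i => by rcases i with i | i <;> rfl] at h1
      exact h1.symm)
    have hcov' : ∀ x ∈ CohB1.support E', y0 ∈ vanAt x → w ∈ vanAt x → ∃ l : Fin m, u l.succ ∉ vanAt x := by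
      intro x hx hy hw
      obtain ⟨hxE, hg⟩ := support_coker g hx
      by_contra hcon
      push Not at hcon
      obtain ⟨i, hi⟩ := hcov x hxE hy hw
      refine hi ?_
      induction i using Fin.cases with
      | zero =>
        have := add_mem (add_mem (add_mem hg (Submodule.smul_mem _ (z (Sum.inl (Sum.inl 0))) hy))
          (Submodule.smul_mem _ (z (Sum.inl (Sum.inl 1))) hw))
          (Submodule.sum_mem _ (t := Finset.univ) fun l _ => Submodule.smul_mem _ (z (Sum.inl (Sum.inr l))) (hcon l))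
        simpa only [g, sub_add_eq_add_sub, sub_add_cancel, add_sub_cancel_right] using
          (show u 0 ∈ vanAt x from by convert this using 1; simp only [g]; abel)
      | succ l => exact hcon l
    have htop' : ∀ x ∈ CohB1.support E', topologicalKrullDim (closure ({x} : Set (Pn n k))) =
        ((m + 1 : ℕ) : WithBot ℕ∞) → x ∈ Dy y0 := fun x hx hd => by
      obtain ⟨hxE, hg⟩ := support_coker g hx
      by_contra hD
      exact mem_vanAt.1 hg (hgS x ⟨Or.inr ⟨⟨hxE, hD⟩, hd⟩, hxE⟩)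
    obtain ⟨p', hp', ⟨c⟩⟩ := exists_cut N m (fun l => u l.succ) C1 hC1 E' Q' q' (coh_coker hcE g) (coh_coker hcQ g)
      hAE' hAQ' (regular_coker hrE g) (regular_coker hrQ g) hcov' htop'
    let a : Fin m → k := fun l => z (Sum.inl (Sum.inr l))
    let p : Fin (m + 1) ⊕ Fin (m + 1) → k := fun i => MvPolynomial.eval (Sum.elim (fun i => z (Sum.inl i)) p') (τ i)
    let hh : Fin m → Form n k := lineForm y0 w (fun l => u l.succ) p'
    have hsucc : ∀ l, lineForm y0 w u p l.succ = hh l := fun l => by simp [lineForm, hh, p, τ]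
    have hzero : lineForm y0 w u p 0 = g + ∑ l, a l • hh l := by
      simp only [lineForm, hh, p, τ, g, a, smul_sub, smul_smul, Finset.sum_sub_distrib, Sum.elim_inl, Sum.elim_inr,
        Fin.cons_zero, map_add, map_sum, map_mul, MvPolynomial.eval_X, add_smul, Finset.sum_smul]
      abel
    refine ⟨p, by rw [← heval, ← heval1]; exact hp', ⟨⟨c.T, c.R1, cokernel.π (mu (sigmaF g) E) ≫ c.π,
      cokernel.π (mu (sigmaF g) Q) ≫ c.π', c.q1, Chain.step g hmE hAE' c.chain, c.cohT, c.cohR, c.assT, c.assR,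
      c.epi, by rw [Category.assoc, c.comm, reassoc_of% hq'], c.topT, c.topR, c.coverT, c.coverR, ?_, ?_, c.regT, c.regR,
      fun i j φ => ?_, fun J hJ χ => ?_, fun J hJ χ => ?_, fun J hJ ξ hξ => ?_⟩⟩⟩
    · rw [c.chiT, chiP_coker hcE g, ← Function.iterate_succ_apply]
    · rw [c.chiR, chiP_coker hcQ g, ← Function.iterate_succ_apply]
    · have hk : ∀ l, coef y0 (hh l) •
          (cokernel.π (mu (sigmaF g) E) ≫ c.π).app (Dy y0) (eta y0 j φ) = 0 := fun l => by
        rw [← eta_comp, ← Category.assoc, eta_comp]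
        exact c.kills l j (φ ≫ cokernel.π (mu (sigmaF g) E))
      have hg0 : coef y0 g • (cokernel.π (mu (sigmaF g) E) ≫ c.π).app (Dy y0) (eta y0 j φ) = 0 := by
        rw [← Scheme.Modules.Hom.app_smul, ← eta_mulF, ← eta_comp, mulF_apply, Category.assoc,
          reassoc_of% (mu_natural (sigmaF g) φ).symm, cokernel.condition_assoc, zero_comp, comp_zero, map_zero]
      induction i using Fin.cases with
      | zero =>
        rw [hzero, coef_add, coef_sum, add_smul, hg0, zero_add, Finset.sum_smul]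
        exact Finset.sum_eq_zero fun l _ => by rw [coef_smul, mul_smul, hk, smul_zero]
      | succ l => rw [hsucc]; exact hk l
    · obtain ⟨ξ', rfl⟩ := c.lift J hJ χ
      obtain ⟨ξ, rfl⟩ := lift_coker hcE hrE g hJ ξ'
      exact ⟨ξ, (Category.assoc _ _ _).symm⟩
    · obtain ⟨ξ', rfl⟩ := c.liftR J hJ χ
      obtain ⟨ξ, rfl⟩ := lift_coker hcQ hrQ g hJ ξ'
      exact ⟨ξ, (Category.assoc _ _ _).symm⟩
    · obtain ⟨ψ', hψ'⟩ := c.ker J hJ (ξ ≫ cokernel.π (mu (sigmaF g) E)) (by rw [Category.assoc]; exact hξ)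
      choose ψ hψ using fun l => lift_coker hcE hrE g hJ (ψ' l)
      obtain ⟨ψ0, hψ0⟩ : ∃ ψ0 : Tp n k J ⟶ E,
          eta y0 (J + 1) ξ - ∑ l, coef y0 (hh l) • eta y0 J (ψ l) = coef y0 g • eta y0 J ψ0 := by
        have hv : (ξ - ∑ l, mulF (hh l) E J (ψ l)) ≫ cokernel.π (mu (sigmaF g) E) = 0 := by
          refine eq_zero_of_eta y0 (coh_coker hcE g) (fun x hx => ?_) ?_
          · exact htop' x (mem_support_of_isAssPoint hx) (hAE' x hx)
          · rw [Preadditive.sub_comp, Preadditive.sum_comp, map_sub, map_sum, hψ']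
            simp only [← mulF_comp, hψ, eta_mulF]
            exact sub_self _
        obtain ⟨ψ0, hψ0⟩ := exists_mulF_eq g _ hv
        refine ⟨ψ0, ?_⟩
        rw [← eta_mulF, hψ0, map_sub, map_sum]
        simp [eta_mulF]
      refine ⟨Fin.cons ψ0 fun l => ψ l - a l • ψ0, ?_⟩
      rw [Fin.sum_univ_succ]
      simp only [Fin.cons_zero, Fin.cons_succ, hzero, hsucc, coef_add, coef_sum, coef_smul, add_smul, map_sub,
        eta_smul, smul_sub, Finset.sum_sub_distrib, Finset.sum_smul, smul_smul]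
      rw [sub_eq_iff_eq_add.1 hψ0]
      simp only [mul_comm (coef y0 (hh _)) (scalD y0 (a _))]
      abel

end Groth.L11.GM
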