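import Groth.Agent.L11.GM.Twist
import Groth.Agent.L16.ProjSpace.Sections

/-!
# Functions on a chart are polynomials in the dehomogenised coordinates
-/

set_option autoImplicit false
set_option linter.style.haveILetI false
set_option linter.unusedSectionVars false
set_option backward.isDefEq.respectTransparency false
set_option backward.isDefEq.respectTransparency.types false

universe u

open CategoryTheory CategoryTheory.Limits AlgebraicGeometry TopologicalSpace Opposite

noncomputable section

namespace Groth.L11.GM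

open Groth.L22.Reg
open Groth.L18.GenLoc (tens tens_smul_left)
open Groth.L18.Frame (rs)
open Groth.L16

variable {k : Type u} [Field k] {n : ℕ} (y0 : Form n k)

local notation "𝒜" => CohB1.polyGrading n k

/-- The fraction `f / y₀`. -/
def awF (f : Form n k) : HomogeneousLocalization.Away 𝒜 y0.1 :=
  HomogeneousLocalization.Away.mk 𝒜 y0.2 1 f.1 (by rw [one_smul]; exact f.2)

theorem coef_eq_away (f : Form n k) :
    coef y0 f = (show Γ(Pn n k, Dy y0) from Proj.awayToSection 𝒜 y0.1 (awF y0 f)) := by
  let c : Γ(Pn n k, Dy y0) := Proj.awayToSection 𝒜 y0.1 (awF y0 f)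
  have h : (rs (Twist.twist 𝒜 ((1 : ℕ) : ℤ)) (le_top : Dy y0 ≤ ⊤) (Twist.globalOf 𝒜 f)) =
      c • rs (Twist.twist 𝒜 ((1 : ℕ) : ℤ)) (le_top : Dy y0 ≤ ⊤) (Twist.globalOf 𝒜 y0) := by
    refine Subtype.ext (funext fun x => Subtype.ext ?_)
    refine Eq.trans ?_ (Twist.coe_smul_val _ x.1 ((show Twist.O (op (Dy y0)) from c).1 x) _).symm
    erw [ProjectiveSpectrum.Proj.awayToSection_apply, HomogeneousLocalization.Away.val_mk]
    rw [Localization.mk_eq_mk', IsLocalization.map_mk']
    erw [← Localization.mk_eq_mk']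
    show Localization.mk f.1 _ = Localization.mk _ _ * Localization.mk y0.1 _
    rw [Localization.mk_mul, Localization.mk_eq_mk_iff, Localization.r_iff_exists]
    exact ⟨1, by simp [mul_comm]⟩
  show coef y0 f = c
  rw [coef_eq]
  refine (congrArg _ ((congrArg (fun z => tens _ (Lm n k) (Dy y0) z (eps y0)) h).trans (tens_smul_left _ _ _))).trans ?_
  refine (Scheme.Modules.Hom.app_smul _ _ _).trans ?_
  rw [← coef_eq, coef_self]
  exact mul_one c

theorem away_const (a : k) : scalD y0 a = (show Γ(Pn n k, Dy y0) from Proj.awayToSection 𝒜 y0.1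
    (HomogeneousLocalization.fromZeroRingHom 𝒜 _ (algebraMap k (𝒜 0) a))) := by
  refine Subtype.ext (funext fun x => ?_)
  refine HomogeneousLocalization.val_injective _ ?_
  refine (ProjSpace.toGlobal_apply_val (n := n) a ⟨x.1, trivial⟩).trans ?_
  erw [ProjectiveSpectrum.Proj.awayToSection_apply, HomogeneousLocalization.val_mk]
  rw [Localization.mk_eq_mk', Localization.mk_eq_mk', IsLocalization.map_mk']
  rfl

/-- Every function on the chart is a polynomial in the dehomogenised coordinates. -/
theorem exists_eval (c : Γ(Pn n k, Dy y0)) : ∃ N : MvPolynomial (Fin (n + 1)) k,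
    c = MvPolynomial.eval₂ (scalD y0) (fun i => coef y0 ⟨MvPolynomial.X i, ProjSpace.X_mem n k i⟩) N := by
  obtain ⟨z, hz⟩ := (ConcreteCategory.bijective_of_isIso
    (Proj.basicOpenIsoAway 𝒜 y0.1 y0.2 one_pos).hom).2 c
  obtain ⟨m, N, hN, rfl⟩ := HomogeneousLocalization.Away.mk_surjective 𝒜 y0.2 z
  refine ⟨N, hz.symm.trans ?_⟩
  let Φ : HomogeneousLocalization.Away 𝒜 y0.1 →+* Γ(Pn n k, Dy y0) := (Proj.awayToSection 𝒜 y0.1).hom
  have hC : scalD y0 = Φ.comp ((HomogeneousLocalization.fromZeroRingHom 𝒜 _).comp (algebraMap k (𝒜 0))) :=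
    RingHom.ext fun a => away_const y0 a
  have hX : (fun i => coef y0 ⟨MvPolynomial.X i, ProjSpace.X_mem n k i⟩) =
      Φ ∘ fun i => awF y0 ⟨MvPolynomial.X i, ProjSpace.X_mem n k i⟩ := funext fun i => coef_eq_away y0 _
  rw [hC, hX, ← MvPolynomial.eval₂_comp_left]
  refine congrArg Φ (HomogeneousLocalization.val_injective _ ?_)
  rw [HomogeneousLocalization.Away.val_mk]
  let ι := algebraMap (HomogeneousLocalization.Away 𝒜 y0.1) (Localization.Away y0.1)
  show _ = ι _
  rw [MvPolynomial.eval₂_comp_left]
  let u : Localization.Away y0.1 := Localization.mk 1 ⟨y0.1, 1, pow_one _⟩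
  have hg : ι.comp ((HomogeneousLocalization.fromZeroRingHom 𝒜 _).comp (algebraMap k (𝒜 0))) =
      (algebraMap (MvPolynomial (Fin (n + 1)) k) (Localization.Away y0.1)).comp MvPolynomial.C :=
    RingHom.ext fun a => rfl
  have hu : (ι ∘ fun i => awF y0 ⟨MvPolynomial.X i, ProjSpace.X_mem n k i⟩) =
      fun i => u * algebraMap (MvPolynomial (Fin (n + 1)) k) (Localization.Away y0.1) (MvPolynomial.X i) := funext fun i => by
    show Localization.mk _ _ = _
    rw [← Localization.mk_one_eq_algebraMap, Localization.mk_mul]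
    congr 1
    · exact (one_mul _).symm
    · exact Subtype.ext (by simp)
  rw [hg, hu]
  let g := (algebraMap (MvPolynomial (Fin (n + 1)) k) (Localization.Away y0.1)).comp MvPolynomial.C
  let v : Fin (n + 1) → Localization.Away y0.1 := fun i =>
    algebraMap (MvPolynomial (Fin (n + 1)) k) (Localization.Away y0.1) (MvPolynomial.X i)
  have hhom : MvPolynomial.eval₂ g (fun i => u * v i) N = u ^ m * MvPolynomial.eval₂ g v N := by
    conv_lhs => rw [N.as_sum]
    conv_rhs => rw [N.as_sum]
    rw [MvPolynomial.eval₂_sum, MvPolynomial.eval₂_sum, Finset.mul_sum]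
    refine Finset.sum_congr rfl fun d hd => ?_
    rw [MvPolynomial.eval₂_monomial, MvPolynomial.eval₂_monomial,
      show m = d.sum fun _ e => e from by
        have h := hN (MvPolynomial.mem_support_iff.1 hd)
        simpa [Finsupp.weight_apply] using h.symm]
    simp only [Finsupp.prod, Finsupp.sum, mul_pow, Finset.prod_mul_distrib, Finset.prod_pow_eq_pow_sum]
    ring
  have hid : MvPolynomial.eval₂ g v N = algebraMap (MvPolynomial (Fin (n + 1)) k) (Localization.Away y0.1) N :=
    (MvPolynomial.eval₂_comp_left (algebraMap (MvPolynomial (Fin (n + 1)) k) (Localization.Away y0.1))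
      MvPolynomial.C MvPolynomial.X N).symm.trans (congrArg _ (MvPolynomial.eval₂_eta N))
  rw [hhom, hid, ← Localization.mk_one_eq_algebraMap, Localization.mk_pow, Localization.mk_mul]
  congr 1
  · simp
  · exact Subtype.ext (by simp)

end Groth.L11.GM
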