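import Groth.Agent.L11.GM.Descent
import Mathlib.Algebra.Polynomial.AlgebraMap
import Mathlib.Algebra.MvPolynomial.Funext
import Mathlib.LinearAlgebra.Dimension.Finite
import Mathlib.LinearAlgebra.FiniteDimensional.Lemmas
import Mathlib.LinearAlgebra.Matrix.ToLin
import Mathlib.RingTheory.Polynomial.Basic
import Mathlib.RingTheory.Localization.Integer
import Mathlib.LinearAlgebra.Dimension.StrongRankCondition

/-!
# Filtered lattices restricted to general lines: the splitting has no gaps

A filtered family of vectors of polynomial functions gives a filtered lattice on the universal line;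
where the spans of consecutive saturated pieces agree, the span is defined on the ambient space.
-/

set_option autoImplicit false

universe u

open MvPolynomial

noncomputable section

namespace Groth.L11.GM

variable {k : Type u} [Field k] {e r : ℕ}

/-- Substitution of the universal line. -/
def θ : S k e →ₐ[k] Polynomial (P0 k e) :=
  aeval (Sum.elim (fun o => o.elim Polynomial.X
    fun i => Polynomial.C (X (Sum.inl i)) + Polynomial.C (X (Sum.inr i)) * Polynomial.X)
    fun i => Polynomial.C (X (Sum.inr i)))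

theorem θ_β (l : P0 k e) : θ (β l) = Polynomial.C l := by
  induction l using MvPolynomial.induction_on with
  | C a => rw [show (C a : P0 k e) = algebraMap k _ a from rfl, AlgHom.commutes, AlgHom.commutes]; rfl
  | add a b ha hb => rw [map_add, map_add, ha, hb, map_add]
  | mul_X a j ha =>
    rw [map_mul, map_mul, ha, map_mul]
    congr 1
    rcases j with i | i <;> simp [θ, β, t]

theorem θ_t : θ (t : S k e) = Polynomial.X := by simp [θ, t]

theorem θ_injective : Function.Injective (θ (k := k) (e := e)) := by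
  intro a b h
  let ρ : Polynomial (P0 k e) →+* S k e := Polynomial.eval₂RingHom β.toRingHom t
  have hρ : ∀ x : S k e, ρ (θ x) = x := fun x => by
    induction x using MvPolynomial.induction_on with
    | C c => rw [show (C c : S k e) = algebraMap k _ c from rfl, AlgHom.commutes]; simp [ρ, β]
    | add a b ha hb => rw [map_add, map_add, ha, hb]
    | mul_X a j ha =>
      rw [map_mul, map_mul, ha]
      congr 1
      rcases j with (_ | i) | i <;> simp [θ, ρ, β, t]
  rw [← hρ a, ← hρ b, h]

/-- Restriction to the line with given parameters. -/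
def σ (p : Fin e ⊕ Fin e → k) : R k e →ₐ[k] Polynomial k :=
  aeval fun o => o.elim Polynomial.X fun i => Polynomial.C (p (Sum.inl i)) + Polynomial.C (p (Sum.inr i)) * Polynomial.X

theorem σ_eq (p : Fin e ⊕ Fin e → k) (f : R k e) : σ p f = (θ (ψ f)).map (eval p) := by
  induction f using MvPolynomial.induction_on with
  | C a => simp [σ, θ, ψ]
  | add a b ha hb => rw [map_add, map_add, map_add, Polynomial.map_add, ha, hb]
  | mul_X a j ha =>
    rw [map_mul, map_mul, map_mul, Polynomial.map_mul, ha]
    congr 1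
    rcases j with _ | i <;> simp [σ, θ, ψ]

/-- Vectors restricted to a line. -/
def σv (p : Fin e ⊕ Fin e → k) (m : Fin r → R k e) : Fin r → Polynomial k := fun l => σ p (m l)

/-- Vectors on the universal line. -/
def θv (x : Fin r → S k e) : Fin r → Polynomial (P0 k e) := fun l => θ (x l)

/-- Linear relations over a field persist at general values. -/
theorem exists_spec {P : Type u} [CommRing P] [IsDomain P] {ι κ κ' : Type*} [Fintype ι] [Fintype κ] [Fintype κ']
    (U : ι → κ → P) (W : ι → κ' → P)
    (h : ∀ a : ι → P, (∀ c, ∑ s, a s * U s c = 0) → ∀ c, ∑ s, a s * W s c = 0) :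
    ∃ C : P, C ≠ 0 ∧ ∀ (A : Type u) [Field A] (f : P →+* A), f C ≠ 0 →
      ∀ a : ι → A, (∀ c, ∑ s, a s * f (U s c) = 0) → ∀ c, ∑ s, a s * f (W s c) = 0 := by
  classical
  let K := FractionRing P
  let al := algebraMap P K
  have hal : Function.Injective al := IsFractionRing.injective P K
  let UK : (ι → K) →ₗ[K] (κ → K) :=
    { toFun := fun a c => ∑ s, a s * al (U s c)
      map_add' := fun a b => by funext c; simp [add_mul, Finset.sum_add_distrib]
      map_smul' := fun x a => by funext c; simp [mul_assoc, ← Finset.mul_sum] }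
  let WK : (ι → K) →ₗ[K] (κ' → K) :=
    { toFun := fun a c => ∑ s, a s * al (W s c)
      map_add' := fun a b => by funext c; simp [add_mul, Finset.sum_add_distrib]
      map_smul' := fun x a => by funext c; simp [mul_assoc, ← Finset.mul_sum] }
  have hker : LinearMap.ker UK ≤ LinearMap.ker WK := fun a ha => by
    obtain ⟨b, hb⟩ := IsLocalization.exist_integer_multiples_of_finite (nonZeroDivisors P) a
    choose a' ha' using hb
    have ha'' : ∀ s, al (a' s) = al (b : P) * a s := fun s => by rw [ha' s, Algebra.smul_def]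
    have hb0 : al (b : P) ≠ 0 := fun h0 => nonZeroDivisors.coe_ne_zero b (hal (h0.trans (map_zero al).symm))
    have h0 := h a' fun c => hal (by
      rw [map_sum, map_zero]
      simp only [map_mul, ha'', mul_assoc, ← Finset.mul_sum]
      rw [show ∑ s, a s * al (U s c) = 0 from congrFun ha c, mul_zero])
    refine funext fun c => ?_
    have h1 := congrArg al (h0 c)
    rw [map_sum, map_zero] at h1
    simp only [map_mul, ha'', mul_assoc, ← Finset.mul_sum] at h1
    exact (mul_eq_zero.1 h1).resolve_left hb0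
  obtain ⟨Γ, hΓ⟩ : ∃ Γ : (κ → K) →ₗ[K] (κ' → K), Γ ∘ₗ UK = WK := by
    obtain ⟨Γ, hΓ⟩ := LinearMap.exists_extend (((LinearMap.ker UK).liftQ WK hker).comp UK.quotKerEquivRange.symm.toLinearMap)
    refine ⟨Γ, LinearMap.ext fun a => ?_⟩
    have h1 : Γ (UK a) = ((LinearMap.ker UK).liftQ WK hker) (UK.quotKerEquivRange.symm ⟨UK a, LinearMap.mem_range_self UK a⟩) :=
      DFunLike.congr_fun hΓ ⟨UK a, LinearMap.mem_range_self UK a⟩
    rw [LinearMap.comp_apply, h1, LinearMap.quotKerEquivRange_symm_apply_image, Submodule.mkQ_apply, Submodule.liftQ_apply]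
  obtain ⟨b, hb⟩ := IsLocalization.exist_integer_multiples_of_finite (nonZeroDivisors P)
    (fun q : κ × κ' => Γ (Pi.single q.1 1) q.2)
  choose g hg using hb
  have key : ∀ s c, (b : P) * W s c = ∑ x, U s x * g (x, c) := fun s c => hal (by
    rw [map_sum, map_mul]
    have h1 : WK (Pi.single s 1) c = al (W s c) := by simp [WK, Pi.single_apply]
    rw [← h1, ← hΓ, LinearMap.comp_apply]
    have h2 : UK (Pi.single s 1) = ∑ x, al (U s x) • Pi.single x (1 : K) := by
      funext x; simp [UK, Pi.single_apply, Finset.sum_apply]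
    rw [h2, map_sum, Finset.sum_apply, Finset.mul_sum]
    refine Finset.sum_congr rfl fun x _ => ?_
    rw [map_mul, hg (x, c), map_smul, Pi.smul_apply, smul_eq_mul, Algebra.smul_def]
    show _ = al (U s x) * (al (b : P) * _)
    ring)
  refine ⟨b, nonZeroDivisors.coe_ne_zero b, fun A _ f hf a ha c => ?_⟩
  refine (mul_eq_zero.1 (?_ : f b * ∑ s, a s * f (W s c) = 0)).resolve_left hf
  calc f b * ∑ s, a s * f (W s c) = ∑ s, a s * f ((b : P) * W s c) := by
        rw [Finset.mul_sum]; exact Finset.sum_congr rfl fun s _ => by rw [map_mul]; ring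
    _ = ∑ x, (∑ s, a s * f (U s x)) * f (g (x, c)) := by
        simp only [key, map_sum, map_mul, Finset.mul_sum, Finset.sum_mul]
        rw [Finset.sum_comm]
        exact Finset.sum_congr rfl fun s _ => Finset.sum_congr rfl fun x _ => by ring
    _ = 0 := by simp [ha]

/-- Linear relations among vectors on the universal line persist on general lines. -/
theorem exists_spec_poly {ι : Type u} [Fintype ι] (U W : ι → Fin r → Polynomial (P0 k e))
    (h : ∀ a : ι → P0 k e, (∑ s, a s • U s = 0) → ∑ s, a s • W s = 0) :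
    ∃ C : P0 k e, C ≠ 0 ∧ ∀ p, eval p C ≠ 0 → ∀ a : ι → k,
      (∀ l, ∑ s, a s • (U s l).map (eval p) = 0) → ∀ l, ∑ s, a s • (W s l).map (eval p) = 0 := by
  let B := Finset.univ.sup fun q : ι × Fin r => max (U q.1 q.2).natDegree (W q.1 q.2).natDegree
  have hB : ∀ s l i, B < i → (U s l).coeff i = 0 ∧ (W s l).coeff i = 0 := fun s l i hi => by
    have h' := (Finset.le_sup (f := fun q : ι × Fin r => max (U q.1 q.2).natDegree (W q.1 q.2).natDegree)
      (Finset.mem_univ (s, l))).trans_lt hi
    exact ⟨Polynomial.coeff_eq_zero_of_natDegree_lt ((le_max_left _ _).trans_lt h'),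
      Polynomial.coeff_eq_zero_of_natDegree_lt ((le_max_right _ _).trans_lt h')⟩
  obtain ⟨C, hC, hs⟩ := exists_spec (fun s (c : Fin r × Fin (B + 1)) => (U s c.1).coeff c.2)
    (fun s (c : Fin r × Fin (B + 1)) => (W s c.1).coeff c.2) fun a ha c => by
      have h0 : ∑ s, a s • U s = 0 := by
        funext l
        refine Polynomial.ext fun i => ?_
        simp only [Finset.sum_apply, Pi.smul_apply, Polynomial.finsetSum_coeff, Polynomial.coeff_smul,
          smul_eq_mul, Pi.zero_apply, Polynomial.coeff_zero]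
        rcases Nat.lt_or_ge B i with hi | hi
        · exact Finset.sum_eq_zero fun s _ => by rw [(hB s l i hi).1, mul_zero]
        · exact ha (l, ⟨i, Nat.lt_succ_of_le hi⟩)
      simpa [Finset.sum_apply, Polynomial.finsetSum_coeff] using
        congrArg (fun f : Fin r → Polynomial (P0 k e) => (f c.1).coeff c.2) (h a h0)
  refine ⟨C, hC, fun p hp a ha l => Polynomial.ext fun i => ?_⟩
  simp only [Polynomial.finsetSum_coeff, Polynomial.coeff_smul, Polynomial.coeff_map, smul_eq_mul,
    Polynomial.coeff_zero]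
  rcases Nat.lt_or_ge B i with hi | hi
  · exact Finset.sum_eq_zero fun s _ => by rw [(hB s l i hi).2, map_zero, mul_zero]
  · refine hs k (eval p) hp a (fun c => ?_) (l, ⟨i, Nat.lt_succ_of_le hi⟩)
    simpa [Polynomial.finsetSum_coeff, Polynomial.coeff_map] using congrArg (Polynomial.coeff · c.2) (ha c.1)

variable (F : ℕ → Submodule k (Fin r → R k e))

/-- The lattice on the universal line. -/
def N0 (J : ℕ) : Submodule k (Fin r → S k e) :=
  Submodule.span k {x | ∃ (l : P0 k e) (m : Fin r → R k e), m ∈ F J ∧ x = β l • ψv m}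

/-- Its saturation. -/
def nh (j : ℕ) : Set (Fin r → S k e) :=
  {x | ∃ N : ℕ, x ∈ N0 F (j + N) ∧ (t : S k e) ^ N • x ∈ N0 F (j + N)}

variable {F}

theorem ψv_smul (a : R k e) (m : Fin r → R k e) : ψv (a • m) = ψ a • ψv m := by
  funext l; simp [ψv]

theorem N0_mono (hmono : Monotone F) {J J' : ℕ} (h : J ≤ J') : N0 F J ≤ N0 F J' :=
  Submodule.span_mono fun _ ⟨l, m, hm, hx⟩ => ⟨l, m, hmono h hm, hx⟩

theorem t_mem_N0 (hmul : ∀ J (o : Option (Fin e)), ∀ m ∈ F J, (X o : R k e) • m ∈ F (J + 1)) {J : ℕ}
    {x : Fin r → S k e} (hx : x ∈ N0 F J) : (t : S k e) • x ∈ N0 F (J + 1) := by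
  induction hx using Submodule.span_induction with
  | mem x hx =>
    obtain ⟨l, m, hm, rfl⟩ := hx
    refine Submodule.subset_span ⟨l, (X none : R k e) • m, hmul J none m hm, ?_⟩
    rw [ψv_smul, smul_comm, show ψ (X none : R k e) = t from rename_X _ _]
  | zero => simp
  | add a b _ _ ha hb => rw [smul_add]; exact add_mem ha hb
  | smul c a _ ha => rw [smul_comm]; exact Submodule.smul_mem _ c ha

theorem tpow_mem_N0 (hmul : ∀ J (o : Option (Fin e)), ∀ m ∈ F J, (X o : R k e) • m ∈ F (J + 1)) {J : ℕ}
    {x : Fin r → S k e} (hx : x ∈ N0 F J) : ∀ a, (t : S k e) ^ a • x ∈ N0 F (J + a)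
  | 0 => by simpa using hx
  | a + 1 => by rw [pow_succ', mul_smul]; exact t_mem_N0 hmul (tpow_mem_N0 hmul hx a)

theorem Dv_mem_N0 (hmono : Monotone F) (hmul : ∀ J (o : Option (Fin e)), ∀ m ∈ F J, (X o : R k e) • m ∈ F (J + 1))
    (i : Fin e) {J : ℕ} {x : Fin r → S k e} (hx : x ∈ N0 F J) : Dv i x ∈ N0 F (J + 1) := by
  induction hx using Submodule.span_induction with
  | mem x hx =>
    obtain ⟨l, m, hm, rfl⟩ := hx
    obtain ⟨a, b, hab⟩ := D_β i l
    have : Dv i (β l • ψv m) = β a • ψv m + (t : S k e) • (β b • ψv m) := by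
      funext c
      simp only [Dv, Pi.smul_apply, Pi.add_apply, smul_eq_mul, ψv, Derivation.leibniz, D_ψ, hab]
      ring
    rw [this]
    exact add_mem (Submodule.subset_span ⟨a, m, hmono (Nat.le_succ J) hm, rfl⟩)
      (t_mem_N0 hmul (Submodule.subset_span ⟨b, m, hm, rfl⟩))
  | zero => rw [show Dv i (0 : Fin r → S k e) = 0 from funext fun _ => map_zero _]; exact zero_mem _
  | add a b _ _ ha hb =>
    rw [show Dv i (a + b) = Dv i a + Dv i b from funext fun _ => map_add _ _ _]; exact add_mem ha hb
  | smul c a _ ha =>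
    rw [show Dv i (c • a) = c • Dv i a from funext fun l => (D i).map_smul c (a l)]
    exact Submodule.smul_mem _ c ha

theorem exists_repr {J n : ℕ} {b : Fin n → Fin r → R k e} (hb : F J ≤ Submodule.span k (Set.range b))
    {x : Fin r → S k e} (hx : x ∈ N0 F J) : ∃ a : Fin n → P0 k e, x = ∑ s, β (a s) • ψv (b s) := by
  induction hx using Submodule.span_induction with
  | mem x hx =>
    obtain ⟨l, m, hm, rfl⟩ := hx
    obtain ⟨c, rfl⟩ := (Submodule.mem_span_range_iff_exists_fun k).1 (hb hm)
    refine ⟨fun s => C (c s) * l, funext fun q => ?_⟩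
    simp only [Pi.smul_apply, smul_eq_mul, ψv, Finset.sum_apply, map_sum, Finset.mul_sum, map_mul]
    refine Finset.sum_congr rfl fun s _ => ?_
    rw [Algebra.smul_def, map_mul, AlgHom.commutes, show (C (c s) : P0 k e) = algebraMap k _ (c s) from rfl,
      AlgHom.commutes]
    ring
  | zero => exact ⟨0, by simp⟩
  | add x y _ _ hx hy =>
    obtain ⟨a, rfl⟩ := hx
    obtain ⟨a', rfl⟩ := hy
    exact ⟨a + a', by simp [add_smul, Finset.sum_add_distrib]⟩
  | smul c x _ hx =>
    obtain ⟨a, rfl⟩ := hx
    refine ⟨fun s => c • a s, ?_⟩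
    rw [Finset.smul_sum]
    exact Finset.sum_congr rfl fun s _ => by rw [map_smul, smul_assoc]

theorem θv_sum {n : ℕ} (a : Fin n → P0 k e) (y : Fin n → Fin r → S k e) :
    θv (∑ s, β (a s) • y s) = ∑ s, a s • θv (y s) := by
  funext l
  simp [θv, Finset.sum_apply, map_sum, map_mul, θ_β, Polynomial.smul_eq_C_mul]

theorem θv_tpow (N : ℕ) (x : Fin r → S k e) : θv ((t : S k e) ^ N • x) = fun l => Polynomial.X ^ N * θv x l := by
  funext l; simp [θv, θ_t]

theorem θv_injective : Function.Injective (θv (k := k) (e := e) (r := r)) := fun _ _ h =>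
  funext fun l => θ_injective (congrFun h l)

theorem β_sum_mem {J n : ℕ} {b : Fin n → Fin r → R k e} (hb : ∀ s, b s ∈ F J) (a : Fin n → P0 k e) :
    ∑ s, β (a s) • ψv (b s) ∈ N0 F J :=
  Submodule.sum_mem _ fun s _ => Submodule.subset_span ⟨a s, b s, hb s, rfl⟩

theorem exists_basis (hfin : ∀ J, (F J).FG) (J : ℕ) :
    ∃ (n : ℕ) (b : Fin n → Fin r → R k e), Submodule.span k (Set.range b) = F J :=
  Submodule.fg_iff_exists_fin_generating_family.1 (hfin J)

/-- Without saturated sections in a degree, none appear on general lines. -/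
theorem exists_vanish (hfin : ∀ J, (F J).FG) {j : ℕ} (h : nh F j ⊆ {0}) (N : ℕ) :
    ∃ C : P0 k e, C ≠ 0 ∧ ∀ p, eval p C ≠ 0 → ∀ m ∈ F (j + N), ∀ m' ∈ F (j + N),
      (∀ l, Polynomial.X ^ N * σ p (m l) = σ p (m' l)) → σv p m = 0 := by
  obtain ⟨n, b, hb⟩ := exists_basis hfin (j + N)
  have hbm : ∀ s, b s ∈ F (j + N) := fun s => hb ▸ Submodule.subset_span ⟨s, rfl⟩
  let U : Fin n ⊕ Fin n → Fin r → Polynomial (P0 k e) :=
    Sum.elim (fun s l => Polynomial.X ^ N * θv (ψv (b s)) l) fun s l => -θv (ψv (b s)) l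
  let W : Fin n ⊕ Fin n → Fin r → Polynomial (P0 k e) := Sum.elim (fun s => θv (ψv (b s))) 0
  obtain ⟨C, hC, hs⟩ := exists_spec_poly (ι := ULift.{u} (Fin n ⊕ Fin n)) (fun s => U s.down) (fun s => W s.down)
    fun a ha => by
    have hsum : ∀ f : Fin n ⊕ Fin n → Fin r → Polynomial (P0 k e),
        ∑ s : ULift.{u} (Fin n ⊕ Fin n), a s • f s.down =
          ∑ s, a ⟨Sum.inl s⟩ • f (Sum.inl s) + ∑ s, a ⟨Sum.inr s⟩ • f (Sum.inr s) := fun f => by
      rw [← Equiv.ulift.symm.sum_comp, Fintype.sum_sum_type]; rfl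
    rw [hsum] at ha ⊢
    let x := ∑ s, β (a ⟨Sum.inl s⟩) • ψv (b s)
    let x' := ∑ s, β (a ⟨Sum.inr s⟩) • ψv (b s)
    have hx : (t : S k e) ^ N • x = x' := by
      refine θv_injective (funext fun l => sub_eq_zero.1 ?_)
      rw [θv_tpow, θv_sum, θv_sum]
      have := congrFun ha l
      simp only [U, Sum.elim_inl, Sum.elim_inr, Pi.add_apply, Finset.sum_apply, Pi.smul_apply, Pi.zero_apply] at this
      simp only [Finset.sum_apply, Pi.smul_apply, Finset.mul_sum]
      simpa [mul_smul_comm, smul_neg, Finset.sum_neg_distrib, sub_eq_add_neg] using this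
    have h0 : x = 0 := h ⟨N, β_sum_mem hbm _, hx ▸ β_sum_mem hbm _⟩
    have := congrArg θv h0
    rw [θv_sum, show θv (0 : Fin r → S k e) = 0 from funext fun _ => map_zero _] at this
    simp [W, this]
  refine ⟨C, hC, fun p hp m hm m' hm' heq => ?_⟩
  rw [← hb] at hm hm'
  obtain ⟨c, rfl⟩ := (Submodule.mem_span_range_iff_exists_fun k).1 hm
  obtain ⟨c', rfl⟩ := (Submodule.mem_span_range_iff_exists_fun k).1 hm'
  funext l
  have h1 := hs p hp (fun s => Sum.elim c c' s.down) (fun l => by
    rw [← Equiv.ulift.symm.sum_comp, Fintype.sum_sum_type]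
    have := sub_eq_zero.2 (heq l)
    simp only [Finset.sum_apply, Pi.smul_apply, map_sum, map_smul, Finset.mul_sum, mul_smul_comm] at this
    simpa [U, θv, ψv, σ_eq, Polynomial.map_mul, Polynomial.map_pow, smul_neg, Finset.sum_neg_distrib,
      sub_eq_add_neg] using this) l
  rw [← Equiv.ulift.symm.sum_comp, Fintype.sum_sum_type] at h1
  simpa [W, θv, ψv, σv, σ_eq, map_sum, map_smul, Finset.sum_apply] using h1

/-- The span of the saturation. -/
def Wsp (F : ℕ → Submodule k (Fin r → R k e)) (j : ℕ) : Submodule (FractionRing (S k e)) (Fin r → FractionRing (S k e)) :=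
  Submodule.span _ ((fun x l => algebraMap (S k e) (FractionRing (S k e)) (x l)) '' nh F j)

theorem nh_succ (hmono : Monotone F) {j : ℕ} {x : Fin r → S k e} (hx : x ∈ nh F j) :
    x ∈ nh F (j + 1) := by
  obtain ⟨N, h1, h2⟩ := hx
  exact ⟨N, N0_mono hmono (by omega) h1, N0_mono hmono (by omega) h2⟩

theorem raise_witness (hmono : Monotone F) (hmul : ∀ J (o : Option (Fin e)), ∀ m ∈ F J, (X o : R k e) • m ∈ F (J + 1))
    {j N N' : ℕ} (h : N ≤ N') {x : Fin r → S k e} (h1 : x ∈ N0 F (j + N)) (h2 : (t : S k e) ^ N • x ∈ N0 F (j + N)) :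
    x ∈ N0 F (j + N') ∧ (t : S k e) ^ N' • x ∈ N0 F (j + N') := by
  refine ⟨N0_mono hmono (by omega) h1, ?_⟩
  have := tpow_mem_N0 hmul h2 (N' - N)
  rw [← mul_smul, ← pow_add, show N' - N + N = N' by omega, show j + N + (N' - N) = j + N' by omega] at this
  exact this

theorem dot_em (p x : Fin r → S k e) :
    (∑ l, algebraMap (S k e) (FractionRing (S k e)) (p l) * algebraMap (S k e) (FractionRing (S k e)) (x l)) =
      algebraMap (S k e) (FractionRing (S k e)) (dot p x) := by
  simp [dot, map_sum, map_mul]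

/-- A vector killed by the annihilator is in the span. -/
theorem mem_Wsp {j : ℕ} {y : Fin r → S k e}
    (h : ∀ p : Fin r → S k e, (∀ x ∈ nh F j, dot p x = 0) → dot p y = 0) :
    (fun l => algebraMap (S k e) (FractionRing (S k e)) (y l)) ∈ Wsp F j := by
  classical
  let L := FractionRing (S k e)
  let al := algebraMap (S k e) L
  by_contra hy
  obtain ⟨f, hf, hfW⟩ := Submodule.exists_dual_map_eq_bot_of_notMem hy inferInstance
  have hkill : ∀ x ∈ nh F j, f (fun l => al (x l)) = 0 := fun x hx =>
    (Submodule.eq_bot_iff _).1 hfW _ (Submodule.mem_map_of_mem (Submodule.subset_span ⟨x, hx, rfl⟩))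
  obtain ⟨b, hb⟩ := IsLocalization.exist_integer_multiples_of_finite (nonZeroDivisors (S k e)) fun l => f (Pi.single l 1)
  choose p hp using hb
  have hb0 : al (b : S k e) ≠ 0 := fun h0 =>
    nonZeroDivisors.coe_ne_zero b (IsFractionRing.injective (S k e) L (h0.trans (map_zero al).symm))
  have hval : ∀ z : Fin r → S k e, al (dot p z) = al (b : S k e) * f (fun l => al (z l)) := fun z => by
    rw [← dot_em]
    have hz : (fun l => al (z l)) = ∑ l, al (z l) • Pi.single l (1 : L) := by
      funext a; simp [Pi.single_apply, Finset.sum_apply]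
    rw [hz, map_sum, Finset.mul_sum]
    refine Finset.sum_congr rfl fun l _ => ?_
    rw [map_smul, smul_eq_mul, hp l, Algebra.smul_def]
    ring
  refine hf ((mul_eq_zero.1 ((hval y).symm.trans ?_)).resolve_left hb0)
  rw [h p fun x hx => IsFractionRing.injective (S k e) L (by
    rw [show algebraMap (S k e) L (dot p x) = al (dot p x) from rfl, hval, hkill x hx, mul_zero, map_zero]), map_zero]

theorem dot_eq_zero_of_mem_Wsp {j : ℕ} {p y : Fin r → S k e}
    (hy : (fun l => algebraMap (S k e) (FractionRing (S k e)) (y l)) ∈ Wsp F j)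
    (h : ∀ x ∈ nh F j, dot p x = 0) : dot p y = 0 := by
  refine IsFractionRing.injective (S k e) (FractionRing (S k e)) ?_
  rw [← dot_em, map_zero]
  have key : ∀ w ∈ Wsp F j, ∑ l, algebraMap (S k e) (FractionRing (S k e)) (p l) * w l = 0 := by
    intro w hw
    induction hw using Submodule.span_induction with
    | mem w hw => obtain ⟨x, hx, rfl⟩ := hw; rw [dot_em, h x hx, map_zero]
    | zero => simp
    | add a b _ _ ha hb => simp [mul_add, Finset.sum_add_distrib, ha, hb]
    | smul c a _ ha =>
      simp only [Pi.smul_apply, smul_eq_mul]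
      rw [← mul_zero c, ← ha, Finset.mul_sum]
      exact Finset.sum_congr rfl fun l _ => by ring
  exact key _ hy

/-- The action of a matrix. -/
def mulv {A : Type u} [CommRing A] (Z : Fin r → Fin r → A) (v : Fin r → A) : Fin r → A :=
  fun l => ∑ a, Z l a * v a

/-- Vectors independent over the ambient space stay independent on the universal line. -/
theorem ψv_independent [Infinite k] {n : ℕ} {v : Fin n → Fin r → R k e} (hv : LinearIndependent (R k e) v)
    {s : Fin n → S k e} (h : ∑ a, s a • ψv (v a) = 0) : ∀ a, s a = 0 := by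
  intro a
  apply MvPolynomial.funext
  intro z
  rw [map_zero]
  let χ : S k e →ₐ[k] R k e := aeval (Sum.elim X fun i => C (z (Sum.inr i)))
  have hχ : ∀ f : R k e, χ (ψ f) = f := fun f => by
    simp only [χ, ψ, aeval_rename]
    exact (congrArg (fun g => aeval g f) (funext fun o => rfl)).trans (aeval_X_left_apply f)
  have hz := Fintype.linearIndependent_iff.1 hv (fun a => χ (s a)) (funext fun l => by
    have := congrArg χ (congrFun h l)
    simpa [Finset.sum_apply, map_sum, map_mul, ψv, hχ] using this) a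
  have hev : ∀ f : S k e, eval (fun o => z (Sum.inl o)) (χ f) = eval z f := fun f => by
    induction f using MvPolynomial.induction_on with
    | C c => simp [χ]
    | add a b ha hb => simp [ha, hb]
    | mul_X a j ha => rw [map_mul, map_mul, map_mul, ha]; rcases j with j | j <;> simp [χ]
  rw [← hev, hz, map_zero]

/-- The gap theorem: sections in degree `j₀` give a piece defined on the ambient space with many sections
on general lines. -/
theorem exists_piece [CharZero k] (hfin : ∀ J, (F J).FG) (hmono : Monotone F)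
    (hmul : ∀ J (o : Option (Fin e)), ∀ m ∈ F J, (X o : R k e) • m ∈ F (J + 1)) {j₀ : ℕ} (h : ¬ nh F j₀ ⊆ {0}) :
    ∃ (j i q : ℕ) (Φ : Fin q → Fin r → R k e), j + 1 ≤ j₀ + r ∧ 1 ≤ i ∧
      (∀ (Z : Fin r → Fin r → R k e) (f : R k e), f ≠ 0 → (∀ J, ∀ m ∈ F J, ∃ m' ∈ F (J + 1), mulv Z m = f • m') →
        ∀ v : Fin r → R k e, (∀ a, dot (Φ a) v = 0) → ∀ a, dot (Φ a) (mulv Z v) = 0) ∧
      (∀ (n : ℕ) (v : Fin n → Fin r → R k e), LinearIndependent (R k e) v → (∀ s a, dot (Φ a) (v s) = 0) → n ≤ i) ∧
      ∃ J₀, ∀ J, J₀ ≤ J → j ≤ J ∧ ∃ C : P0 k e, C ≠ 0 ∧ ∀ p, eval p C ≠ 0 →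
        ∃ m : Fin i × Fin (J - j + 1) → Fin r → R k e, (∀ s, m s ∈ F J) ∧
          LinearIndependent k (fun s => σv p (m s)) ∧ ∀ s a, dot (σv p (Φ a)) (σv p (m s)) = 0 := by
  classical
  haveI : Infinite k := Infinite.of_injective (fun n : ℕ => (n : k)) Nat.cast_injective
  let L := FractionRing (S k e)
  let al := algebraMap (S k e) L
  have hal : Function.Injective al := IsFractionRing.injective (S k e) L
  have hWmono : ∀ j, Wsp F j ≤ Wsp F (j + 1) := fun j =>
    Submodule.span_mono (Set.image_mono fun x hx => nh_succ hmono hx)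
  obtain ⟨x₀, hx₀, hx₀'⟩ := Set.not_subset.1 h
  have hpos : ∀ j, j₀ ≤ j → 1 ≤ Module.finrank L (Wsp F j) := fun j hj => by
    refine Submodule.one_le_finrank_iff.2 fun hbot => hx₀' ?_
    have : (fun l => al (x₀ l)) ∈ Wsp F j :=
      (monotone_nat_of_le_succ hWmono hj) (Submodule.subset_span ⟨x₀, hx₀, rfl⟩)
    rw [hbot, Submodule.mem_bot] at this
    exact funext fun l => hal ((congrFun this l).trans (map_zero al).symm)
  obtain ⟨j, hj0, hj1, hgap⟩ : ∃ j, j₀ ≤ j ∧ j + 1 ≤ j₀ + r ∧ Wsp F (j + 1) ≤ Wsp F j := by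
    by_contra hc
    push Not at hc
    have hgrow : ∀ a, a ≤ r → a + 1 ≤ Module.finrank L (Wsp F (j₀ + a)) := fun a => by
      induction a with
      | zero => exact fun _ => hpos j₀ le_rfl
      | succ a ih =>
        intro ha
        have : Module.finrank L (Wsp F (j₀ + a)) < Module.finrank L (Wsp F (j₀ + a + 1)) :=
          Submodule.finrank_lt_finrank_of_lt (lt_of_le_not_ge (hWmono (j₀ + a)) (hc _ (by omega) (by omega)))
        have := ih (by omega)
        show a + 1 + 1 ≤ Module.finrank L (Wsp F (j₀ + a + 1))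
        omega
    have := (hgrow r le_rfl).trans (Submodule.finrank_le _)
    rw [Module.finrank_fin_fun] at this
    omega
  let X' := nh F j
  have hDX : ∀ p : Fin r → S k e, (∀ x ∈ X', dot p x = 0) → ∀ i, ∀ x ∈ X', dot (Dv i p) x = 0 := by
    intro p hp i x hx
    obtain ⟨N, h1, h2⟩ := hx
    have hDx : Dv i x ∈ nh F (j + 1) := by
      refine ⟨N, by have := Dv_mem_N0 hmono hmul i h1; rwa [show j + N + 1 = j + 1 + N by omega] at this, ?_⟩
      have := Dv_mem_N0 hmono hmul i h2
      rw [show j + N + 1 = j + 1 + N by omega] at this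
      rwa [show Dv i ((t : S k e) ^ N • x) = (t : S k e) ^ N • Dv i x from funext fun l => by
        simp [Dv, Derivation.leibniz_pow, D_t]] at this
    have h0 := dot_eq_zero_of_mem_Wsp (hgap (Submodule.subset_span ⟨_, hDx, rfl⟩)) hp
    have := D_dot i p x
    rw [hp x ⟨N, h1, h2⟩, map_zero, h0, add_zero] at this
    exact this.symm
  let ann : Submodule (R k e) (Fin r → R k e) :=
    { carrier := {φ | ∀ x ∈ X', dot (ψv φ) x = 0}
      zero_mem' := fun x _ => by simp [dot, ψv]
      add_mem' := fun {a b} ha hb x hx => by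
        have := congrArg₂ (· + ·) (ha x hx) (hb x hx)
        simpa [dot, ψv, add_mul, Finset.sum_add_distrib] using this
      smul_mem' := fun c a ha x hx => by
        show dot (ψv (c • a)) x = 0
        simp only [dot, ψv_smul, Pi.smul_apply, smul_eq_mul, mul_assoc, ← Finset.mul_sum]
        exact mul_eq_zero_of_right _ (ha x hx) }
  obtain ⟨q, Φ, hΦ⟩ := Submodule.fg_iff_exists_fin_generating_family.1 (IsNoetherian.noetherian ann)
  have hΦmem : ∀ a, Φ a ∈ ann := fun a => hΦ ▸ Submodule.subset_span ⟨a, rfl⟩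
  have hspan : ∀ v : Fin r → R k e, (∀ a, dot (Φ a) v = 0) →
      (fun l => al (ψv v l)) ∈ Wsp F j := fun v hv => by
    refine mem_Wsp (descent hDX fun φ hφ => ?_)
    rw [dot_ψv]
    have hφ' : φ ∈ Submodule.span (R k e) (Set.range Φ) := hΦ.symm ▸ hφ
    obtain ⟨c, rfl⟩ := (Submodule.mem_span_range_iff_exists_fun _).1 hφ'
    have h1 : dot (∑ a, c a • Φ a) v = ∑ a, c a * dot (Φ a) v := by
      simp only [dot, Finset.sum_apply, Pi.smul_apply, smul_eq_mul, Finset.sum_mul, Finset.mul_sum, mul_assoc]
      exact Finset.sum_comm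
    rw [h1]
    simp [hv]
  refine ⟨j, Module.finrank L (Wsp F j), q, Φ, hj1, hpos j hj0, fun Z f hf hZ v hv a => ?_, fun n v hv hk => ?_, ?_⟩
  · apply ψ_injective
    rw [map_zero, ← dot_ψv]
    refine dot_eq_zero_of_mem_Wsp (j := j) ?_ (fun x hx => hΦmem a x hx)
    let ZS : Fin r → Fin r → S k e := fun l b => ψ (Z l b)
    have hN0 : ∀ {J : ℕ} {x : Fin r → S k e}, x ∈ N0 F J → ∃ y ∈ N0 F (J + 1), mulv ZS x = ψ f • y := by
      intro J x hx
      induction hx using Submodule.span_induction with
      | mem x hx =>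
        obtain ⟨l, m, hm, rfl⟩ := hx
        obtain ⟨m', hm', hmm⟩ := hZ J m hm
        refine ⟨β l • ψv m', Submodule.subset_span ⟨l, m', hm', rfl⟩, funext fun c => ?_⟩
        have := congrArg ψ (congrFun hmm c)
        simp only [mulv, map_sum, map_mul, Pi.smul_apply, smul_eq_mul] at this
        simp only [mulv, ZS, Pi.smul_apply, smul_eq_mul, ψv]
        rw [mul_left_comm, ← this, Finset.mul_sum]
        exact Finset.sum_congr rfl fun d _ => by ring
      | zero => exact ⟨0, zero_mem _, by funext; simp [mulv]⟩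
      | add a b _ _ ha hb =>
        obtain ⟨ya, hya, ha⟩ := ha
        obtain ⟨yb, hyb, hb⟩ := hb
        refine ⟨ya + yb, add_mem hya hyb, ?_⟩
        rw [smul_add, ← ha, ← hb]
        funext c; simp [mulv, mul_add, Finset.sum_add_distrib]
      | smul c a _ ha =>
        obtain ⟨ya, hya, ha⟩ := ha
        refine ⟨c • ya, Submodule.smul_mem _ c hya, ?_⟩
        rw [smul_comm, ← ha]
        funext d; simp [mulv, Finset.smul_sum, Algebra.mul_smul_comm]
    have hψf : ψ f ≠ 0 := fun h0 => hf (ψ_injective (h0.trans (map_zero ψ).symm))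
    have hlin : ∀ w : Fin r → L, w ∈ Wsp F j → mulv (fun l b => al (ZS l b)) w ∈ Wsp F j := by
      intro w hw
      induction hw using Submodule.span_induction with
      | mem w hw =>
        obtain ⟨x, ⟨N, h1, h2⟩, rfl⟩ := hw
        obtain ⟨y, hy, hxy⟩ := hN0 h1
        obtain ⟨y', hy', hxy'⟩ := hN0 h2
        have hyy : (t : S k e) ^ N • y = y' := funext fun c => mul_left_cancel₀ hψf (by
          have e1 := congrFun hxy c
          have e2 := congrFun hxy' c
          simp only [mulv, Pi.smul_apply, smul_eq_mul] at e1 e2 ⊢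
          rw [← e2, mul_left_comm, ← e1, Finset.mul_sum]
          exact Finset.sum_congr rfl fun d _ => by ring)
        have hmem : y ∈ nh F (j + 1) := ⟨N, by rwa [show j + 1 + N = j + N + 1 by omega],
          by rw [hyy]; rwa [show j + 1 + N = j + N + 1 by omega]⟩
        have : mulv (fun l b => al (ZS l b)) (fun l => al (x l)) = al (ψ f) • fun l => al (y l) := by
          funext c
          have e1 := congrArg al (congrFun hxy c)
          simpa [mulv, map_sum, map_mul] using e1
        rw [this]
        exact Submodule.smul_mem _ _ (hgap (Submodule.subset_span ⟨y, hmem, rfl⟩))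
      | zero => rw [show mulv (fun l b => al (ZS l b)) (0 : Fin r → L) = 0 from funext fun _ => by simp [mulv]]; exact zero_mem _
      | add a b _ _ ha hb =>
        rw [show mulv (fun l b => al (ZS l b)) (a + b) = mulv (fun l b => al (ZS l b)) a + mulv (fun l b => al (ZS l b)) b
          from funext fun _ => by simp [mulv, mul_add, Finset.sum_add_distrib]]
        exact add_mem ha hb
      | smul c a _ ha =>
        rw [show mulv (fun l b => al (ZS l b)) (c • a) = c • mulv (fun l b => al (ZS l b)) a from funext fun _ => by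
          simp [mulv, Finset.mul_sum, mul_left_comm]]
        exact Submodule.smul_mem _ c ha
    have := hlin _ (hspan v hv)
    rwa [show (fun l => al (ψv (mulv Z v) l)) = mulv (fun l b => al (ZS l b)) (fun l => al (ψv v l)) from
      funext fun l => by simp [mulv, ψv, ZS, map_sum, map_mul]]
  · have hli : LinearIndependent L fun s => (⟨_, hspan (v s) (hk s)⟩ : Wsp F j) := by
      refine LinearIndependent.of_comp (Wsp F j).subtype (Fintype.linearIndependent_iff.2 fun g hg s => ?_)
      obtain ⟨b, hb⟩ := IsLocalization.exist_integer_multiples_of_finite (nonZeroDivisors (S k e)) g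
      choose g' hg' using hb
      have h0 := ψv_independent hv (s := g') (funext fun l => hal (by
        have := congrFun hg l
        simp only [Finset.sum_apply, Pi.smul_apply, smul_eq_mul, Function.comp_apply, Submodule.subtype_apply,
          Pi.zero_apply] at this
        simp only [Finset.sum_apply, Pi.smul_apply, smul_eq_mul, map_sum, map_mul, Pi.zero_apply, map_zero]
        calc ∑ x, al (g' x) * al (ψv (v x) l) = al (b : S k e) * ∑ x, g x * al (ψv (v x) l) := by
              rw [Finset.mul_sum]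
              exact Finset.sum_congr rfl fun x _ => by rw [hg' x, Algebra.smul_def]; ring
          _ = 0 := by rw [this, mul_zero])) s
      have h1 := hg' s
      rw [h0, map_zero, Algebra.smul_def] at h1
      exact (mul_eq_zero.1 h1.symm).resolve_left fun h2 =>
        nonZeroDivisors.coe_ne_zero b (hal (h2.trans (map_zero al).symm))
    simpa using hli.fintype_card_le_finrank
  · obtain ⟨g, hg1, -, hg3⟩ := Submodule.exists_fun_fin_finrank_span_eq L ((fun x l => al (x l)) '' nh F j)
    let i := Module.finrank L (Wsp F j)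
    choose x hx hxg using fun s : Fin i => hg1 s
    choose Ns h1 h2 using hx
    let N := Finset.univ.sup Ns
    refine ⟨j + 2 * N, fun J hJ => ⟨by omega, ?_⟩⟩
    have hmem : ∀ (s : Fin i) (a : ℕ), a ≤ J - j → (t : S k e) ^ a • x s ∈ N0 F J := fun s a ha => by
      obtain ⟨e1, e2⟩ := raise_witness hmono hmul (Finset.le_sup (f := Ns) (Finset.mem_univ s)) (h1 s) (h2 s)
      rcases Nat.lt_or_ge a N with hN | hN
      · exact N0_mono hmono (by omega) (tpow_mem_N0 hmul e1 a)
      · have := tpow_mem_N0 hmul e2 (a - N)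
        rw [← mul_smul, ← pow_add, show a - N + N = a by omega] at this
        exact N0_mono hmono (by omega) this
    obtain ⟨n, b, hb⟩ := exists_basis hfin J
    choose c hc using fun s : Fin i × Fin (J - j + 1) => exists_repr hb.ge (hmem s.1 s.2 (by omega))
    have hid : ∀ a : ULift.{u} (Fin i × Fin (J - j + 1)) → P0 k e,
        (∑ s, a s • θv ((t : S k e) ^ (s.down.2 : ℕ) • x s.down.1) = 0) → ∀ s, a s = 0 := by
      intro a ha
      let gs : Fin i → S k e := fun s => ∑ c : Fin (J - j + 1), β (a ⟨(s, c)⟩) * (t : S k e) ^ (c : ℕ)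
      have hsum : ∑ s, gs s • x s = 0 := θv_injective (by
        rw [show θv (0 : Fin r → S k e) = 0 from funext fun _ => map_zero _, ← ha, ← Equiv.ulift.symm.sum_comp,
          Fintype.sum_prod_type]
        funext l
        simp only [θv, Finset.sum_apply, Pi.smul_apply, smul_eq_mul, map_sum, map_mul, map_pow, θ_β, θ_t,
          gs, Finset.sum_mul, Polynomial.smul_eq_C_mul]
        exact Finset.sum_congr rfl fun s _ => Finset.sum_congr rfl fun c _ => by
          simp [Equiv.ulift]; ring)
      have hgs : ∀ s, gs s = 0 := fun s => hal (((Fintype.linearIndependent_iff.1 hg3) (fun s => al (gs s))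
        (funext fun l => by
          have := congrArg al (congrFun hsum l)
          simp only [Finset.sum_apply, Pi.smul_apply, smul_eq_mul, map_sum, map_mul, Pi.zero_apply, map_zero] at this
          simp only [Finset.sum_apply, Pi.smul_apply, smul_eq_mul, ← hxg, Pi.zero_apply]
          exact this) s).trans (map_zero al).symm)
      rintro ⟨s, c⟩
      have h0 := congrArg (fun z => (θ z).coeff (c : ℕ)) (hgs s)
      simp only [gs, map_sum, map_mul, map_pow, θ_β, θ_t, Polynomial.finsetSum_coeff, Polynomial.coeff_C_mul,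
        Polynomial.coeff_X_pow, map_zero, Polynomial.coeff_zero, Fin.val_eq_val, mul_ite, mul_one, mul_zero] at h0
      rwa [Finset.sum_ite_eq Finset.univ c, if_pos (Finset.mem_univ c)] at h0
    obtain ⟨C, hC, hs⟩ := exists_spec (ι := ULift.{u} (Fin i × Fin (J - j + 1)))
      (κ := Fin r × Fin ((Finset.univ.sup fun q : (Fin i × Fin (J - j + 1)) × Fin r =>
        (θv ((t : S k e) ^ (q.1.2 : ℕ) • x q.1.1) q.2).natDegree) + 1))
      (κ' := ULift.{u} (Fin i × Fin (J - j + 1)))
      (fun s q => (θv ((t : S k e) ^ (s.down.2 : ℕ) • x s.down.1) q.1).coeff q.2)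
      (fun s s' => if s = s' then (1 : P0 k e) else 0) (fun a ha s' => by
        rw [Finset.sum_eq_single s' (fun s _ hne => by simp [hne]) (by simp), if_pos rfl, mul_one]
        refine hid a (funext fun l => Polynomial.ext fun d => ?_) s'
        simp only [Finset.sum_apply, Pi.smul_apply, Polynomial.finsetSum_coeff, Polynomial.coeff_smul,
          smul_eq_mul, Pi.zero_apply, Polynomial.coeff_zero]
        rcases Nat.lt_or_ge (Finset.univ.sup fun q : (Fin i × Fin (J - j + 1)) × Fin r =>
          (θv ((t : S k e) ^ (q.1.2 : ℕ) • x q.1.1) q.2).natDegree) d with hd | hd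
        · exact Finset.sum_eq_zero fun s _ => by
            rw [Polynomial.coeff_eq_zero_of_natDegree_lt ((Finset.le_sup
              (f := fun q : (Fin i × Fin (J - j + 1)) × Fin r => (θv ((t : S k e) ^ (q.1.2 : ℕ) • x q.1.1) q.2).natDegree)
              (Finset.mem_univ (s.down, l))).trans_lt hd), mul_zero]
        · exact ha (l, ⟨d, Nat.lt_succ_of_le hd⟩))
    refine ⟨C, hC, fun p hp => ?_⟩
    have hσm : ∀ s, σv p (∑ a, eval p (c s a) • b a) = fun l => (θv ((t : S k e) ^ (s.2 : ℕ) • x s.1) l).map (eval p) := by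
      intro s
      rw [hc s, θv_sum]
      funext l
      simp [σv, σ_eq, θv, ψv, Finset.sum_apply, map_sum, map_smul, Polynomial.map_sum, Polynomial.map_smul]
    refine ⟨fun s => ∑ a, eval p (c s a) • b a, fun s => ?_, ?_, fun s a => ?_⟩
    · exact Submodule.sum_mem _ fun a _ => Submodule.smul_mem _ _ (hb ▸ Submodule.subset_span ⟨a, rfl⟩)
    · refine Fintype.linearIndependent_iff.2 fun g hg s => ?_
      have := hs k (eval p) hp (fun s => g s.down) (fun q => by
        have h' := congrArg (fun f : Fin r → Polynomial k => (f q.1).coeff q.2) hg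
        simp only [Finset.sum_apply, Pi.smul_apply, hσm, Polynomial.finsetSum_coeff, Polynomial.coeff_smul,
          smul_eq_mul, Polynomial.coeff_map, Pi.zero_apply, Polynomial.coeff_zero] at h'
        rw [← Equiv.ulift.symm.sum_comp]
        exact h') ⟨s⟩
      rwa [Finset.sum_eq_single ⟨s⟩ (fun b _ hne => by simp [hne]) (by simp), if_pos rfl, map_one, mul_one] at this
    · rw [hσm]
      have hz : dot (ψv (Φ a)) ((t : S k e) ^ (s.2 : ℕ) • x s.1) = 0 := by
        simp only [dot, Pi.smul_apply, smul_eq_mul, mul_left_comm _ ((t : S k e) ^ (s.2 : ℕ)), ← Finset.mul_sum]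
        exact mul_eq_zero_of_right _ (hΦmem a _ ⟨Ns s.1, h1 s.1, h2 s.1⟩)
      have := congrArg (fun z => (θ z).map (eval p)) hz
      simp only [map_zero, Polynomial.map_zero] at this
      rw [← this]
      simp [dot, σv, σ_eq, θv, ψv, map_sum, map_mul, Polynomial.map_sum, Polynomial.map_mul]

end Groth.L11.GM
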