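import Groth.Agent.L11.Lemma179.Diff
import Groth.Agent.L11.GM.Lattice
import Mathlib.RingTheory.MvPolynomial.Basic
import Mathlib.Algebra.Order.Antidiag.FinsuppEquiv
import Mathlib.Algebra.Order.Antidiag.Finsupp

/-!
# Growth of filtered modules over a polynomial ring and their lattices
-/

set_option autoImplicit false
set_option linter.style.haveILetI false
set_option linter.unusedSectionVars false

universe u v

open MvPolynomial

noncomputable section

namespace Groth.L11.GM

open Groth.L11.Slope (D1)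
open Groth.L11.Lemma179 (D1_iter_succ D1_iter_add)

theorem eventually_neg : ∀ (d : ℕ) (g : ℤ → ℤ) (T : ℤ), (∀ t, T ≤ t → D1^[d] g t ≤ -1) →
    ∃ T', ∀ t, T' ≤ t → g t ≤ -1 := by
  intro d
  induction d with
  | zero => exact fun g T h => ⟨T, h⟩
  | succ d ih =>
    intro g T h
    obtain ⟨T', hT'⟩ := ih (D1 g) T fun t ht => by simpa [Function.iterate_succ_apply] using h t ht
    have hg : ∀ m : ℕ, g (T' + m) ≤ g T' - m := fun m => by
      induction m with
      | zero => simp
      | succ m ihm =>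
        have h1 := hT' (T' + (m + 1 : ℕ)) (by omega)
        simp only [D1] at h1
        rw [show T' + ((m + 1 : ℕ) : ℤ) - 1 = T' + (m : ℤ) by omega] at h1
        omega
    refine ⟨T' + max (g T' + 1) 0, fun t ht => ?_⟩
    obtain ⟨m, rfl⟩ : ∃ m : ℕ, t = T' + m := ⟨(t - T').toNat, by omega⟩
    have := hg m
    omega

/-- Top differences respect eventual inequalities. -/
theorem top_le_of_eventually {d : ℕ} {f g : ℤ → ℤ} {a b T : ℤ} (hle : ∀ t, T ≤ t → f t ≤ g t)
    (hf : ∀ t, T ≤ t → D1^[d] f t = a) (hg : ∀ t, T ≤ t → D1^[d] g t = b) : a ≤ b := by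
  by_contra hlt
  let w : ℤ → ℤ := fun s => g s - f s
  obtain ⟨T', hT'⟩ := eventually_neg d w T fun t ht => by
    have h := D1_iter_add w f d t
    rw [show (fun s => w s + f s) = g from funext fun s => sub_add_cancel _ _, hf t ht, hg t ht] at h
    omega
  have h1 := hT' (max T T') (le_max_right _ _)
  have h2 := hle (max T T') (le_max_left _ _)
  simp only [w] at h1
  omega

theorem D1_iter_const_mul (c : ℤ) (f : ℤ → ℤ) : ∀ (d : ℕ) (t : ℤ),
    D1^[d] (fun s => c * f s) t = c * D1^[d] f t := by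
  intro d
  induction d with
  | zero => intro t; rfl
  | succ d ih => intro t; simp only [D1_iter_succ, ih]; ring

/-- The number of monomials as a function on the integers. -/
def binom (d : ℕ) (c : ℤ) : ℤ → ℤ := fun t => (((t + c).toNat.choose d : ℕ) : ℤ)

theorem D1_binom : ∀ (i d : ℕ) (c t : ℤ), (i : ℤ) ≤ t + c →
    D1^[i] (binom (d + i) c) t = binom d (c - i) t := by
  intro i
  induction i with
  | zero => intro d c t _; simp
  | succ i ih =>
    intro d c t ht
    rw [D1_iter_succ, show d + (i + 1) = d + 1 + i by omega, ih (d + 1) c t (by omega),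
      ih (d + 1) c (t - 1) (by omega)]
    simp only [binom]
    rw [show t - 1 + (c - (i : ℤ)) = t + (c - ((i + 1 : ℕ) : ℤ)) by omega,
      show (t + (c - (i : ℤ))).toNat = (t + (c - ((i + 1 : ℕ) : ℤ))).toNat + 1 by omega,
      Nat.choose_succ_succ]
    push_cast
    ring

theorem D1_binom_top (d : ℕ) {c t : ℤ} (h : (d : ℤ) ≤ t + c) : D1^[d] (binom d c) t = 1 := by
  have := D1_binom d 0 c t h
  rw [Nat.zero_add] at this
  rw [this]
  simp [binom]

variable (k : Type u) [Field k] (e : ℕ)

theorem finrank_restrict (a : ℕ) :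
    Module.finrank k (restrictTotalDegree (Option (Fin e)) k a) = Nat.choose (a + (e + 1)) (e + 1) := by
  classical
  let T : Finset (Option (Fin e) →₀ ℕ) := (Finset.range (a + 1)).biUnion (Finset.univ.finsuppAntidiag ·)
  have hT : ∀ d, d ∈ {d : Option (Fin e) →₀ ℕ | d.sum (fun _ j => j) ≤ a} ↔ d ∈ T := fun d => by
    simp only [T, Finset.mem_biUnion, Finset.mem_range, Finset.mem_finsuppAntidiag, Finset.subset_univ, and_true,
      exists_eq_right', Set.mem_setOf_eq, Nat.lt_succ_iff]
    rw [Finsupp.sum_fintype _ _ fun _ => rfl]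
  haveI : Fintype {d : Option (Fin e) →₀ ℕ | d.sum (fun _ j => j) ≤ a} := Fintype.ofFinset T fun d => (hT d).symm
  show Module.finrank k (restrictSupport k {d : Option (Fin e) →₀ ℕ | d.sum (fun _ j => j) ≤ a}) = _
  rw [Module.finrank_eq_nat_card_basis (basisRestrictSupport k {d : Option (Fin e) →₀ ℕ | d.sum (fun _ j => j) ≤ a}),
    Nat.subtype_card T fun d => (hT d).symm, Finset.card_biUnion]
  · simp only [Finset.card_finsuppAntidiag_nat_eq_choose, Finset.card_univ, Fintype.card_option, Fintype.card_fin]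
    have : ∀ i : ℕ, (e + 1 + i - 1).choose i = (i + e).choose e := fun i => by
      rw [show e + 1 + i - 1 = i + e by omega, Nat.choose_symm_add]
    simp only [this, Nat.sum_range_add_choose]
    rw [add_assoc]
  · intro i _ j _ hij
    rw [Function.onFun, Finset.disjoint_left]
    intro d h1 h2
    exact hij ((Finset.mem_finsuppAntidiag.1 h1).1.symm.trans (Finset.mem_finsuppAntidiag.1 h2).1)

variable {k e} {M : Type v} [AddCommGroup M] [Module (R k e) M] [Module k M] [IsScalarTower k (R k e) M]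

/-- A filtration stable under the variables, of finite dimensional spaces. -/
structure Filt (V : ℕ → Submodule k M) : Prop where
  mono : Monotone V
  mul : ∀ J (o : Option (Fin e)), ∀ m ∈ V J, (X o : R k e) • m ∈ V (J + 1)
  fin : ∀ J, (V J).FG

/-- The filtration is eventually generated and grows like a polynomial of top difference `α`. -/
structure Grow (V : ℕ → Submodule k M) (J₀ : ℕ) (P : ℤ → ℤ) (α : ℤ) : Prop extends Filt (e := e) V where
  gen : ∀ J, J₀ ≤ J → V (J + 1) ≤ V J ⊔ ⨆ o : Option (Fin e),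
    (V J).map (DistribSMul.toLinearMap k M (X o : R k e))
  card : ∀ J, J₀ ≤ J → (Module.finrank k (V J) : ℤ) = P J
  top : ∀ t : ℤ, D1^[e + 1] P t = α

variable {V : ℕ → Submodule k M}

theorem Filt.poly_mem (hV : Filt (e := e) V) {p : R k e} {a : ℕ} (hp : p.totalDegree ≤ a) {J : ℕ} {m : M}
    (hm : m ∈ V J) : p • m ∈ V (J + a) := by
  classical
  have hmon : ∀ (a : ℕ) (d : Option (Fin e) →₀ ℕ), d.sum (fun _ j => j) = a → ∀ c : k, ∀ {J : ℕ} {m : M},
      m ∈ V J → monomial d c • m ∈ V (J + a) := by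
    intro a
    induction a with
    | zero =>
      intro d hd c J m hm
      have : d = 0 := Finsupp.ext fun o => by
        rw [Finsupp.sum_fintype _ _ fun _ => rfl] at hd
        exact Finset.sum_eq_zero_iff.1 hd o (Finset.mem_univ o)
      subst this
      rw [show monomial (0 : Option (Fin e) →₀ ℕ) c = algebraMap k (R k e) c from rfl, algebraMap_smul]
      exact Submodule.smul_mem _ _ hm
    | succ a ih =>
      intro d hd c J m hm
      obtain ⟨o, ho⟩ : ∃ o, d o ≠ 0 := by
        by_contra hall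
        push Not at hall
        rw [show d = 0 from Finsupp.ext hall] at hd
        simp at hd
      have hd' : d = (d - Finsupp.single o 1) + Finsupp.single o 1 :=
        (tsub_add_cancel_of_le (Finsupp.single_le_iff.2 (Nat.one_le_iff_ne_zero.2 ho))).symm
      have hsum : (d - Finsupp.single o 1).sum (fun _ j => j) = a := by
        have h := hd
        rw [hd', Finsupp.sum_add_index' (fun _ => rfl) (fun _ _ _ => rfl), Finsupp.sum_single_index rfl] at h
        omega
      rw [hd', monomial_add_single, pow_one, mul_smul, show J + (a + 1) = J + 1 + a by omega]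
      exact ih _ hsum c (hV.mul J o m hm)
  rw [p.as_sum, Finset.sum_smul]
  refine Submodule.sum_mem _ fun d hd => hV.mono (by
    have := le_totalDegree hd
    omega) (hmon _ d rfl _ hm)

theorem exists_rep {J₀ : ℕ} {P : ℤ → ℤ} {α : ℤ} (hV : Grow (e := e) V J₀ P α) {n : ℕ} {b : Fin n → M}
    (hb : V J₀ ≤ Submodule.span k (Set.range b)) : ∀ (a : ℕ) {m : M}, m ∈ V (J₀ + a) →
      ∃ p : Fin n → R k e, (∀ s, (p s).totalDegree ≤ a) ∧ m = ∑ s, p s • b s := by
  intro a
  induction a with
  | zero =>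
    intro m hm
    obtain ⟨c, rfl⟩ := (Submodule.mem_span_range_iff_exists_fun k).1 (hb hm)
    exact ⟨fun s => algebraMap k _ (c s), fun s => by simp,
      Finset.sum_congr rfl fun s _ => (algebraMap_smul (R k e) _ _).symm⟩
  | succ a ih =>
    intro m hm
    have hle : V (J₀ + a) ⊔ ⨆ o : Option (Fin e), (V (J₀ + a)).map (DistribSMul.toLinearMap k M (X o : R k e)) ≤
        { carrier := {m | ∃ p : Fin n → R k e, (∀ s, (p s).totalDegree ≤ a + 1) ∧ m = ∑ s, p s • b s}
          zero_mem' := ⟨0, fun _ => by simp, by simp⟩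
          add_mem' := fun {x y} ⟨p, hp, hx⟩ ⟨q, hq, hy⟩ => ⟨p + q,
            fun s => (totalDegree_add _ _).trans (max_le (hp s) (hq s)),
            by rw [hx, hy, ← Finset.sum_add_distrib]; simp [add_smul]⟩
          smul_mem' := fun c x ⟨p, hp, hx⟩ => ⟨c • p,
            fun s => (totalDegree_smul_le _ _).trans (hp s), by rw [hx, Finset.smul_sum]; simp⟩ } := by
      refine sup_le (fun x hx => ?_) (iSup_le fun o => ?_)
      · obtain ⟨p, hp, hx⟩ := ih hx
        exact ⟨p, fun s => (hp s).trans (by omega), hx⟩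
      · rintro _ ⟨x, hx, rfl⟩
        obtain ⟨p, hp, rfl⟩ := ih hx
        refine ⟨fun s => X o * p s, fun s => (totalDegree_mul _ _).trans (by rw [totalDegree_X]; have := hp s; omega), ?_⟩
        simp [Finset.smul_sum, mul_smul]
    exact hle (hV.gen (J₀ + a) (by omega) hm)

/-- A filtration with torsion generators grows slowly. -/
theorem top_nonpos_of_killed {J₀ : ℕ} {P : ℤ → ℤ} {α : ℤ} (hV : Grow (e := e) V J₀ P α) {f : R k e} (hf : f ≠ 0)
    (hk : ∀ m ∈ V J₀, f • m = 0) : α ≤ 0 := by
  obtain ⟨n, b, hb⟩ := Submodule.fg_iff_exists_fin_generating_family.1 (hV.fin J₀)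
  let D := f.totalDegree
  let g : ℤ → ℤ := fun t => (n : ℤ) * binom (e + 1) ((e + 1 : ℕ) - (J₀ : ℤ)) t +
    -(n : ℤ) * binom (e + 1) ((e + 1 : ℕ) - (J₀ : ℤ) - D) t
  refine top_le_of_eventually (d := e + 1) (f := P) (g := g) (T := (J₀ : ℤ) + D) ?_ (fun t _ => hV.top t) ?_
  · intro t ht
    obtain ⟨a, rfl⟩ : ∃ a : ℕ, t = ((J₀ + (a + D) : ℕ) : ℤ) := ⟨(t - J₀ - D).toNat, by omega⟩
    rw [← hV.card _ (by omega)]
    simp only [g, binom]
    rw [show (((J₀ + (a + D) : ℕ) : ℤ) + (((e + 1 : ℕ) : ℤ) - (J₀ : ℤ))).toNat = a + D + (e + 1) by omega,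
      show (((J₀ + (a + D) : ℕ) : ℤ) + (((e + 1 : ℕ) : ℤ) - (J₀ : ℤ) - (D : ℤ))).toNat = a + (e + 1) by omega,
      ← finrank_restrict k e, ← finrank_restrict k e]
    let Ψ : (Fin n → restrictTotalDegree (Option (Fin e)) k (a + D)) →ₗ[k] M :=
      { toFun := fun p => ∑ s, (p s : R k e) • b s
        map_add' := fun p q => by simp [add_smul, Finset.sum_add_distrib]
        map_smul' := fun c p => by simp [Finset.smul_sum] }
    let χ : (Fin n → restrictTotalDegree (Option (Fin e)) k a) →ₗ[k]
        (Fin n → restrictTotalDegree (Option (Fin e)) k (a + D)) :=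
      { toFun := fun p s => ⟨f * (p s : R k e), (mem_restrictTotalDegree _ _ _).2
          ((totalDegree_mul _ _).trans (by have := (mem_restrictTotalDegree _ _ _).1 (p s).2; omega))⟩
        map_add' := fun p q => funext fun s => Subtype.ext (mul_add _ _ _)
        map_smul' := fun c p => funext fun s => Subtype.ext (mul_smul_comm _ _ _) }
    have hχ : Function.Injective χ := fun p q h => funext fun s =>
      Subtype.ext (mul_left_cancel₀ hf (congrArg Subtype.val (congrFun h s)))
    have hker : LinearMap.range χ ≤ LinearMap.ker Ψ := by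
      rintro _ ⟨p, rfl⟩
      rw [LinearMap.mem_ker]
      show ∑ s, ((χ p s : _) : R k e) • b s = 0
      refine Finset.sum_eq_zero fun s _ => ?_
      show (f * (p s : R k e)) • b s = 0
      rw [mul_comm, mul_smul, hk _ (hb ▸ Submodule.subset_span ⟨s, rfl⟩), smul_zero]
    have hsub : V (J₀ + (a + D)) ≤ LinearMap.range Ψ := fun m hm => by
      obtain ⟨p, hp, rfl⟩ := exists_rep hV hb.ge (a + D) hm
      exact ⟨fun s => ⟨p s, (mem_restrictTotalDegree _ _ _).2 (hp s)⟩, rfl⟩
    have h1 := LinearMap.finrank_range_add_finrank_ker Ψ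
    have h2 := Submodule.finrank_mono hker
    rw [LinearMap.finrank_range_of_inj hχ] at h2
    have h3 := Submodule.finrank_mono hsub
    simp only [Module.finrank_pi_fintype, Finset.sum_const, Finset.card_univ, Fintype.card_fin, smul_eq_mul] at h1 h2
    push_cast
    nlinarith
  · intro t ht
    rw [D1_iter_add, D1_iter_const_mul, D1_iter_const_mul, D1_binom_top _ (by omega), D1_binom_top _ (by omega)]
    ring

/-- Independent elements of the filtration are at most `α`. -/
theorem indep_le {J₀ : ℕ} {P : ℤ → ℤ} {α : ℤ} (hV : Grow (e := e) V J₀ P α) {n j : ℕ} {v : Fin n → M}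
    (hv : LinearIndependent (R k e) v) (hm : ∀ s, v s ∈ V j) : (n : ℤ) ≤ α := by
  refine top_le_of_eventually (d := e + 1) (f := fun t => (n : ℤ) * binom (e + 1) ((e + 1 : ℕ) - (j : ℤ)) t) (g := P)
    (T := max (J₀ : ℤ) j) ?_ ?_ (fun t _ => hV.top t)
  · intro t ht
    obtain ⟨a, rfl⟩ : ∃ a : ℕ, t = ((j + a : ℕ) : ℤ) := ⟨(t - j).toNat, by omega⟩
    rw [← hV.card _ (by omega)]
    simp only [binom]
    rw [show (((j + a : ℕ) : ℤ) + (((e + 1 : ℕ) : ℤ) - (j : ℤ))).toNat = a + (e + 1) by omega, ← finrank_restrict k e]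
    let Ψ : (Fin n → restrictTotalDegree (Option (Fin e)) k a) →ₗ[k] M :=
      { toFun := fun p => ∑ s, (p s : R k e) • v s
        map_add' := fun p q => by simp [add_smul, Finset.sum_add_distrib]
        map_smul' := fun c p => by simp [Finset.smul_sum] }
    have hΨ : Function.Injective Ψ := (injective_iff_map_eq_zero _).2 fun p hp => funext fun s =>
      Subtype.ext ((Fintype.linearIndependent_iff.1 hv) (fun s => (p s : R k e)) hp s)
    have hsub : LinearMap.range Ψ ≤ V (j + a) := by
      rintro _ ⟨p, rfl⟩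
      show ∑ s, (p s : R k e) • v s ∈ V (j + a)
      exact Submodule.sum_mem _ fun s _ => hV.poly_mem ((mem_restrictTotalDegree _ _ _).1 (p s).2) (hm s)
    haveI : Module.Finite k (V (j + a)) := Module.Finite.iff_fg.2 (hV.fin _)
    have h1 := Submodule.finrank_mono hsub
    rw [LinearMap.finrank_range_of_inj hΨ] at h1
    simp only [Module.finrank_pi_fintype, Finset.sum_const, Finset.card_univ, Fintype.card_fin, smul_eq_mul] at h1
    exact_mod_cast h1
  · intro t ht
    rw [D1_iter_const_mul, D1_binom_top _ (by omega), mul_one]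

/-- A maximal independent family exhibits the filtration as a lattice of rank `α`. -/
theorem exists_frame {J₀ : ℕ} {P : ℤ → ℤ} {α : ℤ} (hV : Grow (e := e) V J₀ P α)
    (htf : ∀ (g : R k e) J, ∀ m ∈ V J, g ≠ 0 → g • m = 0 → m = 0) :
    ∃ (r j : ℕ) (v : Fin r → M) (f : R k e), (r : ℤ) = α ∧ f ≠ 0 ∧ LinearIndependent (R k e) v ∧
      (∀ s, v s ∈ V j) ∧ ∀ J, ∀ m ∈ V J, f • m ∈ Submodule.span (R k e) (Set.range v) := by
  classical
  let Q : ℕ → Prop := fun r => ∃ (j : ℕ) (v : Fin r → M), LinearIndependent (R k e) v ∧ ∀ s, v s ∈ V j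
  have hα : 0 ≤ α := by
    simpa using indep_le hV (n := 0) (j := 0) (v := Fin.elim0) (linearIndependent_empty_type) (fun s => s.elim0)
  have hbound : ∀ r, Q r → r ≤ α.toNat := fun r ⟨j, v, h1, h2⟩ => by
    have := indep_le hV h1 h2
    omega
  have h0 : Q 0 := ⟨0, Fin.elim0, linearIndependent_empty_type, fun s => s.elim0⟩
  let r := Nat.findGreatest Q α.toNat
  obtain ⟨j, v, hv, hvj⟩ : Q r := Nat.findGreatest_spec (Nat.zero_le _) h0
  have hmax : ∀ J, ∀ m ∈ V J, ∃ g : R k e, g ≠ 0 ∧ g • m ∈ Submodule.span (R k e) (Set.range v) := by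
    intro J m hm
    by_contra hno
    push Not at hno
    have hQ : Q (r + 1) := ⟨max j J, Fin.cons m v, Fintype.linearIndependent_iff.2 fun g hg s => by
      rw [Fin.sum_univ_succ] at hg
      simp only [Fin.cons_zero, Fin.cons_succ] at hg
      have hg0 : g 0 = 0 := by
        by_contra hne
        refine hno (g 0) hne ?_
        rw [eq_neg_of_add_eq_zero_left hg]
        exact neg_mem (Submodule.sum_mem _ fun s _ => Submodule.smul_mem _ _ (Submodule.subset_span ⟨s, rfl⟩))
      rw [hg0, zero_smul, zero_add] at hg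
      exact Fin.cases hg0 (fun s => (Fintype.linearIndependent_iff.1 hv) (fun s => g s.succ) hg s) s,
      Fin.cases (hV.mono (le_max_right _ _) hm) fun s => hV.mono (le_max_left _ _) (by simpa using hvj s)⟩
    exact absurd (Nat.le_findGreatest (hbound _ hQ) hQ) (by omega)
  obtain ⟨n, b, hb⟩ := Submodule.fg_iff_exists_fin_generating_family.1 (hV.fin J₀)
  choose g hg0 hg using fun s => hmax J₀ (b s) (hb ▸ Submodule.subset_span ⟨s, rfl⟩)
  have hf : ∏ s, g s ≠ 0 := Finset.prod_ne_zero_iff.2 fun s _ => hg0 s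
  have hfb : ∀ s, (∏ s, g s) • b s ∈ Submodule.span (R k e) (Set.range v) := fun s => by
    rw [← Finset.prod_erase_mul _ _ (Finset.mem_univ s), mul_smul]
    exact Submodule.smul_mem _ _ (hg s)
  have hall : ∀ J, ∀ m ∈ V J, (∏ s, g s) • m ∈ Submodule.span (R k e) (Set.range v) := fun J m hm => by
    obtain ⟨p, -, rfl⟩ := exists_rep hV hb.ge J (hV.mono (Nat.le_add_left J J₀) hm)
    rw [Finset.smul_sum]
    exact Submodule.sum_mem _ fun s _ => by rw [smul_comm]; exact Submodule.smul_mem _ _ (hfb s)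
  refine ⟨r, j, v, ∏ s, g s, le_antisymm (indep_le hV hv hvj) ?_, hf, hv, hvj, hall⟩
  choose c hc using fun s => (Submodule.mem_span_range_iff_exists_fun _).1 (hfb s)
  let D := Finset.univ.sup fun q : Fin n × Fin r => (c q.1 q.2).totalDegree
  refine top_le_of_eventually (d := e + 1) (f := P)
    (g := fun t => (r : ℤ) * binom (e + 1) ((e + 1 : ℕ) - (J₀ : ℤ) + D) t) (T := (J₀ : ℤ)) ?_ (fun t _ => hV.top t) ?_
  · intro t ht
    obtain ⟨a, rfl⟩ : ∃ a : ℕ, t = ((J₀ + a : ℕ) : ℤ) := ⟨(t - J₀).toNat, by omega⟩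
    rw [← hV.card _ (by omega)]
    simp only [binom]
    rw [show (((J₀ + a : ℕ) : ℤ) + (((e + 1 : ℕ) : ℤ) - (J₀ : ℤ) + (D : ℤ))).toNat = a + D + (e + 1) by omega,
      ← finrank_restrict k e]
    let Ψ : (Fin r → restrictTotalDegree (Option (Fin e)) k (a + D)) →ₗ[k] M :=
      { toFun := fun p => ∑ l, (p l : R k e) • v l
        map_add' := fun p q => by simp [add_smul, Finset.sum_add_distrib]
        map_smul' := fun c p => by simp [Finset.smul_sum] }
    have hsub : (V (J₀ + a)).map (DistribSMul.toLinearMap k M (∏ s, g s)) ≤ LinearMap.range Ψ := by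
      rintro _ ⟨m, hm, rfl⟩
      obtain ⟨p, hp, rfl⟩ := exists_rep hV hb.ge a hm
      refine ⟨fun l => ⟨∑ s, p s * c s l, (mem_restrictTotalDegree _ _ _).2 ((totalDegree_finsetSum _ _).trans
        (Finset.sup_le fun s _ => (totalDegree_mul _ _).trans (add_le_add (hp s)
          (Finset.le_sup (f := fun q : Fin n × Fin r => (c q.1 q.2).totalDegree) (Finset.mem_univ (s, l))))))⟩, ?_⟩
      show ∑ l, (∑ s, p s * c s l) • v l = (∏ s, g s) • ∑ s, p s • b s
      rw [Finset.smul_sum]
      simp only [smul_comm (∏ s, g s), ← hc, Finset.smul_sum, Finset.sum_smul, mul_smul]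
      exact Finset.sum_comm
    haveI : Module.Finite k (V (J₀ + a)) := Module.Finite.iff_fg.2 (hV.fin _)
    have hinj : Function.Injective ((DistribSMul.toLinearMap k M (∏ s, g s)).domRestrict (V (J₀ + a))) :=
      (injective_iff_map_eq_zero _).2 fun m hm => Subtype.ext (htf _ _ _ m.2 hf hm)
    have h1 := Submodule.finrank_mono hsub
    rw [← LinearMap.range_domRestrict, LinearMap.finrank_range_of_inj hinj] at h1
    have h2 := h1.trans (LinearMap.finrank_range_le Ψ)
    simp only [Module.finrank_pi_fintype, Finset.sum_const, Finset.card_univ, Fintype.card_fin, smul_eq_mul] at h2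
    exact_mod_cast h2
  · intro t ht
    rw [D1_iter_const_mul, D1_binom_top _ (by omega), mul_one]

variable (V)

/-- The coordinates of the filtration in a frame. -/
def lat {r : ℕ} (v : Fin r → M) (f : R k e) (J : ℕ) : Submodule k (Fin r → R k e) :=
  ((V J).map (DistribSMul.toLinearMap k M f)).comap ((Fintype.linearCombination (R k e) v).restrictScalars k)

variable {V}

theorem mem_lat {r : ℕ} {v : Fin r → M} {f : R k e} {J : ℕ} {c : Fin r → R k e} :
    c ∈ lat V v f J ↔ ∃ m ∈ V J, f • m = ∑ s, c s • v s := Iff.rfl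

theorem filt_lat (hV : Filt (e := e) V) {r : ℕ} {v : Fin r → M} (hv : LinearIndependent (R k e) v) (f : R k e) :
    (∀ J, (lat V v f J).FG) ∧ Monotone (lat V v f) ∧
      ∀ J (o : Option (Fin e)), ∀ c ∈ lat V v f J, (X o : R k e) • c ∈ lat V v f (J + 1) := by
  refine ⟨fun J => ?_, fun J J' h => Submodule.comap_mono (Submodule.map_mono (hV.mono h)), fun J o c hc => ?_⟩
  · haveI : Module.Finite k ((V J).map (DistribSMul.toLinearMap k M f)) :=
      Module.Finite.iff_fg.2 ((hV.fin J).map _)
    let φ : lat V v f J →ₗ[k] ((V J).map (DistribSMul.toLinearMap k M f)) :=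
      (((Fintype.linearCombination (R k e) v).restrictScalars k).domRestrict _).codRestrict _ fun c => c.2
    refine Module.Finite.iff_fg.1 (Module.Finite.of_injective φ fun a b h => Subtype.ext ?_)
    exact linearIndependent_iff_injective_fintypeLinearCombination.1 hv (congrArg Subtype.val h) 
  · obtain ⟨m, hm, hc⟩ := mem_lat.1 hc
    refine mem_lat.2 ⟨_, hV.mul J o m hm, ?_⟩
    rw [smul_comm, hc, Finset.smul_sum]
    simp [mul_smul]

/-- A map of the module raising degrees becomes a matrix on the lattice. -/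
theorem exists_matrix {r j : ℕ} {v : Fin r → M} (hv : LinearIndependent (R k e) v) {f : R k e}
    (hvj : ∀ s, v s ∈ V j) (hspan : ∀ J, ∀ m ∈ V J, f • m ∈ Submodule.span (R k e) (Set.range v))
    (c : M →ₗ[R k e] M) (hc : ∀ J, ∀ m ∈ V J, c m ∈ V (J + 1)) :
    ∃ Z : Fin r → Fin r → R k e, (∀ J, ∀ m ∈ lat V v f J, ∃ m' ∈ lat V v f (J + 1), mulv Z m = f • m') ∧
      ∀ (a : Fin r → R k e), f • c (∑ s, a s • v s) = ∑ s, (mulv Z a) s • v s := by
  choose Z hZ using fun a => (Submodule.mem_span_range_iff_exists_fun _).1 (hspan _ _ (hc j _ (hvj a)))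
  have key : ∀ (a : Fin r → R k e), f • c (∑ s, a s • v s) = ∑ l, (mulv (fun l a => Z a l) a) l • v l := fun a => by
    simp only [map_sum, map_smul, Finset.smul_sum, smul_comm f, ← hZ, mulv, Finset.sum_smul, smul_smul]
    rw [Finset.sum_comm]
    simp [mul_comm]
  refine ⟨fun l a => Z a l, fun J m hm => ?_, key⟩
  obtain ⟨x, hx, hxm⟩ := mem_lat.1 hm
  obtain ⟨c', hc'⟩ := (Submodule.mem_span_range_iff_exists_fun _).1 (hspan _ _ (hc J x hx))
  refine ⟨c', mem_lat.2 ⟨c x, hc J x hx, hc'.symm⟩, ?_⟩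
  apply linearIndependent_iff_injective_fintypeLinearCombination.1 hv
  simp only [Fintype.linearCombination_apply]
  rw [← key, ← hxm, map_smul, ← hc', Finset.smul_sum]
  simp [mul_smul]

end Groth.L11.GM
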