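import Mathlib.Algebra.MvPolynomial.PDeriv
import Mathlib.Algebra.MvPolynomial.NoZeroDivisors
import Mathlib.Algebra.CharZero.Defs
import Mathlib.RingTheory.Localization.FractionRing
import Mathlib.RingTheory.UniqueFactorizationDomain.GCDMonoid
import Mathlib.RingTheory.Polynomial.UniqueFactorization
import Mathlib.LinearAlgebra.Dual.Lemmas
import Mathlib.Tactic.LinearCombination
import Mathlib.Tactic.Ring

/-!
# The universal line in affine space and the descent of modules stable under its derivations

`R` is the coordinate ring of affine space of dimension `e + 1`, `S` that of the universal point on a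
line through it: the coordinates of the point together with the slopes of the line.
-/

set_option autoImplicit false

universe u

open MvPolynomial

noncomputable section

namespace Groth.L11.GM

variable (k : Type u) [Field k] (e : ℕ)

/-- Coordinates of the ambient affine space; `none` is the coordinate along the line. -/
abbrev R : Type u := MvPolynomial (Option (Fin e)) k

/-- A point together with the slopes of a line through it. -/
abbrev S : Type u := MvPolynomial (Option (Fin e) ⊕ Fin e) k

/-- Intercepts and slopes of lines. -/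
abbrev P0 : Type u := MvPolynomial (Fin e ⊕ Fin e) k

variable {k e}

/-- Functions on the ambient space, seen at the point of the line. -/
def ψ : R k e →ₐ[k] S k e := rename Sum.inl

theorem ψ_injective : Function.Injective (ψ (k := k) (e := e)) :=
  rename_injective _ Sum.inl_injective

/-- The coordinate along the line. -/
def t : S k e := X (Sum.inl none)

/-- The parameters of the line. -/
def β : P0 k e →ₐ[k] S k e :=
  aeval (Sum.elim (fun i => X (Sum.inl (some i)) - X (Sum.inr i) * t) fun i => X (Sum.inr i))

/-- Variation of the slope with the point fixed. -/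
abbrev D (i : Fin e) : Derivation k (S k e) (S k e) := pderiv (Sum.inr i)

theorem D_ψ (i : Fin e) (p : R k e) : D i (ψ p) = 0 := by
  induction p using MvPolynomial.induction_on with
  | C a => rw [show (C a : R k e) = algebraMap k _ a from rfl, AlgHom.commutes, Derivation.map_algebraMap]
  | add a b ha hb => rw [map_add, map_add, ha, hb, add_zero]
  | mul_X a j ha => rw [map_mul, Derivation.leibniz, ha, ψ, rename_X, pderiv_X_of_ne (by simp)]; simp

theorem D_t (i : Fin e) : D i (t : S k e) = 0 := pderiv_X_of_ne (by simp)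

theorem D_β (i : Fin e) (l : P0 k e) : ∃ a b : P0 k e, D i (β l) = β a + t * β b := by
  induction l using MvPolynomial.induction_on with
  | C a =>
    exact ⟨0, 0, by
      rw [show (C a : P0 k e) = algebraMap k _ a from rfl, AlgHom.commutes, Derivation.map_algebraMap]; simp⟩
  | add a b ha hb =>
    obtain ⟨a1, a2, ha⟩ := ha
    obtain ⟨b1, b2, hb⟩ := hb
    exact ⟨a1 + b1, a2 + b2, by rw [map_add, map_add, ha, hb, map_add, map_add]; ring⟩
  | mul_X a j ha =>
    classical
    obtain ⟨a1, a2, ha⟩ := ha
    rcases j with l | l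
    · refine ⟨a1 * X (Sum.inl l), a2 * X (Sum.inl l) - if l = i then a else 0, ?_⟩
      rw [map_mul, Derivation.leibniz, ha]
      have hX : β (X (Sum.inl l) : P0 k e) = X (Sum.inl (some l)) - X (Sum.inr l) * t := by simp [β]
      have hD : D i (β (X (Sum.inl l) : P0 k e)) = if l = i then -t else 0 := by
        rw [hX, map_sub, Derivation.leibniz, D_t, pderiv_X_of_ne (by simp)]
        split_ifs with h
        · subst h; rw [pderiv_X_self]; simp
        · rw [pderiv_X_of_ne (by simp [h])]; simp
      rw [hD]
      split_ifs with h <;> simp only [map_mul, map_sub, map_zero, smul_eq_mul] <;> ring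
    · refine ⟨a1 * X (Sum.inr l) + if l = i then a else 0, a2 * X (Sum.inr l), ?_⟩
      rw [map_mul, Derivation.leibniz, ha]
      have hX : β (X (Sum.inr l) : P0 k e) = X (Sum.inr l) := by simp [β]
      have hD : D i (β (X (Sum.inr l) : P0 k e)) = if l = i then 1 else 0 := by
        rw [hX]
        split_ifs with h
        · subst h; rw [pderiv_X_self]
        · rw [pderiv_X_of_ne (by simp [h])]
      rw [hD]
      split_ifs with h <;> simp only [map_mul, map_add, map_zero, smul_eq_mul] <;> ring

theorem exists_ψ_of_D [CharZero k] {p : S k e} (h : ∀ i, D i p = 0) : ∃ q : R k e, ψ q = p := by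
  classical
  have hv : (p.vars : Set (Option (Fin e) ⊕ Fin e)) ⊆ Set.range Sum.inl := fun x hx => by
    rcases x with x | i
    · exact ⟨x, rfl⟩
    · exfalso
      obtain ⟨m, hm, hmi⟩ := (mem_vars _).1 hx
      have h0 : m (Sum.inr i) ≠ 0 := Finsupp.mem_support_iff.1 hmi
      have hm' : m - Finsupp.single (Sum.inr i) 1 + Finsupp.single (Sum.inr i) 1 = m :=
        tsub_add_cancel_of_le (Finsupp.single_le_iff.2 (Nat.one_le_iff_ne_zero.2 h0))
      have hc := congrArg (coeff (m - Finsupp.single (Sum.inr i) 1)) (h i)
      rw [coeff_pderiv, hm', coeff_zero] at hc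
      exact (mul_eq_zero.1 hc).elim (mem_support_iff.1 hm) (Nat.cast_add_one_ne_zero _)
  exact exists_rename_eq_of_vars_subset_range p Sum.inl Sum.inl_injective hv

theorem totalDegree_D_lt {p : S k e} (i : Fin e) (h : D i p ≠ 0) : (D i p).totalDegree < p.totalDegree := by
  obtain ⟨m, hm, hdeg⟩ := Finset.exists_mem_eq_sup _ (Finset.nonempty_iff_ne_empty.2 fun h' => h (support_eq_empty.1 h'))
    fun s : (Option (Fin e) ⊕ Fin e) →₀ ℕ => s.sum fun _ n => n
  have hc := mem_support_iff.1 hm
  rw [coeff_pderiv] at hc
  have hmem : m + Finsupp.single (Sum.inr i) 1 ∈ p.support := mem_support_iff.2 (left_ne_zero_of_mul hc)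
  have h1 : (D i p).totalDegree = m.sum fun _ n => n := hdeg
  rw [h1]
  refine lt_of_lt_of_le ?_ (le_totalDegree hmem)
  rw [Finsupp.sum_add_index' (fun _ => rfl) (fun _ _ _ => rfl), Finsupp.sum_single_index rfl]
  omega

/-- A fraction killed by all derivations is a fraction of functions on the ambient space. -/
theorem exists_ratio [CharZero k] {a b : S k e} (hb : b ≠ 0) (h : ∀ i, D i a * b = a * D i b) :
    ∃ A B : R k e, B ≠ 0 ∧ a * ψ B = b * ψ A := by
  obtain ⟨a', b', c, hrp, rfl, rfl⟩ := UniqueFactorizationMonoid.exists_reduced_factors' a b hb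
  have hc : c ≠ 0 := left_ne_zero_of_mul hb
  have hb' : b' ≠ 0 := right_ne_zero_of_mul hb
  have h' : ∀ i, D i a' * b' = a' * D i b' := fun i => by
    have := h i
    rw [Derivation.leibniz, Derivation.leibniz] at this
    simp only [smul_eq_mul] at this
    refine mul_left_cancel₀ (mul_ne_zero hc hc) ?_
    linear_combination this
  have hDb : ∀ i, D i b' = 0 := fun i => by
    by_contra hne
    obtain ⟨q, hq⟩ : b' ∣ D i b' := hrp.symm.dvd_of_dvd_mul_left ⟨D i a', by rw [← h' i]; ring⟩
    have hlt := totalDegree_D_lt i hne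
    rw [hq, totalDegree_mul_of_isDomain hb' (right_ne_zero_of_mul (hq ▸ hne))] at hlt
    omega
  have hDa : ∀ i, D i a' = 0 := fun i => by
    have := h' i
    rw [hDb i, mul_zero] at this
    exact (mul_eq_zero.1 this).resolve_right hb'
  obtain ⟨A, hA⟩ := exists_ψ_of_D hDa
  obtain ⟨B, hB⟩ := exists_ψ_of_D hDb
  exact ⟨A, B, fun h0 => hb' (by rw [← hB, h0, map_zero]), by rw [hA, hB]; ring⟩

variable {r : ℕ}

/-- The pairing of vectors. -/
def dot {A : Type u} [CommRing A] (p x : Fin r → A) : A := ∑ l, p l * x l

/-- Vectors with coordinates on the ambient space. -/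
def ψv (v : Fin r → R k e) : Fin r → S k e := fun l => ψ (v l)

theorem dot_ψv (φ v : Fin r → R k e) : dot (ψv φ) (ψv v) = ψ (dot φ v) := by
  simp [dot, ψv, map_sum, map_mul]

/-- Derivation in each coordinate. -/
def Dv (i : Fin e) (x : Fin r → S k e) : Fin r → S k e := fun l => D i (x l)

theorem D_dot (i : Fin e) (p x : Fin r → S k e) : D i (dot p x) = dot (Dv i p) x + dot p (Dv i x) := by
  simp only [dot, map_sum, Derivation.leibniz, smul_eq_mul, Dv, ← Finset.sum_add_distrib]
  exact Finset.sum_congr rfl fun l _ => by ring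

/-- If the annihilator of a set of vectors is stable under the derivations, so is it generated by vectors
on the ambient space. -/
theorem descent [CharZero k] {X : Set (Fin r → S k e)}
    (hX : ∀ p : Fin r → S k e, (∀ x ∈ X, dot p x = 0) → ∀ i, ∀ x ∈ X, dot (Dv i p) x = 0)
    {y : Fin r → S k e} (hy : ∀ φ : Fin r → R k e, (∀ x ∈ X, dot (ψv φ) x = 0) → dot (ψv φ) y = 0) :
    ∀ p : Fin r → S k e, (∀ x ∈ X, dot p x = 0) → dot p y = 0 := by
  classical
  let supp : (Fin r → S k e) → Finset (Fin r) := fun p => Finset.univ.filter fun l => p l ≠ 0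
  suffices H : ∀ (n : ℕ) (p : Fin r → S k e), (supp p).card = n → (∀ x ∈ X, dot p x = 0) → dot p y = 0 from
    fun p hp => H _ p rfl hp
  intro n
  induction n using Nat.strong_induction_on with
  | _ n ih =>
    intro p hn hp
    by_cases h0 : ∀ l, p l = 0
    · simp [dot, h0]
    obtain ⟨l, hl⟩ := not_forall.1 h0
    let T : Finset (Finset (Fin r)) := Finset.univ.filter fun s =>
      s.Nonempty ∧ s ⊆ supp p ∧ ∃ q : Fin r → S k e, supp q = s ∧ ∀ x ∈ X, dot q x = 0
    have hT : T.Nonempty := ⟨supp p, Finset.mem_filter.2 ⟨Finset.mem_univ _, ⟨l, by simp [supp, hl]⟩, le_rfl, p, rfl, hp⟩⟩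
    obtain ⟨s, hs, hmin⟩ := Finset.exists_min_image T Finset.card hT
    obtain ⟨-, ⟨m, hm⟩, hsp, q, hqs, hq⟩ := Finset.mem_filter.1 hs
    have hqm : q m ≠ 0 := by rw [← hqs] at hm; exact (Finset.mem_filter.1 hm).2
    have hsmall : ∀ w : Fin r → S k e, (∀ x ∈ X, dot w x = 0) → w m = 0 → (∀ j, q j = 0 → w j = 0) → ∀ j, w j = 0 := by
      intro w hw hwm hwq j
      by_contra hj
      have hsub : supp w ⊆ s.erase m := fun a ha => by
        have ha' := (Finset.mem_filter.1 ha).2
        refine Finset.mem_erase.2 ⟨fun h => ha' (h ▸ hwm), hqs ▸ ?_⟩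
        exact Finset.mem_filter.2 ⟨Finset.mem_univ _, fun h => ha' (hwq a h)⟩
      have hmem : supp w ∈ T := Finset.mem_filter.2 ⟨Finset.mem_univ _, ⟨j, by simp [supp, hj]⟩,
        (hsub.trans (Finset.erase_subset _ _)).trans hsp, w, rfl, hw⟩
      exact absurd (hmin _ hmem) (not_le.2 (lt_of_le_of_lt (Finset.card_le_card hsub) (Finset.card_erase_lt_of_mem hm)))
    have hdot : ∀ (a b : S k e) (u w z : Fin r → S k e), dot (fun j => a * u j - b * w j) z = a * dot u z - b * dot w z :=
      fun a b u w z => by
        simp only [dot, Finset.mul_sum, ← Finset.sum_sub_distrib]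
        exact Finset.sum_congr rfl fun j _ => by ring
    have hD : ∀ i j, D i (q j) * q m = q j * D i (q m) := fun i j => by
      have h := hsmall (fun j => q m * Dv i q j - D i (q m) * q j)
        (fun x hx => by rw [hdot, hX q hq i x hx, hq x hx]; ring) (by simp [Dv]; ring)
        (fun j hj => by simp [Dv, hj]) j
      simp only [Dv] at h
      linear_combination h
    choose A B hB hAB using fun j => exists_ratio (a := q j) hqm fun i => hD i j
    let φ : Fin r → R k e := fun j => (∏ a ∈ Finset.univ.erase j, B a) * A j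
    have hφ : ∀ j, q m * ψ (φ j) = ψ (∏ a, B a) * q j := fun j => by
      rw [← Finset.mul_prod_erase Finset.univ B (Finset.mem_univ j), map_mul, map_mul]
      linear_combination (-(ψ (∏ a ∈ Finset.univ.erase j, B a))) * hAB j
    have hφdot : ∀ z, q m * dot (ψv φ) z = ψ (∏ a, B a) * dot q z := fun z => by
      simp only [dot, Finset.mul_sum, ψv]
      exact Finset.sum_congr rfl fun j _ => by rw [← mul_assoc, hφ, mul_assoc]
    have hBp : ψ (∏ a, B a) ≠ 0 :=
      fun h => Finset.prod_ne_zero_iff.2 (fun a _ => hB a) (ψ_injective (h.trans (map_zero ψ).symm))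
    have hqy : dot q y = 0 := by
      have h1 := hy φ fun x hx => by
        have := hφdot x
        rw [hq x hx, mul_zero] at this
        exact (mul_eq_zero.1 this).resolve_left hqm
      have := hφdot y
      rw [h1, mul_zero] at this
      exact (mul_eq_zero.1 this.symm).resolve_left hBp
    let w : Fin r → S k e := fun j => q m * p j - p m * q j
    have hw : ∀ x ∈ X, dot w x = 0 := fun x hx => by rw [hdot, hp x hx, hq x hx]; ring
    have hpm : m ∈ supp p := hsp hm
    have hlt : (supp w).card < n := by
      rw [← hn]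
      refine Finset.card_lt_card (Finset.ssubset_iff_of_subset ?_ |>.2 ⟨m, hpm, ?_⟩)
      · intro a ha
        refine Finset.mem_filter.2 ⟨Finset.mem_univ _, fun h => (Finset.mem_filter.1 ha).2 ?_⟩
        have hqa : q a = 0 := by
          by_contra hqa
          exact (Finset.mem_filter.1 (hsp (hqs ▸ Finset.mem_filter.2 ⟨Finset.mem_univ _, hqa⟩ : a ∈ s))).2 h
        simp [w, h, hqa]
      · simp [supp, w]; ring
    have h2 := ih _ hlt w rfl hw
    rw [hdot, hqy, mul_zero, sub_zero] at h2
    exact (mul_eq_zero.1 h2).resolve_left hqm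

end Groth.L11.GM
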