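import Groth.Agent.L11.GM.Bound
import Groth.Agent.L11.NumOrth.Bounded
import Groth.Agent.L12.GenusZero.Apps
import Groth.Agent.L17.KilledUnit
import Groth.Agent.L16.Exist.Proper
import Groth.Agent.L22.Reg.Closed
import Groth.Agent.L11.Bdd.Basic
import Groth.Agent.L03.ShStab.Trunc
import Groth.Prelude.Def_W4c2simpsonmod1HP

/-!
# Boundedness of pure modules with bounded slopes
-/

set_option autoImplicit false
set_option linter.style.haveILetI false
set_option linter.unusedSectionVars false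
set_option backward.isDefEq.respectTransparency false
set_option backward.isDefEq.respectTransparency.types false

universe u

open CategoryTheory CategoryTheory.Limits AlgebraicGeometry TopologicalSpace Opposite

noncomputable section

namespace Groth.L11.GM

open Groth.L22.Reg Groth.L11.Lemma179
open Groth.L00.Tensor (tensorRightF tensorIso)
open Groth.L16
open Groth.L11.Slope (D1)

variable {k : Type u} [Field k] {n : ℕ}

/-- Second differences in terms of the polynomial. -/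
theorem diff_of_eval {G : (Pn n k).Modules} (hG : Coh.IsCoh G) {e : ℕ}
    (hd : topologicalKrullDim (CohB1.support G) ≤ ((e + 1 : ℕ) : WithBot ℕ∞)) {ψ : Polynomial ℚ}
    (hψ : ∀ t : ℤ, (chiP G t : ℚ) = ψ.eval (t : ℚ)) :
    ψ.natDegree ≤ e + 1 ∧ ((D1^[e + 1] (chiP G) 0 : ℤ) : ℚ) = StabCat.alpha (e + 1) ψ ∧
      ((D1^[e] (chiP G) 0 : ℤ) : ℚ) = StabCat.alpha e ψ - (e : ℚ) / 2 * StabCat.alpha (e + 1) ψ := by
  obtain ⟨P, hP, hPe⟩ := exists_chiP_poly hG hd
  obtain rfl : ψ = P := Polynomial.eq_of_infinite_eval_eq ψ P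
    (Set.infinite_of_injective_forall_mem (f := fun m : ℕ => ((m : ℤ) : ℚ)) (fun a b h => by simpa using h)
      fun m => (hψ m).symm.trans (hPe m))
  refine ⟨hP, ?_, ?_⟩
  · rw [Groth.L11.Slope.diff_poly (e + 1) ψ (by omega) _ hψ, Polynomial.coeff_eq_zero_of_natDegree_lt (n := e + 1 + 1) (by omega)]
    simp [StabCat.alpha]
  · rw [Groth.L11.Slope.diff_poly e ψ (by omega) _ hψ]
    simp only [StabCat.alpha]
    push_cast
    ring

/-- A slope bound bounds the second difference. -/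
theorem diff_le_of_hatSlope {G : (Pn n k).Modules} (hG : Coh.IsCoh G) {e : ℕ} (hA : AssDim G (e + 1)) (h0 : ¬ IsZero G)
    {ψ : Polynomial ℚ} (hψ : ∀ t : ℤ, (chiP G t : ℚ) = ψ.eval (t : ℚ)) {b : ℚ}
    (hb : StabCat.hatSlope (e + 1) ψ ≤ b) : D1^[e] (chiP G) 0 ≤ ⌈b⌉ * D1^[e + 1] (chiP G) 0 := by
  obtain ⟨-, h1, h2⟩ := diff_of_eval hG (dim_le_of_assDim hG hA) hψ
  have hpos : (1 : ℚ) ≤ ((D1^[e + 1] (chiP G) 0 : ℤ) : ℚ) := by exact_mod_cast one_le_chiP_diff hG hA h0
  have hb' : StabCat.alpha e ψ ≤ b * StabCat.alpha (e + 1) ψ :=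
    (div_le_iff₀ (by linarith)).1 (show StabCat.alpha e ψ / StabCat.alpha (e + 1) ψ ≤ b from hb)
  have hc := Int.le_ceil b
  have : ((D1^[e] (chiP G) 0 : ℤ) : ℚ) ≤ ((⌈b⌉ * D1^[e + 1] (chiP G) 0 : ℤ) : ℚ) := by
    push_cast
    rw [h1, h2]
    have : (0 : ℚ) ≤ (e : ℚ) := e.cast_nonneg
    nlinarith
  exact_mod_cast this

theorem chiP_eval_of_hilb {E : (Pn n k).Modules} (hE : Coh.IsCoh E) {P : Polynomial ℚ}
    (hP : ShStab.IsHilbPoly k (Pn n k) (O' n k 1) E P) (t : ℤ) : (chiP E t : ℚ) = P.eval (t : ℚ) := by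
  haveI := isProper_over_proj (k := k) (n := n)
  refine chiP_eq_eval hE (fun j => ?_) t
  obtain ⟨e⟩ := nonempty_O_one_pow n k j
  rw [chiP_eq, ← Groth.L03.Euler.euler_iso (k := k)
    (show ShStab.twist (CohB1.ProjSpace n k) (O' n k 1) E j ≅ tw' E (j : ℤ) from tensorIso (Iso.refl E) e)]
  exact hP j

section Closed

variable {X : Scheme.{u}} [X.Over (Spec (CommRingCat.of k))] [IsProper (X ↘ Spec (CommRingCat.of k))]
  (i : X ⟶ CohB1.ProjSpace n k) [IsClosedImmersion i] (hi : i ≫ CohB1.ProjSpace.toSpec n k = X ↘ Spec (CommRingCat.of k))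

/-- Submodules of a direct image along a closed immersion are direct images. -/
theorem exists_sub_push {E : X.Modules} (hE : Coh.IsCoh E) {K : (Pn n k).Modules} (hK : Coh.IsCoh K)
    (ι : K ⟶ (Coh.push i).obj E) [Mono ι] :
    ∃ (G : X.Modules) (φ : G ⟶ E), Mono φ ∧ Coh.IsCoh G ∧ Nonempty ((Coh.push i).obj G ≅ K) := by
  haveI := hK.1
  have hk : ClSub.KilledByIdeal i.ker K := fun U a ha m => by
    refine injective_app_of_mono ι U.1 ?_
    rw [map_zero]
    refine (ι.app_smul a m).trans ?_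
    exact Groth.L16.Exist.killed_push i E U a ha _
  haveI := Groth.L17.ClosedPush.isIso_counit i
  let adj := Scheme.Modules.pullbackPushforwardAdjunction i
  haveI : (Scheme.Modules.pushforward i).Faithful := adj.fullyFaithfulROfIsIsoCounit.faithful
  haveI : IsIso (adj.unit.app K) := Groth.L17.KilledUnit.isIso_of_killed i K hk
  let φ : (Scheme.Modules.pullback i).obj K ⟶ E := (adj.homEquiv K E).symm ι
  have hφ : adj.unit.app K ≫ (Scheme.Modules.pushforward i).map φ = ι := by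
    exact (adj.homEquiv_unit (f := φ)).symm.trans ((adj.homEquiv K E).apply_symm_apply ι)
  refine ⟨_, φ, ?_, Groth.L17.KilledUnit.isCoh_pullback_of_killed i K hK hk, ⟨(asIso (adj.unit.app K)).symm⟩⟩
  haveI : Mono ((Scheme.Modules.pushforward i).map φ) := by
    rw [show (Scheme.Modules.pushforward i).map φ = inv (adj.unit.app K) ≫ ι by rw [IsIso.eq_inv_comp, hφ]]
    infer_instance
  exact (Scheme.Modules.pushforward i).mono_of_mono_map inferInstance

include hi in
/-- The hypothesis of bounded slopes passes to the direct image. -/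
theorem slopes_push {L : X.Modules} (hL : CohB1.IsAmple L)
    (hLi : Nonempty ((Scheme.Modules.pullback i).obj (Twist.twistProjSpace n k 1) ≅ L)) {E : X.Modules}
    (hE : Coh.IsCoh E) {e : ℕ} (hp : ShStab.IsPure X E (e + 1)) {b : ℚ}
    (hb : ∀ (G : X.Modules) (ι : G ⟶ E), Mono ι → Coh.IsCoh G → ¬ IsZero G →
      ∀ pG : Polynomial ℚ, ShStab.IsHilbPoly k X L G pG → StabCat.hatSlope (e + 1) pG ≤ b)
    (K : (Pn n k).Modules) (ι : K ⟶ (Coh.push i).obj E) (hι : Mono ι) (hK : Coh.IsCoh K) (h0 : ¬ IsZero K) :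
    D1^[e] (chiP K) 0 ≤ ⌈b⌉ * D1^[e + 1] (chiP K) 0 := by
  haveI := hι
  haveI := Groth.L21.RR.isNoetherian_of_proper (X := X) k
  haveI := isProper_over_proj (k := k) (n := n)
  haveI := Groth.L11.Slope.noetherian_proj (k := k) (n := n)
  obtain ⟨G, φ, hφ, hG, ⟨eK⟩⟩ := exists_sub_push i hE hK ι
  haveI := hφ
  obtain ⟨eL⟩ := hLi
  have hGd : topologicalKrullDim (CohB1.support G) ≤ ((e + 1 : ℕ) : WithBot ℕ∞) :=
    (Groth.L03.Euler.topologicalKrullDim_set_mono (Groth.L21.Mod.support_mono φ)).trans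
      (dim_le_of_assDim hE (assDim_of_isPure hE hp))
  obtain ⟨pG, -, hpG⟩ := Groth.L03.Euler.exists_isHilbPoly (k := k) hL.1 hG hGd
  have hev := chiP_push_eval i hi (r := 1) ⟨Groth.L00.Tensor.tensorPowOne L ≪≫ eL.symm⟩ hG hpG
  have hKev : ∀ t : ℤ, (chiP K t : ℚ) = pG.eval (t : ℚ) := fun t => by
    have h := hev t
    rw [Nat.cast_one, map_one, one_mul, Polynomial.comp_X] at h
    rw [← h, chiP_eq, chiP_eq]
    exact congrArg (fun z : ℤ => (z : ℚ))
      (Groth.L03.Euler.euler_iso (k := k) ((tensorRightF (O' n k t)).mapIso eK.symm : tw' K t ≅ tw' ((Coh.push i).obj G) t))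
  refine diff_le_of_hatSlope hK (assDim_of_mono ι (assDim_push i hE (assDim_of_isPure hE hp))) h0 hKev
    (hb G φ hφ hG (fun hz => h0 (IsZero.of_iso ((Coh.push i).map_isZero hz) eK.symm)) pG hpG)

variable [CharZero k] [IsAlgClosed k]

include hi in
/-- Pure modules with fixed polynomial and bounded slopes form a bounded family. -/
theorem isBounded_of_slopes {L : X.Modules} (hL : CohB1.IsAmple L)
    (hLi : Nonempty ((Scheme.Modules.pullback i).obj (Twist.twistProjSpace n k 1) ≅ L)) (e : ℕ) (P : Polynomial ℚ) (b : ℚ) :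
    Pic13.IsBounded k X (fun E => Coh.IsCoh E ∧ ShStab.IsPure X E (e + 1) ∧ ShStab.IsHilbPoly k X L E P ∧
      ∀ (G : X.Modules) (ι : G ⟶ E), Mono ι → Coh.IsCoh G → ¬ IsZero G →
        ∀ pG : Polynomial ℚ, ShStab.IsHilbPoly k X L G pG → StabCat.hatSlope (e + 1) pG ≤ b) := by
  obtain ⟨M, hM⟩ := exists_regular_of_slopes.{u} e (fun t => ⌊P.eval (t : ℚ)⌋) ⌈b⌉
  refine ((Groth.L11.Bdd.Bd.of_isBounded (Groth.L11.Bounded.isBounded_mRegular i hi M P)).mono ?_).isBounded
  rintro E ⟨hE, hp, hP, hb⟩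
  haveI := Groth.L21.RR.isNoetherian_of_proper (X := X) k
  obtain ⟨eL⟩ := hLi
  have hev := fun t => chiP_push_eval i hi (r := 1) ⟨Groth.L00.Tensor.tensorPowOne L ≪≫ eL.symm⟩ hE hP t
  simp only [Nat.cast_one, map_one, one_mul, Polynomial.comp_X] at hev
  have hiE := isCoh_push_closed i hE
  refine ⟨E, ⟨hE, (regular_push_iff i hi hE).2 (hM k n _ hiE (assDim_push i hE (assDim_of_isPure hE hp))
    (funext fun t => by rw [← hev, Int.floor_intCast]) fun K ι hι hK h0 => ?_), fun d => ?_⟩, ⟨Iso.refl E⟩⟩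
  · exact slopes_push i hi hL ⟨eL⟩ hE hp hb K ι hι hK h0
  · rw [eulerCharLE_twistOn i hi hE, hev]

include hi in
/-- Pure modules of dimension zero with fixed polynomial form a bounded family. -/
theorem isBounded_dim_zero {L : X.Modules} (hL : CohB1.IsAmple L)
    (hLi : Nonempty ((Scheme.Modules.pullback i).obj (Twist.twistProjSpace n k 1) ≅ L)) (P : Polynomial ℚ) :
    Pic13.IsBounded k X (fun E => Coh.IsCoh E ∧ ShStab.IsPure X E 0 ∧ ShStab.IsHilbPoly k X L E P) := by
  refine ((Groth.L11.Bdd.Bd.of_isBounded (Groth.L11.Bounded.isBounded_mRegular i hi 0 P)).mono ?_).isBounded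
  rintro E ⟨hE, hp, hP⟩
  obtain ⟨eL⟩ := hLi
  have hev := fun t => chiP_push_eval i hi (r := 1) ⟨Groth.L00.Tensor.tensorPowOne L ≪≫ eL.symm⟩ hE hP t
  simp only [Nat.cast_one, map_one, one_mul, Polynomial.comp_X] at hev
  have hiE := isCoh_push_closed i hE
  haveI := Groth.L21.RR.isNoetherian_of_proper (X := X) k
  refine ⟨E, ⟨hE, (regular_push_iff i hi hE).2 fun q hq => ?_, fun d => ?_⟩, ⟨Iso.refl E⟩⟩
  · exact Groth.L11.Slope.subsingleton_above_dim hiE (d := 0)
      (dim_le_of_assDim hiE (assDim_push i hE (assDim_of_isPure hE hp))) (by omega) _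
  · rw [eulerCharLE_twistOn i hi hE, hev]

end Closed

end Groth.L11.GM
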