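import Groth.Agent.L11.GM.Bound

/-!
# Fewer sections when the slope is very negative
-/

set_option autoImplicit false
set_option linter.style.haveILetI false
set_option linter.unusedSectionVars false
set_option backward.isDefEq.respectTransparency false
set_option backward.isDefEq.respectTransparency.types false

universe u

open CategoryTheory CategoryTheory.Limits AlgebraicGeometry TopologicalSpace Opposite

noncomputable section

namespace Groth.L11.GM

open Groth.L22.Reg Groth.L11.Lemma179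
open Groth.L00.Tensor (tensorRightF)
open Groth.L16
open Groth.L11.Slope (D1)

variable {k : Type u} [Field k] {n : ℕ}

theorem injective_mulF {M : (Pn n k).Modules} (f : Form n k) [Mono (mu (sigmaF f) M)] (j : ℕ) :
    Function.Injective (mulF f M j) := (injective_iff_map_eq_zero _).2 fun φ hφ => by
  obtain ⟨a⟩ := nonempty_O_add (n := n) (R := k) (show (1 : ℤ) + -1 = 0 by norm_num)
  obtain ⟨z⟩ := nonempty_O_zero n k
  haveI : (tensorRightF (Lm n k)).IsEquivalence :=
    inferInstanceAs (Groth.L21.Bundle.twistEquiv (L := Lm n k) (L' := O' n k 1) (a ≪≫ z)).functor.IsEquivalence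
  haveI : (tensorRightF (Lm n k)).Additive := Functor.additive_of_preserves_binary_products _
  refine (tensorRightF (Lm n k)).map_injective ?_
  rw [← cancel_mono (mu (sigmaF f) M), mu_natural, ← mulF_apply, hφ, Functor.map_zero, zero_comp]

/-- In dimension one a very negative degree caps the growth of sections. -/
theorem curve_gap [Infinite k] {T : (Pn n k).Modules} (hT : Coh.IsCoh T) (hA : AssDim T 1) (h0 : h0t T 0 = 0) {K : ℕ}
    (hpos : 1 ≤ D1^[1] (chiP T) 0) (hK : chiP T 0 ≤ -((K : ℤ) * D1^[1] (chiP T) 0)) :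
    ∀ t : ℕ, (h0t T (t : ℤ) : ℤ) + (min t K : ℕ) ≤ (t : ℤ) * D1^[1] (chiP T) 0 := by
  haveI := Groth.L11.Slope.noetherian_proj (k := k) (n := n)
  obtain ⟨ℓ, hℓ⟩ := exists_form_avoiding (n := n) (k := k) (finite_avoid hT hA)
  obtain ⟨hm, hSA⟩ := assDim_coker hT hA ℓ hℓ
  haveI := hm
  let ι : CohB1.tensorMod T (Twist.twistProjSpace n k (-1)) ⟶ T := mu (sigmaF ℓ) T
  haveI : Mono ι := hm
  let S := cokernel (mu (sigmaF ℓ) T)
  have hS : Coh.IsCoh S := coh_coker hT ℓ
  haveI := hS.1
  set α := D1^[1] (chiP T) 0 with hαdef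
  have hlin := fun t : ℤ => chiP_diff_lin hT (e := 0) (dim_le_of_assDim hT hA) t
  have hconst : ∀ s : ℤ, (h0t S s : ℤ) = α := fun s => by
    rw [← chiP_eq_h0t fun q hq => Groth.L11.Slope.subsingleton_above_dim hS (dim_le_of_assDim hS hSA) (by omega) s]
    show chiP (cokernel ι) s = α
    rw [chiP_hyp hT ι s]
    exact (hlin s).2
  let π : T ⟶ S := cokernel.π (mu (sigmaF ℓ) T)
  let G : ∀ J, (Tp n k J ⟶ T) →ₗ[k] (Tp n k J ⟶ S) := fun J => Linear.rightComp k (Tp n k J) π
  have hker : ∀ J, LinearMap.ker (G (J + 1)) = LinearMap.range (mulF ℓ T J) := fun J => by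
    refine le_antisymm (fun ψ hψ => exists_mulF_eq ℓ ψ hψ) ?_
    rintro _ ⟨ψ, rfl⟩
    show mulF ℓ T J ψ ≫ π = 0
    rw [mulF_apply, Category.assoc, reassoc_of% (mu_natural (sigmaF ℓ) ψ).symm, cokernel.condition, comp_zero]
  have hdim : ∀ J, (h0t T ((J + 1 : ℕ) : ℤ) : ℤ) =
      (h0t T (J : ℤ) : ℤ) + Module.finrank k (LinearMap.range (G (J + 1))) := fun J => by
    haveI := finite_hom hT (J + 1)
    have h := LinearMap.finrank_range_add_finrank_ker (G (J + 1))
    rw [hker, LinearMap.finrank_range_of_inj (injective_mulF ℓ J), finrank_hom, finrank_hom] at h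
    omega
  have hle : ∀ J, (Module.finrank k (LinearMap.range (G (J + 1))) : ℤ) ≤ α := fun J => by
    haveI := finite_hom hS (J + 1)
    rw [← hconst ((J + 1 : ℕ) : ℤ), ← finrank_hom]
    exact_mod_cast Submodule.finrank_le _
  have hstep : ∀ J, (Module.finrank k (LinearMap.range (G (J + 1))) : ℤ) = α →
      (Module.finrank k (LinearMap.range (G (J + 2))) : ℤ) = α := fun J hJ => by
    haveI := finite_hom hS (J + 1)
    haveI := finite_hom hS (J + 2)
    obtain ⟨g, hg⟩ := exists_form_avoiding (n := n) (k := k) (Groth.L22.EnrSev.finite_setOf_isAssPoint hS.2)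
    haveI : Mono (mu (sigmaF g) S) := mono_mu_sigmaF hS g fun x hx => hg x hx
    have e1 : Module.finrank k (Tp n k (J + 1) ⟶ S) = Module.finrank k (Tp n k (J + 2) ⟶ S) := by
      rw [finrank_hom, finrank_hom]
      exact_mod_cast (hconst _).trans (hconst _).symm
    have hsurj := (LinearMap.injective_iff_surjective_of_finrank_eq_finrank e1).1 (injective_mulF g (J + 1))
    have htop : LinearMap.range (G (J + 1)) = ⊤ := Submodule.eq_top_of_finrank_eq (by
      have := hconst ((J + 1 : ℕ) : ℤ)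
      rw [← finrank_hom] at this
      omega)
    have htop' : LinearMap.range (G (J + 2)) = ⊤ := LinearMap.range_eq_top.2 fun χ => by
      obtain ⟨χ', rfl⟩ := hsurj χ
      obtain ⟨ξ, rfl⟩ := LinearMap.range_eq_top.1 htop χ'
      exact ⟨mulF g T (J + 1) ξ, (mulF_comp g π ξ).symm⟩
    rw [htop', finrank_top, finrank_hom, hconst]
  have hlt : ∀ J, J < K → (Module.finrank k (LinearMap.range (G (J + 1))) : ℤ) ≤ α - 1 := fun J hJ => by
    by_contra hcon
    have heq : (Module.finrank k (LinearMap.range (G (J + 1))) : ℤ) = α := by have := hle J; omega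
    have hall : ∀ a, (Module.finrank k (LinearMap.range (G (J + a + 1))) : ℤ) = α := fun a => by
      induction a with
      | zero => exact heq
      | succ a ih => exact hstep _ ih
    have hsum : ∀ a : ℕ, (h0t T ((J + a : ℕ) : ℤ) : ℤ) = (h0t T (J : ℤ) : ℤ) + a * α := fun a => by
      induction a with
      | zero => simp
      | succ a ih =>
        rw [show J + (a + 1) = J + a + 1 from rfl, hdim, ih, hall]
        push_cast
        ring
    obtain ⟨Jc, hJc⟩ := exists_finrank_hom hT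
    have h1 := hJc (J + Jc) (by omega)
    have h9 := (hlin ((J + Jc : ℕ) : ℤ)).1
    simp only [Function.iterate_zero, id_eq, zero_add] at h9
    rw [finrank_hom, hsum, h9] at h1
    have h2 : (0 : ℤ) ≤ (h0t T (J : ℤ) : ℤ) := Nat.cast_nonneg _
    have hmul : ((J : ℤ) + 1) * α ≤ (K : ℤ) * α := mul_le_mul_of_nonneg_right (by omega) (by omega)
    push_cast at h1
    nlinarith
  intro t
  induction t with
  | zero => simp [h0]
  | succ t ih =>
    rw [hdim, show ((t + 1 : ℕ) : ℤ) * α = (t : ℤ) * α + α by push_cast; ring]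
    rcases Nat.lt_or_ge t K with ht | ht
    · have := hlt t ht
      omega
    · have := hle t
      omega

theorem secBound_step_eq (α : ℤ) (m : ℕ) (t : ℤ) :
    secBound α (m + 1) (t - 1) + secBound α m t = secBound α (m + 1) t := by
  unfold secBound
  rw [← Nat.mul_add]
  congr 1
  rw [show t - 1 + ((m + 1 : ℕ) : ℤ) = t + (m : ℤ) by push_cast; ring]
  rcases le_or_gt 0 (t + (m : ℤ)) with h | h
  · rw [show (t + ((m + 1 : ℕ) : ℤ)).toNat = (t + (m : ℤ)).toNat + 1 by omega, Nat.choose_succ_succ, add_comm]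
  · rw [show (t + (m : ℤ)).toNat = 0 by omega, show (t + ((m + 1 : ℕ) : ℤ)).toNat = 0 by omega]
    simp

/-- The saving in sections. -/
def saving (m : ℕ) (K : ℕ) (t : ℤ) : ℤ := (secBound 1 m t : ℤ) - secBound 1 m (t - K)

theorem saving_step (m K : ℕ) (t : ℤ) : saving (m + 1) K (t - 1) + saving m K t = saving (m + 1) K t := by
  have h1 := secBound_step_eq 1 m t
  have h2 := secBound_step_eq 1 m (t - K)
  rw [show t - (K : ℤ) - 1 = t - 1 - K by ring] at h2
  simp only [saving]
  omega

theorem saving_neg (m K : ℕ) {t : ℤ} (ht : t ≤ 0) : saving m K t = 0 := by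
  simp only [saving, secBound]
  rw [Nat.choose_eq_zero_of_lt (by omega : (t + (m : ℤ)).toNat < m + 1),
    Nat.choose_eq_zero_of_lt (by omega : (t - (K : ℤ) + (m : ℤ)).toNat < m + 1)]
  simp

theorem gap_of_chain [Infinite k] {K : ℕ} : ∀ (m : ℕ) (E T : (Pn n k).Modules), Chain m E T → Coh.IsCoh E →
    AssDim E (m + 1) → h0t T 0 = 0 → 1 ≤ D1^[m + 1] (chiP E) 0 → D1^[m] (chiP E) 0 ≤ -((K : ℤ) * D1^[m + 1] (chiP E) 0) →
    ∀ t : ℤ, (h0t E t : ℤ) + saving m K t ≤ (secBound (D1^[m + 1] (chiP E) 0) m t : ℤ) := by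
  intro m E T h
  induction h with
  | refl E =>
    intro hE hA h0 hp hK t
    rcases le_or_gt t 0 with ht | ht
    · rw [saving_neg 0 K ht, add_zero]
      exact_mod_cast h0t_le_of_chain 0 E E (Chain.refl E) hE hA h0 t
    · obtain ⟨a, rfl⟩ : ∃ a : ℕ, t = (a : ℤ) := ⟨t.toNat, by omega⟩
      have h := curve_gap hE hA h0 hp (by simpa using hK) a
      have hα := (chiP_diff_top hE (e := 1) (dim_le_of_assDim hE hA)).1
      simp only [secBound, saving, zero_add, Nat.choose_one_right, Int.toNat_one, one_mul, Nat.cast_zero, add_zero,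
        Int.toNat_natCast, Nat.cast_mul, Int.toNat_of_nonneg hα]
      rw [mul_comm (D1^[1] (chiP E) 0)]
      omega
  | @step m E T g hg hA' hc ih =>
    intro hE hA h0 hp hK
    haveI := hg
    let ι : CohB1.tensorMod E (Twist.twistProjSpace n k (-1)) ⟶ E := mu (sigmaF g) E
    haveI : Mono ι := hg
    have hα : ∀ i, D1^[i] (chiP (cokernel ι)) 0 = D1^[i + 1] (chiP E) 0 := fun i => chiP_coker_diff hE ι i 0
    have hK' : D1^[m] (chiP (cokernel ι)) 0 ≤ -((K : ℤ) * D1^[m + 1] (chiP (cokernel ι)) 0) := by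
      rw [hα, hα]; exact hK
    have ih' := fun s => hα (m + 1) ▸ ih (coh_coker hE g) hA' h0 (by rw [hα]; exact hp) hK' s
    intro t
    rcases le_or_gt t 0 with ht | ht
    · rw [saving_neg _ K ht, add_zero]
      exact_mod_cast h0t_le_of_chain (m + 1) E T (Chain.step g hg hA' hc) hE hA h0 t
    obtain ⟨a, rfl⟩ : ∃ a : ℕ, t = (a : ℤ) := ⟨t.toNat, by omega⟩
    clear ht
    induction a with
    | zero =>
      rw [Nat.cast_zero, saving_neg _ K le_rfl, add_zero]
      exact_mod_cast h0t_le_of_chain (m + 1) E T (Chain.step g hg hA' hc) hE hA h0 0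
    | succ a iha =>
      have h1 : (h0t E ((a + 1 : ℕ) : ℤ) : ℤ) ≤ h0t E (((a + 1 : ℕ) : ℤ) - 1) + h0t (cokernel ι) ((a + 1 : ℕ) : ℤ) := by
        exact_mod_cast h0t_step hE ι _
      have h2 := ih' ((a + 1 : ℕ) : ℤ)
      have h3 : (secBound (D1^[m + 1 + 1] (chiP E) 0) (m + 1) (((a + 1 : ℕ) : ℤ) - 1) : ℤ) +
          secBound (D1^[m + 1 + 1] (chiP E) 0) m ((a + 1 : ℕ) : ℤ) =
            secBound (D1^[m + 1 + 1] (chiP E) 0) (m + 1) ((a + 1 : ℕ) : ℤ) := by
        have h := secBound_step_eq (D1^[m + 1 + 1] (chiP E) 0) m ((a + 1 : ℕ) : ℤ)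
        rw [← h]
        push_cast
        ring
      have h4 := saving_step m K ((a + 1 : ℕ) : ℤ)
      rw [show ((a + 1 : ℕ) : ℤ) - 1 = (a : ℤ) by omega] at h1 h3 h4
      change (h0t (cokernel ι) ((a + 1 : ℕ) : ℤ) : ℤ) + _ ≤ _ at h2
      linarith

end Groth.L11.GM
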