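import Groth.Agent.L11.Lemma179.Ell
import Groth.Agent.L11.Lemma179.Diff

/-!
# Saturations in pure modules on projective space
-/

set_option autoImplicit false
set_option linter.style.haveILetI false
set_option linter.unusedSectionVars false
set_option backward.isDefEq.respectTransparency false
set_option backward.isDefEq.respectTransparency.types false

universe u

open CategoryTheory CategoryTheory.Limits AlgebraicGeometry TopologicalSpace Opposite
open Groth.L00.SubobjLattice (qt qπ)

noncomputable section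

namespace Groth.L11.GM

open Groth.L22.Reg Groth.L11.Lemma179
open Groth.L16
open Groth.L03.ShStab Groth.L03.ShStab.Basic
open Groth.L11.Slope (D1)

variable {k : Type u} [Field k] {n : ℕ}

theorem alpha_eq_diff {F : (CohB1.ProjSpace n k).Modules} (hF : Coh.IsCoh F) {d : ℕ}
    (h : topologicalKrullDim (CohB1.support F) ≤ (d : WithBot ℕ∞)) {p : Polynomial ℚ}
    (hp : ShStab.IsHilbPoly k (CohB1.ProjSpace n k) (O' n k 1) F p) :
    StabCat.alpha d p = ((D1^[d] (chiP F) 0 : ℤ) : ℚ) := by
  haveI := isProper_over_proj (k := k) (n := n)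
  obtain ⟨P, hd, hP⟩ := exists_chiP_poly hF h
  have hH := Groth.L11.Slope.isHilbPoly_O1 (E := F) (P := P) fun m => by rw [← chiP_eq]; exact hP m
  rw [Groth.L03.Euler.isHilbPoly_unique hp hH, Groth.L11.Slope.diff_poly d P (by omega) _ hP,
    Polynomial.coeff_eq_zero_of_natDegree_lt (n := d + 1) (by omega)]
  simp [StabCat.alpha, mul_comm]

/-- A submodule of a pure module lies in one of the same rank with pure quotient. -/
theorem exists_sat {E G : (CohB1.ProjSpace n k).Modules} (hE : Coh.IsCoh E) {d : ℕ} (hA : AssDim E d)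
    (hG : Coh.IsCoh G) (ι : G ⟶ E) [Mono ι] :
    ∃ (G' : (CohB1.ProjSpace n k).Modules) (j : G ⟶ G') (ι' : G' ⟶ E), Mono ι' ∧ Coh.IsCoh G' ∧ j ≫ ι' = ι ∧
      AssDim (cokernel ι') d ∧ D1^[d] (chiP G') 0 = D1^[d] (chiP G) 0 := by
  haveI := isProper_over_proj (k := k) (n := n)
  haveI := Groth.L11.Slope.noetherian_proj (k := k) (n := n)
  have hL := isAmple_O1' (n := n) (k := k)
  have hp : ShStab.IsPure (CohB1.ProjSpace n k) E d := isPure_of_assDim hE hA
  have hd := dim_le_of_isPure hE hp
  obtain ⟨pG, hpG⟩ := exists_hilb (k := k) hL.1 hG (dim_sub_le ι hd)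
  obtain ⟨a, ha1, hqa, -, -⟩ := Filt.exists_mem (k := k) hL hE hd G ι hG hpG
  obtain ⟨c, hac, hc0, hcp⟩ := (Bridge.stabData (k := k) hL hE hd).exists_saturation a
  have hle : Subobject.mk ι ≤ c.1 := ha1 ▸ hac
  have heq : (Bridge.stabData (k := k) hL hE hd).av ⊥ a = (Bridge.stabData (k := k) hL hE hd).av ⊥ c := by
    rw [← (Bridge.stabData (k := k) hL hE hd).av_add ⊥ a c, hc0, add_zero]
  refine ⟨(c.1 : (CohB1.ProjSpace n k).Modules), (Subobject.underlyingIso ι).inv ≫ Subobject.ofLE _ c.1 hle, c.1.arrow,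
    inferInstance, c.2, ?_, ?_, ?_⟩
  · rw [Category.assoc, Subobject.ofLE_arrow, Subobject.underlyingIso_arrow]
  · obtain ⟨e⟩ := Filt.nonempty_qt_top (E := E) c.1
    exact assDim_of_isPure (CohKernel.isCoh_kernel_cokernel c.2 hE c.1.arrow).2
      (isPure_sub ((Bridge.isPure_qt_iff (k := k) hL hE hd (a := c) (b := ⊤) le_top).2 hcp) e.inv)
  · simp only [StabData.av, hqa, Filt.q_bot] at heq
    rw [alpha_eq_diff hG (dim_sub_le ι hd) hpG,
      alpha_eq_diff c.2 (dim_sub_le c.1.arrow hd) (Bridge.hp_spec (k := k) hL hE hd c)] at heq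
    exact_mod_cast heq.symm

end Groth.L11.GM
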