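import Groth.Agent.L11.GM.Line
import Groth.Agent.L11.GM.Sat

/-!
# The subsheaf cut out by equations on the lattice
-/

set_option autoImplicit false
set_option linter.style.haveILetI false
set_option linter.unusedSectionVars false
set_option backward.isDefEq.respectTransparency false
set_option backward.isDefEq.respectTransparency.types false

universe u

open CategoryTheory CategoryTheory.Limits AlgebraicGeometry TopologicalSpace Opposite

noncomputable section

namespace Groth.L11.GM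

open Groth.L22.Reg Groth.L11.Lemma179
open Groth.L16

variable {k : Type u} [Field k] {n : ℕ} {e r q : ℕ} (y0 : Form n k) (yo : Option (Fin e) → Form n k)
  {E : (Pn n k).Modules} (v : Fin r → Md y0 yo E) (f : R k e) (Φ : Fin q → Fin r → R k e)

/-- A section whose coordinates satisfy the equations. -/
def Killed (m : Md y0 yo E) : Prop := ∃ c : Fin r → R k e, f • m = ∑ l, c l • v l ∧ ∀ a, dot (Φ a) c = 0

variable {v f Φ}

theorem dot_add (x c c' : Fin r → R k e) : dot x (c + c') = dot x c + dot x c' := by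
  simp [dot, mul_add, Finset.sum_add_distrib]

theorem dot_smul_R (p : R k e) (x c : Fin r → R k e) : dot x (p • c) = p * dot x c := by
  simp only [dot, Pi.smul_apply, smul_eq_mul, Finset.mul_sum]
  exact Finset.sum_congr rfl fun _ _ => by ring

theorem Killed.add {m m' : Md y0 yo E} (h : Killed y0 yo v f Φ m) (h' : Killed y0 yo v f Φ m') :
    Killed y0 yo v f Φ (m + m') := by
  obtain ⟨c, hc, hd⟩ := h
  obtain ⟨c', hc', hd'⟩ := h'
  exact ⟨c + c', by simp [smul_add, hc, hc', add_smul, Finset.sum_add_distrib],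
    fun a => by rw [dot_add, hd, hd', add_zero]⟩

theorem Killed.smul {m : Md y0 yo E} (h : Killed y0 yo v f Φ m) (p : R k e) : Killed y0 yo v f Φ (p • m) := by
  obtain ⟨c, hc, hd⟩ := h
  exact ⟨p • c, by rw [smul_comm, hc, Finset.smul_sum]; simp [mul_smul],
    fun a => by rw [dot_smul_R, hd, mul_zero]⟩

theorem killed_zero : Killed y0 yo v f Φ (0 : Md y0 yo E) := ⟨0, by simp, fun a => by simp [dot]⟩

theorem Killed.sum {ι : Type*} (s : Finset ι) {m : ι → Md y0 yo E} (h : ∀ i ∈ s, Killed y0 yo v f Φ (m i)) :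
    Killed y0 yo v f Φ (∑ i ∈ s, m i) := by
  classical
  induction s using Finset.induction with
  | empty => exact killed_zero y0 yo
  | insert i s hi ih =>
    rw [Finset.sum_insert hi]
    exact (h i (Finset.mem_insert_self i s)).add y0 yo (ih fun j hj => h j (Finset.mem_insert_of_mem hj))

variable {j : ℕ} (hv : LinearIndependent (R k e) v) (hvj : ∀ l, v l ∈ VE y0 yo E j)
  (hspan : ∀ J, ∀ m ∈ VE y0 yo E J, f • m ∈ Submodule.span (R k e) (Set.range v)) (hf : f ≠ 0)

include hv hspan in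
theorem Killed.of_smul {m : Md y0 yo E} {J : ℕ} (hm : m ∈ VE y0 yo E J) {p : R k e} (hp : p ≠ 0)
    (h : Killed y0 yo v f Φ (p • m)) : Killed y0 yo v f Φ m := by
  obtain ⟨c, hc, hd⟩ := h
  obtain ⟨c', hc'⟩ := (Submodule.mem_span_range_iff_exists_fun _).1 (hspan J m hm)
  refine ⟨c', hc'.symm, fun a => ?_⟩
  have hpc : p • c' = c := coords_unique hv (by
    rw [← hc, smul_comm, ← hc', Finset.smul_sum]
    simp [mul_smul])
  have := hd a
  rw [← hpc, dot_smul_R] at this
  exact (mul_eq_zero.1 this).resolve_left hp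

/-- The equations are stable under the forms. -/
def Stable (f : R k e) (Φ : Fin q → Fin r → R k e) (F : ℕ → Submodule k (Fin r → R k e)) : Prop :=
  ∀ (Z : Fin r → Fin r → R k e) (g : R k e), g ≠ 0 → (∀ J, ∀ m ∈ F J, ∃ m' ∈ F (J + 1), mulv Z m = g • m') →
    ∀ c : Fin r → R k e, (∀ a, dot (Φ a) c = 0) → ∀ a, dot (Φ a) (mulv Z c) = 0

variable (hst : Stable f Φ (lat (VE y0 yo E) v f))

include hv hvj hspan hf hst in
theorem Killed.mulC (g : Form n k) {m : Md y0 yo E} {J : ℕ} (hm : m ∈ VE y0 yo E J)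
    (h : Killed y0 yo v f Φ m) : Killed y0 yo v f Φ (mulC y0 yo E g m) := by
  obtain ⟨Z, hZ, key⟩ := exists_matrix hv hvj hspan (Groth.L11.GM.mulC y0 yo E g)
    (fun J m hm => mulC_mem_Vsub y0 yo g hm)
  obtain ⟨c, hc, hd⟩ := h
  obtain ⟨c', hc'⟩ := (Submodule.mem_span_range_iff_exists_fun _).1 (hspan (J + 1) _ (mulC_mem_Vsub y0 yo g hm))
  refine ⟨c', hc'.symm, fun a => ?_⟩
  have h1 : f • c' = mulv Z c := coords_unique hv (by
    rw [← key, ← hc, map_smul, ← hc', Finset.smul_sum]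
    simp [mul_smul])
  have h2 := hst Z f hf hZ c hd a
  rw [← h1, dot_smul_R] at h2
  exact (mul_eq_zero.1 h2).resolve_left hf

include hv hvj hspan hf hst in
theorem Killed.mulAny (hE : Coh.IsCoh E) (cc : Γ(Pn n k, Dy y0)) {m : Md y0 yo E} {J : ℕ}
    (hm : m ∈ VE y0 yo E J) (h : Killed y0 yo v f Φ m) :
    Killed y0 yo v f Φ (toMd y0 yo (cc • (show Γ(E, Dy y0) from m))) := by
  obtain ⟨N, rfl⟩ := exists_eval y0 cc
  suffices H : ∀ (J : ℕ) (m : Md y0 yo E), m ∈ VE y0 yo E J → Killed y0 yo v f Φ m →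
      ∃ J', toMd y0 yo (MvPolynomial.eval₂ (scalD y0) (fun i => coef y0 ⟨MvPolynomial.X i, ProjSpace.X_mem n k i⟩) N •
        (show Γ(E, Dy y0) from m)) ∈ VE y0 yo E J' ∧
        Killed y0 yo v f Φ (toMd y0 yo (MvPolynomial.eval₂ (scalD y0)
          (fun i => coef y0 ⟨MvPolynomial.X i, ProjSpace.X_mem n k i⟩) N • (show Γ(E, Dy y0) from m))) by
    obtain ⟨J', -, h'⟩ := H J m hm h
    exact h'
  clear hm h m J
  induction N using MvPolynomial.induction_on with
  | C a =>
    intro J m hm h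
    rw [MvPolynomial.eval₂_C, ← md_ksmul, ← algebraMap_smul (R k e) a m]
    exact ⟨J, by rw [algebraMap_smul]; exact Submodule.smul_mem _ a hm, h.smul y0 yo _⟩
  | add N N' hN hN' =>
    intro J m hm h
    obtain ⟨J₁, h1, h1'⟩ := hN J m hm h
    obtain ⟨J₂, h2, h2'⟩ := hN' J m hm h
    rw [MvPolynomial.eval₂_add, add_smul]
    have hmono := (filt_Vsub y0 yo hE (𝟙 E) : Filt (e := e) (VE y0 yo E)).mono
    exact ⟨max J₁ J₂, Submodule.add_mem _ (hmono (le_max_left _ _) h1) (hmono (le_max_right _ _) h2),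
      h1'.add y0 yo h2'⟩
  | mul_X N i hN =>
    intro J m hm h
    obtain ⟨J', h1, h1'⟩ := hN J m hm h
    rw [MvPolynomial.eval₂_mul, MvPolynomial.eval₂_X, mul_comm, mul_smul]
    exact ⟨J' + 1, mulC_mem_Vsub y0 yo ⟨MvPolynomial.X i, ProjSpace.X_mem n k i⟩ h1,
      h1'.mulC y0 yo hv hvj hspan hf hst ⟨MvPolynomial.X i, ProjSpace.X_mem n k i⟩ h1⟩

include hv hvj hspan hf hst in
/-- A saturated subsheaf whose sections are exactly those satisfying the equations. -/
theorem exists_killed_sub (hE : Coh.IsCoh E) (hA : AssDim E (e + 1)) (hcov : Covers y0 yo E) :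
    ∃ (G : (Pn n k).Modules) (ι : G ⟶ E), Mono ι ∧ Coh.IsCoh G ∧ AssDim (cokernel ι) (e + 1) ∧
      (∀ J, ∀ m ∈ Vsub y0 yo ι J, Killed y0 yo v f Φ m) ∧
      ∀ c : Fin r → R k e, (∀ a, dot (Φ a) c = 0) → ∀ {H : (Pn n k).Modules} (g : E ⟶ H), ι ≫ g = 0 →
        ∑ l, rho y0 yo (c l) • g.app (Dy y0) (show Γ(E, Dy y0) from v l) = 0 := by
  classical
  haveI := Groth.L11.Slope.noetherian_proj (k := k) (n := n)
  let W : Submodule (R k e) (Fin r → R k e) :=
    { carrier := {c | ∀ a, dot (Φ a) c = 0}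
      zero_mem' := fun a => by simp [dot]
      add_mem' := fun {x y} hx hy a => by rw [dot_add, hx a, hy a, add_zero]
      smul_mem' := fun p x hx a => by rw [dot_smul_R, hx a, mul_zero] }
  obtain ⟨q', u, hu⟩ := Submodule.fg_iff_exists_fin_generating_family.1 (IsNoetherian.noetherian W)
  have huW : ∀ a, u a ∈ W := fun a => hu ▸ Submodule.subset_span ⟨a, rfl⟩
  let D := Finset.univ.sup fun s : Fin q' × Fin r => (u s.1 s.2).totalDegree
  let Jw := j + D
  have hFE : Filt (e := e) (VE y0 yo E) := filt_Vsub y0 yo hE (𝟙 E)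
  choose ξ hξ using fun a => (mem_VE y0 yo).1 (show (∑ l, u a l • v l) ∈ VE y0 yo E Jw from
    Submodule.sum_mem _ fun l _ => hFE.poly_mem
      (Finset.le_sup (f := fun s : Fin q' × Fin r => (u s.1 s.2).totalDegree) (Finset.mem_univ (a, l))) (hvj l))
  have hmk : ∀ a, Killed y0 yo v f Φ (etaL y0 yo E Jw (ξ a)) := fun a => by
    refine ⟨f • u a, ?_, fun b => by rw [dot_smul_R, huW a b, mul_zero]⟩
    rw [hξ, Finset.smul_sum]
    simp [mul_smul]
  let S : (Pn n k).Modules := ⨁ fun _ : Fin q' => Tp n k Jw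
  have hS : Coh.IsCoh S := CohSupport.isCoh_of_iso (biproduct.isoCoproduct _).symm (Devissage.isCoh_sigma _ fun _ => isCoh_Tp Jw)
  let φ : S ⟶ E := biproduct.desc ξ
  let G0 := Abelian.image φ
  have hG0 : Coh.IsCoh G0 := isCoh_image hS hE φ
  let ι0 : G0 ⟶ E := Abelian.image.ι φ
  obtain ⟨J1, hJ1⟩ := exists_lift hS hG0 (Abelian.factorThruImage φ)
  have hk0 : ∀ J, J1 ≤ J → ∀ m ∈ Vsub y0 yo ι0 J, Killed y0 yo v f Φ m := by
    intro J hJ m hm
    obtain ⟨χ, rfl⟩ := (mem_Vsub y0 yo).1 hm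
    obtain ⟨w, rfl⟩ := hJ1 J hJ χ
    have hw : (w ≫ Abelian.factorThruImage φ) ≫ ι0 = ∑ a, (w ≫ biproduct.π _ a) ≫ ξ a := by
      rw [Category.assoc, show Abelian.factorThruImage φ ≫ ι0 = φ from Abelian.image.fac φ]
      simp only [Category.assoc, ← Preadditive.comp_sum]
      refine congrArg (w ≫ ·) (biproduct.hom_ext' _ _ fun a => ?_)
      rw [biproduct.ι_desc, Preadditive.comp_sum, Finset.sum_eq_single a]
      · rw [biproduct.ι_π_self_assoc]
      · intro b _ hb
        rw [biproduct.ι_π_ne_assoc _ (Ne.symm hb), zero_comp]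
      · simp
    rw [hw, map_sum]
    refine Killed.sum y0 yo _ fun a _ => ?_
    obtain ⟨b, hb⟩ := eta_precomp y0 (M := E) (w ≫ biproduct.π _ a)
    show Killed y0 yo v f Φ (toMd y0 yo (eta y0 J ((w ≫ biproduct.π _ a) ≫ ξ a)))
    rw [hb]
    exact (hmk a).mulAny y0 yo hv hvj hspan hf hst hE b ((mem_VE y0 yo).2 ⟨ξ a, rfl⟩)
  obtain ⟨G, jG, ι, hι, hG, hjι, hQ, hαG⟩ := exists_sat hE hA hG0 ι0
  haveI := hι
  obtain ⟨Ja, hgr0⟩ := exists_grow y0 yo hE hA hcov hG0 ι0
  obtain ⟨Jb, hgrG⟩ := exists_grow y0 yo hE hA hcov hG ι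
  have hle0 : ∀ J, Vsub y0 yo ι0 J ≤ Vsub y0 yo ι J := fun J m hm => by
    obtain ⟨χ, rfl⟩ := (mem_Vsub y0 yo).1 hm
    exact (mem_Vsub y0 yo).2 ⟨χ ≫ jG, by rw [Category.assoc, hjι]⟩
  have hleE : ∀ {G' : (Pn n k).Modules} (i : G' ⟶ E) J, Vsub y0 yo i J ≤ VE y0 yo E J := fun i J m hm => by
    obtain ⟨χ, rfl⟩ := (mem_Vsub y0 yo).1 hm
    exact (mem_VE y0 yo).2 ⟨χ ≫ i, rfl⟩
  obtain ⟨r0, j0, v0, f0, hr0, -, hv0, hv0j, -⟩ := exists_frame hgr0 fun g J m hm hg h =>
    torsion_free y0 yo hE hA hcov g J m (hleE _ J hm) hg h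
  refine ⟨G, ι, hι, hG, hQ, fun J m hm => ?_, fun c hc H g hg => ?_⟩
  · let J' := max J (max j0 J1)
    have hk : ∀ s, Killed y0 yo v f Φ (v0 s) := fun s =>
      hk0 J' ((le_max_right _ _).trans (le_max_right _ _))
        _ (hgr0.mono ((le_max_left _ _).trans (le_max_right _ _)) (hv0j s))
    have hnot : ¬ LinearIndependent (R k e) (Fin.cons m v0 : Fin (r0 + 1) → Md y0 yo E) := fun hli => by
      have := indep_le hgrG hli (j := J') (Fin.cases (by simpa using hgrG.mono (le_max_left _ _) hm) fun s => by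
        simpa using hle0 J' (hgr0.mono ((le_max_left _ _).trans (le_max_right _ _)) (hv0j s)))
      omega
    obtain ⟨g, hg, s, hs⟩ := Fintype.not_linearIndependent_iff.1 hnot
    rw [Fin.sum_univ_succ] at hg
    simp only [Fin.cons_zero, Fin.cons_succ] at hg
    have hg0 : g 0 ≠ 0 := fun h0 => hs (by
      rw [h0, zero_smul, zero_add] at hg
      exact Fin.cases h0 (fun s => (Fintype.linearIndependent_iff.1 hv0) (fun s => g s.succ) hg s) s)
    refine Killed.of_smul y0 yo hv hspan (hleE _ J hm) hg0 ?_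
    rw [eq_neg_of_add_eq_zero_left hg, ← neg_one_smul (R k e)]
    exact (Killed.sum y0 yo _ fun s _ => (hk s).smul y0 yo _).smul y0 yo _
  · have hφ : φ ≫ g = 0 := by
      rw [← Abelian.image.fac φ, Category.assoc, show Abelian.image.ι φ = jG ≫ ι from hjι.symm, Category.assoc, hg,
        comp_zero, comp_zero]
    have hξg : ∀ a, ξ a ≫ g = 0 := fun a => by
      rw [← biproduct.ι_desc ξ a, Category.assoc, show biproduct.desc ξ ≫ g = 0 from hφ, comp_zero]
    rw [← app_lincomb]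
    have hc' : c ∈ Submodule.span (R k e) (Set.range u) := hu.symm ▸ (show c ∈ W from hc)
    obtain ⟨b, rfl⟩ := (Submodule.mem_span_range_iff_exists_fun _).1 hc'
    have hsum : (∑ l, (∑ a, b a • u a) l • v l) = ∑ a, b a • etaL y0 yo E Jw (ξ a) := by
      simp only [hξ, Finset.sum_apply, Pi.smul_apply, smul_eq_mul, Finset.sum_smul, Finset.smul_sum, mul_smul]
      exact Finset.sum_comm
    rw [hsum, app_lincomb]
    refine Finset.sum_eq_zero fun a _ => ?_
    show rho y0 yo (b a) • g.app (Dy y0) (eta y0 Jw (ξ a)) = 0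
    rw [← eta_comp, hξg, map_zero, smul_zero]

end Groth.L11.GM
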