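import Groth.Agent.L11.GM.Gap
import Groth.Agent.L11.GM.Sat
import Groth.Agent.L11.Lemma179.Bridge
import Mathlib.Analysis.Polynomial.Basic

/-!
# Sections of subsheaves of semistable sheaves are bounded by the Hilbert polynomial
-/

set_option autoImplicit false
set_option linter.style.haveILetI false
set_option linter.unusedSectionVars false
set_option backward.isDefEq.respectTransparency false
set_option backward.isDefEq.respectTransparency.types false

universe u

open CategoryTheory CategoryTheory.Limits AlgebraicGeometry TopologicalSpace Opposite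

noncomputable section

namespace Groth.L11.GM

open Groth.L22.Reg Groth.L11.Lemma179
open Groth.L00.Tensor (tensorRightF tensorIso)
open Groth.L16
open Groth.L16.CohLinear (hmap hmap_comp overLin)
open Groth.L21.RR (e0 e0_hmap oneSec exists_hom_of_hh0)
open Groth.L18.GenLoc (secOf homOfSection_secOf)
open Groth.L11.Slope (D1)

variable {k : Type u} [Field k] {n : ℕ}

theorem epi_of_hh0 {A B : (Pn n k).Modules} (u : A ⟶ B) (hgg : Curv2.IsGloballyGenerated B)
    (hs : Function.Surjective (hmap u 0)) : Epi u := by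
  obtain ⟨ι, q, hq⟩ := hgg
  have hl : ∀ i : ι, ∃ l : Coh.structureModule (Pn n k) ⟶ A,
      l ≫ u = Sigma.ι (fun _ : ι => Coh.structureModule (Pn n k)) i ≫ q := by
    intro i
    obtain ⟨z, hz⟩ := hs ((e0 B).symm (secOf (L := B)
      (Sigma.ι (fun _ : ι => Coh.structureModule (Pn n k)) i ≫ q)))
    obtain ⟨l, hl⟩ := exists_hom_of_hh0 z
    refine ⟨l, (homOfSection_secOf _).symm.trans ((congrArg (Groth.L16.homOfSection B) ?_).trans
      (homOfSection_secOf _))⟩
    show u.app ⊤ (l.app ⊤ (oneSec _)) = _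
    rw [hl, ← e0_hmap, hz, AddEquiv.apply_symm_apply]
  choose l hl using hl
  let lift : (freeM (Pn n k) ι) ⟶ A := Sigma.desc l
  have he : lift ≫ u = q := Sigma.hom_ext _ _ fun i =>
    ((reassoc_of% (Sigma.ι_desc l i : Sigma.ι (fun _ : ι => Coh.structureModule (Pn n k)) i ≫
      Sigma.desc l = l i)) u).trans (hl i)
  haveI : Epi (lift ≫ u) := by rw [he]; exact hq
  exact epi_of_epi lift u

/-- A globally generated module is a quotient of the free module on `h⁰` generators. -/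
theorem exists_epi_card {G : (Pn n k).Modules} (hG : Coh.IsCoh G) (hgg : Curv2.IsGloballyGenerated G) {b : ℕ}
    (hb : Module.finrank k (Coh.HH (Pn n k) G 0) ≤ b) : ∃ p : FM n k b ⟶ G, Epi p := by
  haveI := isProper_over_proj (k := k) (n := n)
  haveI : Module.Finite k (Coh.HH (Pn n k) G 0) := Groth.L16.ProperFinite.finite_HH k hG 0
  let v := Module.finBasis k (Coh.HH (Pn n k) G 0)
  let s : Fin b → Coh.HH (Pn n k) G 0 := fun j =>
    if h : j.1 < Module.finrank k (Coh.HH (Pn n k) G 0) then v ⟨j.1, h⟩ else 0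
  choose φ hφ using fun j => exists_hom_of_hh0 (s j)
  let p : (∐ fun _ : Fin b => Coh.structureModule (Pn n k)) ⟶ G := Sigma.desc φ
  refine ⟨p, epi_of_hh0 p hgg ?_⟩
  suffices hr : LinearMap.range (overLin k (hmap p 0)) = ⊤ from fun y => LinearMap.range_eq_top.1 hr y
  rw [eq_top_iff, ← v.span_eq, Submodule.span_le]
  rintro _ ⟨j, rfl⟩
  refine ⟨hmap (Sigma.ι (fun _ : Fin b => Coh.structureModule (Pn n k)) ⟨j.1, lt_of_lt_of_le j.2 hb⟩) 0
    ((e0 _).symm (oneSec _)), ?_⟩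
  refine (e0 G).injective ?_
  show e0 G (hmap p 0 (hmap _ 0 _)) = e0 G (v j)
  rw [← hmap_comp, Sigma.ι_desc, e0_hmap, AddEquiv.apply_symm_apply, hφ,
    show s ⟨j.1, lt_of_lt_of_le j.2 hb⟩ = v j by simp [s]]

/-- A submodule with the same sections of a regular twist has the same Euler characteristics. -/
theorem chiP_eq_of_h0t_eq {F G : (Pn n k).Modules} (hF : Coh.IsCoh F) (hG : Coh.IsCoh G) (j : F ⟶ G) [Mono j]
    {m N : ℤ} (hR : Regular G m) (hN : m ≤ N) (h : h0t F N = h0t G N) (t : ℤ) : chiP F t = chiP G t := by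
  haveI := isProper_over_proj (k := k) (n := n)
  let u : tw' F N ⟶ tw' G N := (tensorRightF (O' n k N)).map j
  haveI : Mono u := (shortExact_tw (S := ShortComplex.mk j (cokernel.π j) (cokernel.condition j))
    { exact := ShortComplex.exact_cokernel j } N).mono_f
  haveI : Module.Finite k (Coh.HH (Pn n k) (tw' F N) 0) := Groth.L16.ProperFinite.finite_HH k (isCoh_tw hF N) 0
  haveI : Module.Finite k (Coh.HH (Pn n k) (tw' G N) 0) := Groth.L16.ProperFinite.finite_HH k (isCoh_tw hG N) 0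
  have hinj : Function.Injective (overLin k (hmap u 0)) := Groth.L21.RR.injective_hmap_zero u
  have hsurj := (LinearMap.injective_iff_surjective_of_finrank_eq_finrank (by rw [← h0t_eq, ← h0t_eq]; exact h)).1 hinj
  haveI : Epi u := epi_of_hh0 u (hR.isGloballyGenerated hG hN) hsurj
  haveI : IsIso u := isIso_of_mono_of_epi u
  have h1 := chiP_iso (asIso u) (t - N)
  rwa [chiP_tw, chiP_tw, add_sub_cancel] at h1

theorem poly_sign (D : Polynomial ℚ) : ∃ T : ℕ, D = 0 ∨ (∀ t : ℤ, (T : ℤ) ≤ t → D.eval (t : ℚ) < 0) ∨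
    (∀ t : ℤ, (T : ℤ) ≤ t → 0 < D.eval (t : ℚ)) := by
  by_cases h0 : D = 0
  · exact ⟨0, Or.inl h0⟩
  have key : ∀ {P : ℚ → Prop}, (∀ᶠ x in Filter.atTop, P x) → ∃ T : ℕ, ∀ t : ℤ, (T : ℤ) ≤ t → P (t : ℚ) := by
    intro P hP
    obtain ⟨a, ha⟩ := Filter.eventually_atTop.1 hP
    exact ⟨⌈a⌉₊, fun t ht => ha _ ((Nat.le_ceil a).trans (by exact_mod_cast ht))⟩
  rcases le_or_gt D.degree 0 with hd | hd
  · have hD := Polynomial.eq_C_of_degree_le_zero hd
    rcases lt_trichotomy (D.coeff 0) 0 with h | h | h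
    · exact ⟨0, Or.inr (Or.inl fun t _ => by rw [hD, Polynomial.eval_C]; exact h)⟩
    · exact absurd (hD.trans (by rw [h, map_zero])) h0
    · exact ⟨0, Or.inr (Or.inr fun t _ => by rw [hD, Polynomial.eval_C]; exact h)⟩
  · rcases le_total 0 D.leadingCoeff with h | h
    · obtain ⟨T, hT⟩ := key ((D.tendsto_atTop_of_leadingCoeff_nonneg hd h).eventually_gt_atTop 0)
      exact ⟨T, Or.inr (Or.inr hT)⟩
    · obtain ⟨T, hT⟩ := key ((D.tendsto_atBot_of_leadingCoeff_nonpos hd h).eventually_lt_atBot 0)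
      exact ⟨T, Or.inr (Or.inl hT)⟩

/-- The difference of the section bound with a saving and a multiple of `P`. -/
def gapFn (e K : ℕ) (r c α : ℤ) (P : ℤ → ℤ) : ℤ → ℤ := fun t =>
  r * (α - 1) * binom (e + 1) ((e : ℤ) + c) t + (r * binom (e + 1) ((e : ℤ) + c - K) t + -α * P t)

theorem exists_gap_neg (e K : ℕ) (r c β α : ℤ) (P : ℤ → ℤ) (hlin : ∀ t, D1^[e] P t = β + t * r)
    (hK : α * (r * c - β) + 1 ≤ r * K) : ∃ T : ℕ, ∀ t : ℤ, (T : ℤ) ≤ t → gapFn e K r c α P t ≤ -1 := by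
  obtain ⟨T', hT'⟩ := eventually_neg e (gapFn e K r c α P) ((K : ℤ) + |c|) fun t ht => by
    have hc := neg_abs_le c
    unfold gapFn
    rw [D1_iter_add, D1_iter_add, D1_iter_const_mul, D1_iter_const_mul, D1_iter_const_mul, hlin,
      show e + 1 = 1 + e by omega, D1_binom e 1 _ t (by omega), D1_binom e 1 _ t (by omega)]
    simp only [binom, Nat.choose_one_right]
    rw [Int.toNat_of_nonneg (by omega), Int.toNat_of_nonneg (by omega)]
    nlinarith
  exact ⟨T'.toNat, fun t ht => hT' t (by omega)⟩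

variable [CharZero k]

/-- Sections of a module whose average slope is far below the bound. -/
theorem sections_gap {E : (Pn n k).Modules} (hE : Coh.IsCoh E) {e : ℕ} (hA : AssDim E (e + 1)) {b c : ℤ} {K : ℕ}
    (hpos : 1 ≤ D1^[e + 1] (chiP E) 0) (hc : b + D1^[e + 1] (chiP E) 0 - 1 ≤ c)
    (hb : ∀ (G : (Pn n k).Modules) (ι : G ⟶ E), Mono ι → Coh.IsCoh G → ¬ IsZero G →
      D1^[e] (chiP G) 0 ≤ b * D1^[e + 1] (chiP G) 0)
    (hK : D1^[e] (chiP E) 0 ≤ (c - K) * D1^[e + 1] (chiP E) 0) (t : ℤ) :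
    (h0t E t : ℤ) + saving e K (t + c) ≤ secBound (D1^[e + 1] (chiP E) 0) e (t + c) := by
  haveI : Infinite k := Infinite.of_injective (fun n : ℕ => (n : k)) Nat.cast_injective
  obtain ⟨T, h1, h2⟩ := exists_chain_shift hE hA b c hc hb
  have hchi : chiP (tw' E (-c)) = fun s => chiP E (-c + s) := funext fun s => chiP_tw E (-c) s
  have hl := chiP_diff_lin hE (dim_le_of_assDim hE hA) (-c)
  have hlin2 : D1^[e + 1] (chiP (tw' E (-c))) 0 = D1^[e + 1] (chiP E) 0 := by
    rw [hchi, D1_iter_shift, add_zero, hl.2]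
  have h := gap_of_chain (K := K) e _ T h1 (isCoh_tw hE _) (assDim_tw hA _) h2 (by rw [hlin2]; exact hpos) (by
    rw [hlin2, hchi, D1_iter_shift, add_zero, hl.1]
    linarith) (t + c)
  obtain ⟨i⟩ := nonempty_tw_tw E (show -c + (t + c) = t by ring)
  rw [hlin2] at h
  rwa [h0t_eq, finrank_HH_iso i 0, ← h0t_eq] at h

/-- The Le Potier–Simpson inequality in dimension `e + 1`. -/
theorem exists_lps (n e : ℕ) (P : ℤ → ℤ) : ∃ N₀ : ℕ, ∀ (k : Type u) [Field k] [CharZero k]
    (E : (Pn n k).Modules), Coh.IsCoh E → AssDim E (e + 1) → chiP E = P →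
    (∀ (G : (Pn n k).Modules) (ι : G ⟶ E), Mono ι → Coh.IsCoh G → ¬ IsZero G →
      ∃ T : ℤ, ∀ t, T ≤ t → D1^[e + 1] P 0 * chiP G t ≤ D1^[e + 1] (chiP G) 0 * P t) →
    ∀ (F : (Pn n k).Modules) (ι : F ⟶ E), Mono ι → Coh.IsCoh F → ¬ IsZero F → ∀ N : ℕ, N₀ ≤ N →
      D1^[e + 1] P 0 * (h0t F (N : ℤ) : ℤ) ≤ D1^[e + 1] (chiP F) 0 * P N ∧
      (D1^[e + 1] P 0 * (h0t F (N : ℤ) : ℤ) = D1^[e + 1] (chiP F) 0 * P N →
        ∀ t, D1^[e + 1] P 0 * chiP F t = D1^[e + 1] (chiP F) 0 * P t) := by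
  classical
  set r := D1^[e + 1] P 0 with hr
  set β := D1^[e] P 0 with hβ
  by_cases hP : (∃ Pp : Polynomial ℚ, ∀ t : ℤ, (P t : ℚ) = Pp.eval (t : ℚ)) ∧
      (∀ t, D1^[e] P t = β + t * r) ∧ 1 ≤ r
  swap
  · refine ⟨0, fun k _ _ E hE hA hchi _ F ι hι hF hF0 _ _ => absurd ?_ hP⟩
    haveI := hι
    have hd := dim_le_of_assDim hE hA
    obtain ⟨Q, -, hQ⟩ := exists_chiP_poly hE hd
    refine ⟨⟨Q, by rw [← hchi]; exact hQ⟩, fun t => ?_, ?_⟩
    · rw [hβ, hr, ← hchi]; exact (chiP_diff_lin hE hd t).1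
    · rw [hr, ← hchi]
      exact one_le_chiP_diff hE hA fun hz => hF0 (IsZero.of_mono ι hz)
  obtain ⟨⟨Pp, hPp⟩, hlin, hr1⟩ := hP
  let b : ℤ := |β|
  let c : ℤ := b + r - 1
  let K : ℕ := |r * c - β|.toNat + 1
  have hKeq : (K : ℤ) = |r * c - β| + 1 := by
    show ((|r * c - β|.toNat + 1 : ℕ) : ℤ) = _
    push_cast [Int.toNat_of_nonneg (abs_nonneg (r * c - β))]
    rfl
  have hgap : ∀ a : ℕ, ∃ T : ℕ, 1 ≤ a → (a : ℤ) ≤ r → ∀ t : ℤ, (T : ℤ) ≤ t → gapFn e K r c a P t ≤ -1 := fun a => by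
    by_cases ha : 1 ≤ a ∧ (a : ℤ) ≤ r
    · obtain ⟨T, hT⟩ := exists_gap_neg e K r c β a P hlin (by
        have h1 : (a : ℤ) * (r * c - β) ≤ a * |r * c - β| := mul_le_mul_of_nonneg_left (le_abs_self _) (Nat.cast_nonneg a)
        have h2 : (a : ℤ) * |r * c - β| ≤ r * |r * c - β| := mul_le_mul_of_nonneg_right ha.2 (abs_nonneg _)
        rw [hKeq]
        linarith)
      exact ⟨T, fun _ _ => hT⟩
    · exact ⟨0, fun h1 h2 => absurd ⟨h1, h2⟩ ha⟩
  choose Tg hTg using hgap
  obtain ⟨M, hM⟩ := exists_regular_of_slopes.{u} e P b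
  let M₁ : ℕ := M.toNat
  let b₀ : ℕ := (P (M₁ : ℤ)).toNat
  let C : ℤ := |β| + r * |c - K| + M₁ * r
  obtain ⟨S, hS⟩ := exists_finite_polys.{u} n b₀ (e + 1) r C
  choose Ms hMs using fun Q : Polynomial ℚ => exists_kernel_bound.{u} n b₀ Q
  let L : ℕ := S.sup Ms
  let D : Polynomial ℚ × ℕ → Polynomial ℚ := fun x =>
    Polynomial.C (r : ℚ) * (Pp - x.1.comp (Polynomial.X - Polynomial.C ((M₁ : ℤ) : ℚ))) - Polynomial.C ((x.2 : ℤ) : ℚ) * Pp
  choose Ts hTs using fun x => poly_sign (D x)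
  let R : Finset ℕ := Finset.range (r.toNat + 1)
  refine ⟨max (max (M₁ + L) (R.sup Tg)) ((S ×ˢ R).sup Ts), fun k _ _ E hE hA hchi hss F ι hι hF hF0 N hN => ?_⟩
  haveI := hι
  haveI : Infinite k := Infinite.of_injective (fun n : ℕ => (n : k)) Nat.cast_injective
  haveI := isProper_over_proj (k := k) (n := n)
  haveI := Groth.L11.Slope.noetherian_proj (k := k) (n := n)
  simp only [max_le_iff] at hN
  obtain ⟨⟨hNL, hNg⟩, hNs⟩ := hN
  have hEr : D1^[e + 1] (chiP E) 0 = r := by rw [hchi]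
  have hEβ : D1^[e] (chiP E) 0 = β := by rw [hchi]
  have hb : ∀ (G : (Pn n k).Modules) (ι : G ⟶ E), Mono ι → Coh.IsCoh G → ¬ IsZero G →
      D1^[e] (chiP G) 0 ≤ b * D1^[e + 1] (chiP G) 0 := by
    intro G g hg hG hG0
    haveI := hg
    obtain ⟨T, hT⟩ := hss G g hg hG hG0
    have hGd := dim_le_of_assDim hG (assDim_of_mono g hA)
    have h1 : r * D1^[e] (chiP G) 0 - D1^[e + 1] (chiP G) 0 * β ≤ 0 :=
      top_le_of_eventually (d := e) (f := fun t => r * chiP G t + -D1^[e + 1] (chiP G) 0 * P t)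
        (g := fun t => 0 * P t) (T := T) (fun t ht => by have := hT t ht; linarith)
        (fun t _ => by
          rw [D1_iter_add, D1_iter_const_mul, D1_iter_const_mul, (chiP_diff_lin hG hGd t).1, hlin]
          ring)
        (fun t _ => by rw [D1_iter_const_mul, zero_mul])
    have h2 : D1^[e + 1] (chiP G) 0 * β ≤ D1^[e + 1] (chiP G) 0 * |β| :=
      mul_le_mul_of_nonneg_left (le_abs_self β) (chiP_diff_top hG hGd).1
    have h3 : 0 ≤ (r - 1) * (D1^[e + 1] (chiP G) 0 * |β|) :=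
      mul_nonneg (by omega) (mul_nonneg (chiP_diff_top hG hGd).1 (abs_nonneg β))
    exact le_of_mul_le_mul_left (show r * D1^[e] (chiP G) 0 ≤ r * (|β| * D1^[e + 1] (chiP G) 0) by nlinarith) (by omega)
  have hRE : Regular E (M₁ : ℤ) := (hM k n E hE hA hchi hb).of_le (Int.self_le_toNat M)
  obtain ⟨F', j, ι', hι', hF', hj, hQA, hα⟩ := exists_sat hE hA hF ι
  haveI := hι'
  haveI : Mono j := by rw [← hj] at hι; exact mono_of_mono j ι'
  have hA' : AssDim F' (e + 1) := assDim_of_mono ι' hA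
  have hF'0 : ¬ IsZero F' := fun hz => hF0 (IsZero.of_mono j hz)
  let Q := cokernel ι'
  have hQ : Coh.IsCoh Q := (CohKernel.isCoh_kernel_cokernel hF' hE ι').2
  let α := D1^[e + 1] (chiP F') 0
  have hα1 : 1 ≤ α := one_le_chiP_diff hF' hA' hF'0
  have hQd := dim_le_of_assDim hQ hQA
  have hQα : D1^[e + 1] (chiP Q) 0 = r - α := by
    show D1^[e + 1] (chiP (cokernel ι')) 0 = r - α
    have := chiP_kernel_part (e := e + 1) hE hF' ι' 0
    rw [hEr] at this
    omega
  have hQβ : D1^[e] (chiP Q) 0 = β - D1^[e] (chiP F') 0 := by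
    show D1^[e] (chiP (cokernel ι')) 0 = β - D1^[e] (chiP F') 0
    have := chiP_kernel_part (e := e) hE hF' ι' 0
    rw [hEβ] at this
    omega
  have hαr : α ≤ r := by
    have := (chiP_diff_top hQ hQd).1
    omega
  have hh : (h0t F (N : ℤ) : ℤ) ≤ h0t F' (N : ℤ) := by exact_mod_cast h0t_le_of_mono hF' j (N : ℤ)
  have hαmem : α.toNat ∈ R := Finset.mem_range.2 (by omega)
  rw [← hα]
  change r * (h0t F (N : ℤ) : ℤ) ≤ α * P N ∧ _
  by_cases hlow : D1^[e] (chiP F') 0 ≤ (c - K) * α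
  · have hg := sections_gap hF' hA' (b := b) (c := c) hα1 (by omega) (fun G g hg hG hG0 => by
      haveI := hg
      exact hb G (g ≫ ι') (mono_comp g ι') hG hG0) hlow (N : ℤ)
    have hn := hTg α.toNat (by omega) (by omega) (N : ℤ)
      (by exact_mod_cast (Finset.le_sup (f := Tg) hαmem).trans hNg)
    rw [Int.toNat_of_nonneg (show 0 ≤ α by omega)] at hn
    simp only [gapFn, binom] at hn
    simp only [saving, secBound, Int.toNat_one, one_mul, Nat.cast_mul] at hg
    rw [Int.toNat_of_nonneg (show 0 ≤ α by omega), show (N : ℤ) + c + (e : ℤ) = (N : ℤ) + ((e : ℤ) + c) by ring,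
      show (N : ℤ) + c - (K : ℤ) + (e : ℤ) = (N : ℤ) + ((e : ℤ) + c - K) by ring] at hg
    have hmul := mul_le_mul_of_nonneg_left hg (show 0 ≤ r by omega)
    have hmul2 := mul_le_mul_of_nonneg_left hh (show 0 ≤ r by omega)
    have hlt : r * (h0t F (N : ℤ) : ℤ) < α * P N := by linarith
    exact ⟨hlt.le, fun h => absurd h hlt.ne⟩
  · have hgg := hRE.isGloballyGenerated hE le_rfl
    have hh0 : (h0t E (M₁ : ℤ) : ℤ) = P M₁ := by
      rw [← hchi, ← chiP_eq_h0t fun q hq => hRE.subsingleton hq (by omega)]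
    obtain ⟨η, hη⟩ := exists_epi_card (isCoh_tw hE (M₁ : ℤ)) hgg (b := b₀) (by
      rw [← h0t_eq]; show h0t E (M₁ : ℤ) ≤ (P (M₁ : ℤ)).toNat; omega)
    haveI := hη
    have hsq := shortExact_tw (S := ShortComplex.mk ι' (cokernel.π ι') (cokernel.condition ι'))
      { exact := ShortComplex.exact_cokernel ι' } (M₁ : ℤ)
    let g : tw' E (M₁ : ℤ) ⟶ tw' Q (M₁ : ℤ) := (tensorRightF (O' n k (M₁ : ℤ))).map (cokernel.π ι')
    haveI : Epi g := hsq.epi_g
    have hshift : ∀ {A : (Pn n k).Modules}, Coh.IsCoh A → AssDim A (e + 1) →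
        D1^[e + 1] (chiP (tw' A (M₁ : ℤ))) 0 = D1^[e + 1] (chiP A) 0 ∧
        D1^[e] (chiP (tw' A (M₁ : ℤ))) 0 = D1^[e] (chiP A) 0 + (M₁ : ℤ) * D1^[e + 1] (chiP A) 0 := by
      intro A hc hd
      have hl := chiP_diff_lin hc (dim_le_of_assDim hc hd) (M₁ : ℤ)
      rw [show chiP (tw' A (M₁ : ℤ)) = fun t => chiP A ((M₁ : ℤ) + t) from funext fun t => chiP_tw A _ t,
        D1_iter_shift, D1_iter_shift, add_zero]
      exact ⟨hl.2, hl.1⟩
    have habs := mul_nonneg (show 0 ≤ r by omega) (abs_nonneg (c - K))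
    have hMr := mul_nonneg (Nat.cast_nonneg M₁ : (0 : ℤ) ≤ M₁) (show 0 ≤ r by omega)
    have hle1 := le_abs_self β
    obtain ⟨PE, hPE, hEv⟩ := hS k (tw' E (M₁ : ℤ)) η (isCoh_tw hE _) (assDim_tw hA _)
      (by rw [(hshift hE hA).1, hEr]) (fun e' he' => by
        obtain rfl : e = e' := by omega
        rw [(hshift hE hA).2, hEr, hEβ]
        show _ ≤ |β| + r * |c - K| + M₁ * r
        linarith)
    haveI : Epi (η ≫ g) := epi_comp _ _
    obtain ⟨PQ, hPQ, hQv⟩ := hS k (tw' Q (M₁ : ℤ)) (η ≫ g) (isCoh_tw hQ _) (assDim_tw hQA _)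
      (by rw [(hshift hQ hQA).1, hQα]; omega) (fun e' he' => by
        obtain rfl : e = e' := by omega
        rw [(hshift hQ hQA).2, hQα, hQβ]
        show _ ≤ |β| + r * |c - K| + M₁ * r
        have h1 : -(r * |c - K|) ≤ (c - K) * α := by
          have h1 := neg_abs_le (c - (K : ℤ))
          have h2 := mul_le_mul_of_nonneg_right h1 (show 0 ≤ α by omega)
          have h3 := mul_le_mul_of_nonneg_right hαr (abs_nonneg (c - (K : ℤ)))
          linarith
        have h4 := mul_nonneg (Nat.cast_nonneg M₁ : (0 : ℤ) ≤ M₁) (show 0 ≤ α by omega)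
        linarith [not_le.1 hlow])
    have hkη : Regular (kernel η) ((L : ℤ) + 1) :=
      (hMs PE k _ η (isCoh_tw hE _) hη fun i => by rw [hEv (i : ℤ)]; norm_cast).of_le (by
        have : Ms PE ≤ L := Finset.le_sup (f := Ms) hPE
        omega)
    have hkc : Regular (kernel (η ≫ g)) (L : ℤ) :=
      (hMs PQ k _ (η ≫ g) (isCoh_tw hQ _) inferInstance fun i => by rw [hQv (i : ℤ)]; norm_cast).of_le (by
        have : Ms PQ ≤ L := Finset.le_sup (f := Ms) hPQ
        omega)
    have hR' : Regular F' ((M₁ : ℤ) + L) := regular_tw.1 (regular_iso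
      (IsLimit.conePointUniqueUpToIso (kernelIsKernel g) hsq.fIsKernel)
      (regular_comp η g (regular_FM b₀ (Int.natCast_nonneg L)) hkc hkη).2)
    have hNR : (M₁ : ℤ) + L ≤ N := by exact_mod_cast hNL
    have heq : (h0t F' (N : ℤ) : ℤ) = chiP F' N := by
      rw [chiP_eq_h0t fun q hq => hR'.subsingleton hq (by omega)]
    have hev : ∀ t : ℤ, ((r * chiP F' t - α * P t : ℤ) : ℚ) = (D (PQ, α.toNat)).eval (t : ℚ) := by
      intro t
      have hs : chiP E t = chiP F' t + chiP Q t := chiP_add (S := ShortComplex.mk ι' (cokernel.π ι') (cokernel.condition ι'))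
        { exact := ShortComplex.exact_cokernel ι' } hF' hE hQ t
      have hq := hQv (t - (M₁ : ℤ))
      rw [chiP_tw, add_sub_cancel] at hq
      rw [hchi] at hs
      simp only [D, Polynomial.eval_sub, Polynomial.eval_mul, Polynomial.eval_C, Polynomial.eval_comp, Polynomial.eval_X]
      rw [← hPp t, Int.toNat_of_nonneg (show 0 ≤ α by omega), ← Int.cast_sub, ← hq, hs]
      push_cast
      ring
    have hTsN : ((Ts (PQ, α.toNat) : ℕ) : ℤ) ≤ N := by
      exact_mod_cast (Finset.le_sup (f := Ts) (Finset.mem_product.2 ⟨hPQ, hαmem⟩)).trans hNs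
    have hmul2 := mul_le_mul_of_nonneg_left hh (show 0 ≤ r by omega)
    rcases hTs (PQ, α.toNat) with hz | hneg | hposD
    · have hall : ∀ t, r * chiP F' t = α * P t := fun t => by
        have h := hev t
        rw [hz, Polynomial.eval_zero, Int.cast_eq_zero] at h
        omega
      have hN' := hall N
      rw [← heq] at hN'
      refine ⟨by linarith, fun h t => ?_⟩
      have h2 : h0t F (N : ℤ) = h0t F' (N : ℤ) := by
        have := mul_left_cancel₀ (show r ≠ 0 by omega) (h.trans hN'.symm)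
        exact_mod_cast this
      rw [chiP_eq_of_h0t_eq hF hF' j hR' hNR h2 t]
      exact hall t
    · have h1 := hneg N hTsN
      rw [← hev, Int.cast_lt_zero] at h1
      rw [← heq] at h1
      have hlt : r * (h0t F (N : ℤ) : ℤ) < α * P N := by linarith
      exact ⟨hlt.le, fun h => absurd h hlt.ne⟩
    · exfalso
      obtain ⟨T, hT⟩ := hss F' ι' hι' hF' hF'0
      let t := max T (Ts (PQ, α.toNat) : ℤ)
      have h1 := hposD t (le_max_right _ _)
      rw [← hev, Int.cast_pos] at h1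
      have h2 := hT t (le_max_left _ _)
      linarith

/-- The inequality for modules of dimension zero. -/
theorem lps_zero {E F : (Pn n k).Modules} (hA : AssDim E 0) (ι : F ⟶ E) [Mono ι]
    (hF : Coh.IsCoh F) (t : ℤ) : (h0t F t : ℤ) = chiP F t := by
  haveI := Groth.L11.Slope.noetherian_proj (k := k) (n := n)
  exact (chiP_eq_h0t fun q hq => Groth.L11.Slope.subsingleton_above_dim hF
    (dim_le_of_assDim hF (assDim_of_mono ι hA)) (by omega) t).symm

end Groth.L11.GM
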