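import Groth.Agent.L11.GM.Family
import Groth.Agent.L03.ShStab.Schur
import Mathlib.Analysis.Complex.Polynomial.Basic

/-!
# Boundedness of semistable sheaves and bounds on their sections
-/

set_option autoImplicit false
set_option linter.style.haveILetI false
set_option linter.unusedSectionVars false
set_option backward.isDefEq.respectTransparency false
set_option backward.isDefEq.respectTransparency.types false

universe u

open CategoryTheory CategoryTheory.Limits AlgebraicGeometry TopologicalSpace Opposite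

noncomputable section

namespace Groth.L11.GM

open Groth.L22.Reg Groth.L11.Lemma179
open Groth.L16
open Groth.L11.Slope (D1)

variable {k : Type u} [Field k] [CharZero k] [IsAlgClosed k] {X : Scheme.{u}} [X.Over (Spec (CommRingCat.of k))]
  [IsProper (X ↘ Spec (CommRingCat.of k))]

/-- Semistable modules with a fixed polynomial form a bounded family. -/
theorem isBounded_semistable {L : X.Modules} (hL : CohB1.IsAmple L)
    (hva : RelAmple.IsRelVeryAmplePn (X ↘ Spec (CommRingCat.of k)) L) (P : Polynomial ℚ) (d : ℕ) :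
    Pic13.IsBounded k X (fun E => ShStab.IsSemistable k X L E d ∧ ShStab.IsHilbPoly k X L E P) := by
  haveI := Groth.L21.RR.isNoetherian_of_proper (X := X) k
  obtain ⟨n, i, hi', hi, hLi⟩ := Groth.L12.GenusZero.exists_closedImmersion_projSpace hva
  haveI := hi'
  rcases d with _ | e
  · refine ((Groth.L11.Bdd.Bd.of_isBounded (isBounded_dim_zero i hi hL hLi P)).mono ?_).isBounded
    rintro E ⟨⟨hE, -, hp, -⟩, hP⟩
    exact ⟨E, ⟨hE, hp, hP⟩, ⟨Iso.refl E⟩⟩
  refine ((Groth.L11.Bdd.Bd.of_isBounded (isBounded_of_slopes i hi hL hLi e P (StabCat.hatSlope (e + 1) P))).mono ?_).isBounded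
  rintro E ⟨hs, hP⟩
  obtain ⟨hE, h0, hp, hss⟩ := hs
  refine ⟨E, ⟨hE, hp, hP, fun G ι hι hG hG0 pG hpG => ?_⟩, ⟨Iso.refl E⟩⟩
  haveI := hι
  by_cases hiso : IsIso ι
  · rw [Groth.L03.Euler.isHilbPoly_unique hpG (Groth.L03.Euler.isHilbPoly_iso (asIso ι).symm hP)]
  have hd := Groth.L03.ShStab.Basic.dim_le_of_isPure hE hp
  exact Groth.L03.ShStab.Trunc.hatSlope_le_of_redLE
    (Groth.L03.ShStab.Basic.natDegree_le hL.1 hG (Groth.L03.ShStab.Basic.dim_sub_le ι hd) hpG)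
    (Groth.L03.ShStab.Basic.natDegree_le hL.1 hE hd hP) (by omega)
    (Groth.L03.ShStab.Basic.alpha_pos_sub hL hp ι hG hG0 hpG)
    (Groth.L03.ShStab.Basic.alpha_pos_sub hL hp (𝟙 E) hE h0 hP) (hss G ι hι hG hG0 hiso pG P hpG hP)

/-- Pure modules with bounded slopes on a scheme with a very ample module form a bounded family. -/
theorem isBounded_slope_le {L : X.Modules} (hL : CohB1.IsAmple L)
    (hva : RelAmple.IsRelVeryAmplePn (X ↘ Spec (CommRingCat.of k)) L) (P : Polynomial ℚ) (d : ℕ) (hd : 1 ≤ d) (b : ℚ) :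
    Pic13.IsBounded k X (fun E => Coh.IsCoh E ∧ ¬ IsZero E ∧ ShStab.IsPure X E d ∧ ShStab.IsHilbPoly k X L E P ∧
      ∀ (G : X.Modules) (ι : G ⟶ E), Mono ι → Coh.IsCoh G → ¬ IsZero G →
        ∀ pG : Polynomial ℚ, ShStab.IsHilbPoly k X L G pG → StabCat.hatSlope d pG ≤ b) := by
  haveI := Groth.L21.RR.isNoetherian_of_proper (X := X) k
  obtain ⟨n, i, hi', hi, hLi⟩ := Groth.L12.GenusZero.exists_closedImmersion_projSpace hva
  haveI := hi'
  obtain ⟨e, rfl⟩ : ∃ e, d = e + 1 := ⟨d - 1, by omega⟩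
  refine ((Groth.L11.Bdd.Bd.of_isBounded (isBounded_of_slopes i hi hL hLi e P b)).mono ?_).isBounded
  rintro E ⟨hE, -, hp, hP, hb⟩
  exact ⟨E, ⟨hE, hp, hP, hb⟩, ⟨Iso.refl E⟩⟩

section Proj

variable {n : ℕ}

/-- A polynomial through all Euler characteristics is a Hilbert polynomial. -/
theorem hilb_of_euler {E : (Pn n k).Modules} {P : Polynomial ℚ}
    (h : ∀ m : ℤ, (Curv2.euler k (CohB1.ProjSpace n k) (CohB1.tensorMod E (Twist.twistProjSpace n k m)) : ℚ) = P.eval (m : ℚ)) :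
    ShStab.IsHilbPoly k (Pn n k) (O' n k 1) E P := Groth.L11.Slope.isHilbPoly_O1 h

theorem euler_of_hilb {E : (Pn n k).Modules} (hE : Coh.IsCoh E) {P : Polynomial ℚ}
    (h : ShStab.IsHilbPoly k (Pn n k) (O' n k 1) E P) (m : ℤ) :
    (Curv2.euler k (CohB1.ProjSpace n k) (CohB1.tensorMod E (Twist.twistProjSpace n k m)) : ℚ) = P.eval (m : ℚ) :=
  (congrArg (fun z : ℤ => (z : ℚ)) (chiP_eq E m)).symm.trans (chiP_eval_of_hilb hE h m)

theorem pullback_id_twist : Nonempty ((Scheme.Modules.pullback (𝟙 (Pn n k))).obj (Twist.twistProjSpace n k 1) ≅ O' n k 1) :=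
  ⟨(Scheme.Modules.pullbackId (Pn n k)).app _⟩

/-- Pure modules of fixed polynomial with bounded slopes on projective space form a bounded family. -/
theorem isBounded_slopeOf_le (P : Polynomial ℚ) (b : ℚ) :
    Pic13.IsBounded k (CohB1.ProjSpace n k) (fun E =>
      Coh.IsCoh E ∧ (∀ m : ℤ, (Curv2.euler k (CohB1.ProjSpace n k) (CohB1.tensorMod E (Twist.twistProjSpace n k m)) : ℚ) = P.eval (m : ℚ)) ∧
      topologicalKrullDim ↥(CohB1.support E) = (P.natDegree : WithBot ℕ∞) ∧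
      ∀ (G : (CohB1.ProjSpace n k).Modules) (ι : G ⟶ E), Mono ι → Coh.IsCoh G → ¬ IsZero G →
        topologicalKrullDim ↥(CohB1.support G) = (P.natDegree : WithBot ℕ∞) ∧
        ∀ ψ : Polynomial ℚ, (∀ m : ℤ, (Curv2.euler k (CohB1.ProjSpace n k) (CohB1.tensorMod G (Twist.twistProjSpace n k m)) : ℚ) = ψ.eval (m : ℚ)) →
          W4c2simpsonmod1.slopeOf P.natDegree ψ ≤ b) := by
  haveI := isProper_over_proj (k := k) (n := n)
  haveI := Groth.L11.Slope.noetherian_proj (k := k) (n := n)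
  rcases hd : P.natDegree with _ | e
  · refine ((Groth.L11.Bdd.Bd.of_isBounded (isBounded_dim_zero (𝟙 (Pn n k)) (Category.id_comp _)
      (isAmple_O1' (n := n)) pullback_id_twist P)).mono ?_).isBounded
    rintro E ⟨hE, hP, -, hG⟩
    exact ⟨E, ⟨hE, fun G ι hι hc h0 => (hG G ι hι hc h0).1, hilb_of_euler hP⟩, ⟨Iso.refl E⟩⟩
  · refine ((Groth.L11.Bdd.Bd.of_isBounded (isBounded_of_slopes (𝟙 (Pn n k)) (Category.id_comp _)
      (isAmple_O1' (n := n)) pullback_id_twist e P b)).mono ?_).isBounded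
    rintro E ⟨hE, hP, -, hG⟩
    exact ⟨E, ⟨hE, fun G ι hι hc h0 => (hG G ι hι hc h0).1, hilb_of_euler hP,
      fun G ι hι hc h0 pG hpG => (hG G ι hι hc h0).2 pG (euler_of_hilb hc hpG)⟩, ⟨Iso.refl E⟩⟩

theorem slopeOf_le_of_redLE {e : ℕ} {E G : (Pn n k).Modules} (hE : Coh.IsCoh E) (hA : AssDim E (e + 1)) (hE0 : ¬ IsZero E)
    (ι : G ⟶ E) [Mono ι] (hG : Coh.IsCoh G) (hG0 : ¬ IsZero G) {P ψ : Polynomial ℚ}
    (hP : ∀ t : ℤ, (chiP E t : ℚ) = P.eval (t : ℚ)) (hψ : ∀ t : ℤ, (chiP G t : ℚ) = ψ.eval (t : ℚ))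
    (h : W4c2simpsonmod1.RedLE (e + 1) ψ P) :
    W4c2simpsonmod1.slopeOf (e + 1) ψ ≤ W4c2simpsonmod1.slopeOf (e + 1) P := by
  obtain ⟨hdG, hαG, -⟩ := diff_of_eval hG (dim_le_of_assDim hG (assDim_of_mono ι hA)) hψ
  obtain ⟨hdE, hαE, -⟩ := diff_of_eval hE (dim_le_of_assDim hE hA) hP
  have h1 : (0 : ℚ) < StabCat.alpha (e + 1) ψ := by
    rw [← hαG]; exact_mod_cast one_le_chiP_diff hG (assDim_of_mono ι hA) hG0
  have h2 : (0 : ℚ) < StabCat.alpha (e + 1) P := by rw [← hαE]; exact_mod_cast one_le_chiP_diff hE hA hE0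
  refine Groth.L03.ShStab.Trunc.hatSlope_le_of_redLE hdG hdE (by omega) h1 h2 ?_
  obtain ⟨N, hN⟩ := h
  refine ⟨N.toNat, fun m hm => ?_⟩
  have h3 := hN (m : ℤ) (by omega)
  rw [Int.cast_natCast] at h3
  have h4 := (div_le_div_iff₀ (show (0 : ℚ) < W4c2simpsonmod1.rankOf (e + 1) ψ from h1)
    (show (0 : ℚ) < W4c2simpsonmod1.rankOf (e + 1) P from h2)).1 h3
  rw [Polynomial.eval_smul, Polynomial.eval_smul, smul_eq_mul, smul_eq_mul]
  linarith [show StabCat.alpha (e + 1) ψ = W4c2simpsonmod1.rankOf (e + 1) ψ from rfl,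
    show ψ.eval (m : ℚ) * W4c2simpsonmod1.rankOf (e + 1) P = StabCat.alpha (e + 1) P * ψ.eval (m : ℚ) from mul_comm _ _,
    show P.eval (m : ℚ) * W4c2simpsonmod1.rankOf (e + 1) ψ = StabCat.alpha (e + 1) ψ * P.eval (m : ℚ) from mul_comm _ _]

/-- Semistable modules of fixed polynomial on projective space form a bounded family. -/
theorem isBounded_redLE (P : Polynomial ℚ) :
    Pic13.IsBounded k (CohB1.ProjSpace n k) (fun E =>
      Coh.IsCoh E ∧ (∀ m : ℤ, (Curv2.euler k (CohB1.ProjSpace n k) (CohB1.tensorMod E (Twist.twistProjSpace n k m)) : ℚ) = P.eval (m : ℚ)) ∧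
      topologicalKrullDim ↥(CohB1.support E) = (P.natDegree : WithBot ℕ∞) ∧
      ∀ (G : (CohB1.ProjSpace n k).Modules) (ι : G ⟶ E), Mono ι → Coh.IsCoh G → ¬ IsZero G →
        topologicalKrullDim ↥(CohB1.support G) = (P.natDegree : WithBot ℕ∞) ∧
        ∀ ψ : Polynomial ℚ, (∀ m : ℤ, (Curv2.euler k (CohB1.ProjSpace n k) (CohB1.tensorMod G (Twist.twistProjSpace n k m)) : ℚ) = ψ.eval (m : ℚ)) →
          W4c2simpsonmod1.RedLE P.natDegree ψ P) := by
  haveI := isProper_over_proj (k := k) (n := n)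
  haveI := Groth.L11.Slope.noetherian_proj (k := k) (n := n)
  refine ((Groth.L11.Bdd.Bd.of_isBounded (isBounded_slopeOf_le (n := n) P (W4c2simpsonmod1.slopeOf P.natDegree P))).mono ?_).isBounded
  rintro E ⟨hE, hP, hdim, hG⟩
  refine ⟨E, ⟨hE, hP, hdim, fun G ι hι hc h0 => ⟨(hG G ι hι hc h0).1, fun ψ hψ => ?_⟩⟩, ⟨Iso.refl E⟩⟩
  haveI := hι
  have hpure : ShStab.IsPure (Pn n k) E P.natDegree := fun G ι hι hc h0 => (hG G ι hι hc h0).1
  have hA := assDim_of_isPure hE hpure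
  have h := (hG G ι hι hc h0).2 ψ hψ
  have hE0 : ¬ IsZero E := fun hz => by
    rw [(Groth.L21.Mod.isZero_iff_support_eq_empty E).1 hz, Groth.L03.Euler.topologicalKrullDim_of_empty rfl] at hdim
    exact absurd hdim (by simp)
  rcases hd : P.natDegree with _ | e
  · obtain ⟨Q, hQd, hQ⟩ := exists_chiP_poly (d := 0) hc (by rw [(hG G ι hι hc h0).1, hd])
    have hψQ : ψ = Q := Polynomial.eq_of_infinite_eval_eq ψ Q
      (Set.infinite_of_injective_forall_mem (f := fun m : ℕ => ((m : ℤ) : ℚ)) (fun a b h => by simpa using h)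
        fun m => (hψ m).symm.trans ((congrArg (fun z : ℤ => (z : ℚ)) (chiP_eq G (m : ℤ))).symm.trans (hQ (m : ℤ))))
    subst hψQ
    have hP0 : P.coeff 0 ≠ 0 := fun h0' => by
      have hp : P = 0 := by rw [Polynomial.eq_C_of_natDegree_le_zero hd.le, h0', map_zero]
      rw [hd] at hA
      have hpos := one_le_chiP_diff hE hA hE0
      have he : ((chiP E 0 : ℤ) : ℚ) = 0 := by
        rw [chiP_eq]; exact (hP 0).trans (by simp [hp])
      have : chiP E 0 = 0 := by exact_mod_cast he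
      simp only [Function.iterate_zero, id_eq] at hpos
      omega
    have hψ0 : ψ.coeff 0 ≠ 0 := fun h0' => by
      have hp : ψ = 0 := by rw [Polynomial.eq_C_of_natDegree_le_zero hQd, h0', map_zero]
      rw [hd] at hA
      have hpos := one_le_chiP_diff hc (assDim_of_mono ι hA) h0
      have he : ((chiP G 0 : ℤ) : ℚ) = 0 := by
        rw [chiP_eq]; exact (hψ 0).trans (by simp [hp])
      have : chiP G 0 = 0 := by exact_mod_cast he
      simp only [Function.iterate_zero, id_eq] at hpos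
      omega
    simp [W4c2simpsonmod1.slopeOf, W4c2simpsonmod1.rankOf, hP0, hψ0]
  · rw [hd] at hA h
    exact slopeOf_le_of_redLE hE hA hE0 ι hc h0 (fun t => (congrArg (fun z : ℤ => (z : ℚ)) (chiP_eq E t)).trans (hP t))
      (fun t => (congrArg (fun z : ℤ => (z : ℚ)) (chiP_eq G t)).trans (hψ t)) h

/-- The bound on sections of semistable modules. -/
theorem exists_sections_bound (d r : ℕ) (hd : 1 ≤ d) :
    ∃ B : ℤ, ∀ (E : (CohB1.ProjSpace n k).Modules) (φ : Polynomial ℚ), Coh.IsCoh E →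
      (∀ m : ℤ, (Curv2.euler k (CohB1.ProjSpace n k) (CohB1.tensorMod E (Twist.twistProjSpace n k m)) : ℚ) = φ.eval (m : ℚ)) →
      topologicalKrullDim ↥(CohB1.support E) = (d : WithBot ℕ∞) →
      W4c2simpsonmod1.rankOf d φ = r →
      (∀ (G : (CohB1.ProjSpace n k).Modules) (ι : G ⟶ E), Mono ι → Coh.IsCoh G → ¬ IsZero G →
        topologicalKrullDim ↥(CohB1.support G) = (d : WithBot ℕ∞) ∧
        ∀ ψ : Polynomial ℚ, (∀ m : ℤ, (Curv2.euler k (CohB1.ProjSpace n k) (CohB1.tensorMod G (Twist.twistProjSpace n k m)) : ℚ) = ψ.eval (m : ℚ)) →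
          W4c2simpsonmod1.slopeOf d ψ ≤ W4c2simpsonmod1.slopeOf d φ) →
      ∀ j : ℤ,
        (W4c2simpsonmod1.slopeOf d φ + j + B ≤ 0 →
          Module.finrank k (Coh.HH (CohB1.ProjSpace n k) (CohB1.tensorMod E (Twist.twistProjSpace n k j)) 0) = 0) ∧
        (0 ≤ W4c2simpsonmod1.slopeOf d φ + j + B →
          (Module.finrank k (Coh.HH (CohB1.ProjSpace n k) (CohB1.tensorMod E (Twist.twistProjSpace n k j)) 0) : ℚ) ≤
            r * (W4c2simpsonmod1.slopeOf d φ + j + B) ^ d / (d.factorial : ℚ)) := by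
  obtain ⟨e, rfl⟩ : ∃ e, d = e + 1 := ⟨d - 1, by omega⟩
  refine ⟨(r : ℤ) + e, fun E φ hE hφ hdim hr hG j => ?_⟩
  haveI := isProper_over_proj (k := k) (n := n)
  haveI := Groth.L11.Slope.noetherian_proj (k := k) (n := n)
  have hA : AssDim E (e + 1) := assDim_of_isPure hE fun G ι hι hc h0 => (hG G ι hι hc h0).1
  have hev : ∀ t : ℤ, (chiP E t : ℚ) = φ.eval (t : ℚ) := fun t => (congrArg (fun z : ℤ => (z : ℚ)) (chiP_eq E t)).trans (hφ t)
  obtain ⟨-, hα, -⟩ := diff_of_eval hE (dim_le_of_assDim hE hA) hev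
  have hα' : D1^[e + 1] (chiP E) 0 = (r : ℤ) := by
    have : ((D1^[e + 1] (chiP E) 0 : ℤ) : ℚ) = ((r : ℤ) : ℚ) := by rw [hα]; exact_mod_cast hr
    exact_mod_cast this
  set μ := W4c2simpsonmod1.slopeOf (e + 1) φ
  have hb := h0t_le_of_slopes hE hA ⌈μ⌉ (fun G ι hι hc h0 => by
    haveI := hι
    obtain ⟨Q, -, hQ⟩ := exists_chiP_poly hc (dim_le_of_assDim hc (assDim_of_mono ι hA))
    exact diff_le_of_hatSlope hc (assDim_of_mono ι hA) h0 hQ
      ((hG G ι hι hc h0).2 Q fun m => (congrArg (fun z : ℤ => (z : ℚ)) (chiP_eq G m)).symm.trans (hQ m))) j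
  rw [hα', h0t_eq] at hb
  have hb2 : Module.finrank k (Coh.HH (CohB1.ProjSpace n k) (CohB1.tensorMod E (Twist.twistProjSpace n k j)) 0) ≤
      r * (j + (⌈μ⌉ + (r : ℤ) - 1) + e).toNat.choose (e + 1) := by
    simpa [secBound] using hb
  set x := (j + (⌈μ⌉ + (r : ℤ) - 1) + e).toNat
  have hceil : (⌈μ⌉ : ℚ) < μ + 1 := Int.ceil_lt_add_one μ
  refine ⟨fun hle => ?_, fun hge => ?_⟩
  · have : x = 0 := by
      have : ((j + (⌈μ⌉ + (r : ℤ) - 1) + e : ℤ) : ℚ) ≤ 0 := by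
        push_cast at hle ⊢
        linarith
      have : j + (⌈μ⌉ + (r : ℤ) - 1) + e ≤ 0 := by exact_mod_cast this
      omega
    rw [this, Nat.choose_eq_zero_of_lt (Nat.succ_pos _), Nat.mul_zero] at hb2
    omega
  · have hx : (x : ℚ) ≤ μ + j + (((r : ℤ) + e : ℤ) : ℚ) := by
      rcases le_or_gt (j + (⌈μ⌉ + (r : ℤ) - 1) + e) 0 with h | h
      · rw [show x = 0 by omega, Nat.cast_zero]; exact hge
      · have : ((x : ℤ) : ℚ) = ((j + (⌈μ⌉ + (r : ℤ) - 1) + e : ℤ) : ℚ) := by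
          rw [show (x : ℤ) = j + (⌈μ⌉ + (r : ℤ) - 1) + e by omega]
        push_cast at this ⊢
        linarith
    refine (Nat.cast_le.2 hb2).trans ?_
    rw [Nat.cast_mul, mul_div_assoc]
    refine mul_le_mul_of_nonneg_left ((Nat.choose_le_pow_div (α := ℚ) (e + 1) x).trans ?_) (Nat.cast_nonneg r)
    gcongr

end Proj

end Groth.L11.GM
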