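import Groth.Agent.L11.GM.LePotier
import Groth.Agent.L11.GM.Simpson

/-!
# The Le Potier–Simpson inequality in terms of Hilbert polynomials
-/

set_option autoImplicit false
set_option linter.style.haveILetI false
set_option linter.unusedSectionVars false
set_option backward.isDefEq.respectTransparency false
set_option backward.isDefEq.respectTransparency.types false

universe u

open CategoryTheory CategoryTheory.Limits AlgebraicGeometry TopologicalSpace Opposite

noncomputable section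

namespace Groth.L11.GM

open Groth.L22.Reg Groth.L11.Lemma179
open Groth.L00.Tensor (tensorRightF tensorIso)
open Groth.L16
open Groth.L11.Slope (D1)

variable {k : Type u} [Field k] {n : ℕ}

theorem natDegree_alpha_of_eval {G : (Pn n k).Modules} (hG : Coh.IsCoh G) {d : ℕ} (hA : AssDim G d) (h0 : ¬ IsZero G)
    {ψ : Polynomial ℚ} (hψ : ∀ t : ℤ, (chiP G t : ℚ) = ψ.eval (t : ℚ)) :
    ψ.natDegree ≤ d ∧ StabCat.alpha d ψ = ((D1^[d] (chiP G) 0 : ℤ) : ℚ) ∧ 0 < StabCat.alpha d ψ := by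
  haveI := isProper_over_proj (k := k) (n := n)
  haveI := Groth.L11.Slope.noetherian_proj (k := k) (n := n)
  have hd := dim_le_of_assDim hG hA
  obtain ⟨Q, hQd, hQ⟩ := exists_chiP_poly hG hd
  obtain rfl : ψ = Q := Polynomial.eq_of_infinite_eval_eq ψ Q
    (Set.infinite_of_injective_forall_mem (f := fun m : ℕ => ((m : ℤ) : ℚ)) (fun a b h => by simpa using h)
      fun m => (hψ m).symm.trans (hQ m))
  have ha := alpha_eq_diff hG hd (Groth.L11.Slope.isHilbPoly_O1 (E := G) (P := ψ) fun m => by rw [← chiP_eq]; exact hψ m)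
  refine ⟨hQd, ha, ?_⟩
  rw [ha]
  have := one_le_chiP_diff hG hA h0
  exact_mod_cast (by omega : 0 < D1^[d] (chiP G) 0)

/-- The inequality for modules with a given Hilbert polynomial. -/
theorem exists_lps_rat (n d : ℕ) (P : Polynomial ℚ) : ∃ N₀ : ℕ, ∀ (k : Type u) [Field k] [CharZero k]
    (E : (Pn n k).Modules), Coh.IsCoh E → AssDim E d → (∀ t : ℤ, (chiP E t : ℚ) = P.eval (t : ℚ)) →
    (∀ (G : (Pn n k).Modules) (ι : G ⟶ E), Mono ι → Coh.IsCoh G → ¬ IsZero G → ∀ ψ : Polynomial ℚ,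
      (∀ t : ℤ, (chiP G t : ℚ) = ψ.eval (t : ℚ)) →
        ∃ T : ℤ, ∀ t : ℤ, T ≤ t → StabCat.alpha d P * ψ.eval (t : ℚ) ≤ StabCat.alpha d ψ * P.eval (t : ℚ)) →
    ∀ (F : (Pn n k).Modules) (ι : F ⟶ E), Mono ι → Coh.IsCoh F → ¬ IsZero F → ∀ ψ : Polynomial ℚ,
      (∀ t : ℤ, (chiP F t : ℚ) = ψ.eval (t : ℚ)) → ∀ N : ℕ, N₀ ≤ N →
        (h0t F (N : ℤ) : ℚ) / StabCat.alpha d ψ ≤ P.eval (N : ℚ) / StabCat.alpha d P ∧
        ((h0t F (N : ℤ) : ℚ) / StabCat.alpha d ψ = P.eval (N : ℚ) / StabCat.alpha d P → StabCat.RedEq d ψ P) := by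
  rcases d with _ | e
  · refine ⟨0, fun k _ _ E hE hA hP _ F ι hι hF hF0 ψ hψ N _ => ?_⟩
    haveI := hι
    have hE0 : ¬ IsZero E := fun hz => hF0 (IsZero.of_mono ι hz)
    obtain ⟨hPd, -, hPpos⟩ := natDegree_alpha_of_eval hE hA hE0 hP
    obtain ⟨hψd, -, hψpos⟩ := natDegree_alpha_of_eval hF (assDim_of_mono ι hA) hF0 hψ
    have h1 : (h0t F (N : ℤ) : ℚ) = ψ.eval ((N : ℤ) : ℚ) := by
      rw [← hψ, ← lps_zero hA ι hF]; norm_cast
    have hP' := Polynomial.eq_C_of_natDegree_le_zero hPd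
    have hψ' := Polynomial.eq_C_of_natDegree_le_zero hψd
    have hαP : StabCat.alpha 0 P = P.coeff 0 := by simp [StabCat.alpha]
    have hαψ : StabCat.alpha 0 ψ = ψ.coeff 0 := by simp [StabCat.alpha]
    rw [hαP] at hPpos ⊢
    rw [hαψ] at hψpos ⊢
    have e1 : ψ.eval ((N : ℤ) : ℚ) = ψ.coeff 0 := by
      have := congrArg (Polynomial.eval ((N : ℤ) : ℚ)) hψ'
      rwa [Polynomial.eval_C] at this
    have e2 : P.eval (N : ℚ) = P.coeff 0 := by
      have := congrArg (Polynomial.eval (N : ℚ)) hP'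
      rwa [Polynomial.eval_C] at this
    refine ⟨by rw [h1, e1, e2, div_self hψpos.ne', div_self hPpos.ne'], fun _ => ?_⟩
    show StabCat.alpha 0 P • ψ = StabCat.alpha 0 ψ • P
    rw [hαP, hαψ]
    conv_lhs => rw [hψ']
    conv_rhs => rw [hP']
    rw [Polynomial.smul_C, Polynomial.smul_C, smul_eq_mul, smul_eq_mul, mul_comm]
  · obtain ⟨N₀, hN₀⟩ := exists_lps.{u} n e fun t : ℤ => ⌊P.eval (t : ℚ)⌋
    refine ⟨N₀, fun k _ _ E hE hA hP hss F ι hι hF hF0 ψ hψ N hN => ?_⟩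
    haveI := hι
    have hchi : chiP E = fun t : ℤ => ⌊P.eval (t : ℚ)⌋ := funext fun t => by rw [← hP, Int.floor_intCast]
    have hE0 : ¬ IsZero E := fun hz => hF0 (IsZero.of_mono ι hz)
    obtain ⟨-, haP, hPpos⟩ := natDegree_alpha_of_eval hE hA hE0 hP
    obtain ⟨-, haψ, hψpos⟩ := natDegree_alpha_of_eval hF (assDim_of_mono ι hA) hF0 hψ
    have key := hN₀ k E hE hA hchi (fun G g hg hG hG0 => by
      haveI := hg
      obtain ⟨Q, -, hQ⟩ := exists_chiP_poly hG (dim_le_of_assDim hG (assDim_of_mono g hA))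
      obtain ⟨-, haQ, -⟩ := natDegree_alpha_of_eval hG (assDim_of_mono g hA) hG0 hQ
      obtain ⟨T, hT⟩ := hss G g hg hG hG0 Q hQ
      refine ⟨T, fun t ht => ?_⟩
      have h := hT t ht
      rw [haP, haQ, ← hQ, ← hP] at h
      have h' : D1^[e + 1] (chiP E) 0 * chiP G t ≤ D1^[e + 1] (chiP G) 0 * chiP E t := by exact_mod_cast h
      rw [hchi] at h'
      exact h') F ι hι hF hF0 N hN
    have hchiN : ∀ t : ℤ, ⌊P.eval (t : ℚ)⌋ = chiP E t := fun t => (congrFun hchi t).symm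
    rw [← hchi] at key
    simp only [hchiN] at key
    obtain ⟨h1, h2⟩ := key
    have hv : P.eval (N : ℚ) = ((chiP E (N : ℤ) : ℤ) : ℚ) := by rw [hP]; norm_cast
    refine ⟨?_, fun heq => ?_⟩
    · rw [div_le_div_iff₀ hψpos hPpos, hv, haP, haψ]
      have h1' : (h0t F (N : ℤ) : ℤ) * D1^[e + 1] (chiP E) 0 ≤ chiP E N * D1^[e + 1] (chiP F) 0 := by linarith
      exact_mod_cast h1'
    · rw [div_eq_div_iff hψpos.ne' hPpos.ne', hv, haP, haψ] at heq
      have heq' : (h0t F (N : ℤ) : ℤ) * D1^[e + 1] (chiP E) 0 = chiP E N * D1^[e + 1] (chiP F) 0 := by exact_mod_cast heq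
      have h3 := h2 (by linarith)
      refine Polynomial.eq_of_infinite_eval_eq _ _
        (Set.infinite_of_injective_forall_mem (f := fun m : ℕ => ((m : ℤ) : ℚ)) (fun a b h => by simpa using h) fun m => ?_)
      show (StabCat.alpha (e + 1) P • ψ).eval _ = (StabCat.alpha (e + 1) ψ • P).eval _
      rw [Polynomial.eval_smul, Polynomial.eval_smul, smul_eq_mul, smul_eq_mul, haP, haψ, ← hψ, ← hP]
      exact_mod_cast h3 (m : ℤ)

section Closed

variable {X : Scheme.{u}} [X.Over (Spec (CommRingCat.of k))] [IsProper (X ↘ Spec (CommRingCat.of k))] [CharZero k]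

/-- The inequality on a scheme with a very ample module. -/
theorem exists_lps_closed (i : X ⟶ CohB1.ProjSpace n k) [IsClosedImmersion i]
    (hi : i ≫ CohB1.ProjSpace.toSpec n k = X ↘ Spec (CommRingCat.of k)) {L : X.Modules} (hL : CohB1.IsAmple L)
    (hLi : Nonempty ((Scheme.Modules.pullback i).obj (Twist.twistProjSpace n k 1) ≅ L)) (d : ℕ) (P : Polynomial ℚ) :
    ∃ N₀ : ℕ, ∀ N : ℕ, N₀ ≤ N → ∀ (E : X.Modules), ShStab.IsSemistable k X L E d → ShStab.IsHilbPoly k X L E P →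
      ∀ (F : X.Modules) (ι : F ⟶ E), Mono ι → Coh.IsCoh F → ¬ IsZero F →
        ∀ ψ : Polynomial ℚ, ShStab.IsHilbPoly k X L F ψ →
          (Module.finrank k (Coh.HH X (ShStab.twist X L F N) 0) : ℚ) / StabCat.alpha d ψ ≤
              P.eval (N : ℚ) / StabCat.alpha d P ∧
          ((Module.finrank k (Coh.HH X (ShStab.twist X L F N) 0) : ℚ) / StabCat.alpha d ψ =
              P.eval (N : ℚ) / StabCat.alpha d P → StabCat.RedEq d ψ P) := by
  obtain ⟨N₀, hN₀⟩ := exists_lps_rat.{u} n d P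
  refine ⟨N₀, fun N hN E hs hP F ι hι hF hF0 ψ hψ => ?_⟩
  obtain ⟨hE, -, hp, hss⟩ := hs
  obtain ⟨eL⟩ := hLi
  haveI := Groth.L21.RR.isNoetherian_of_proper (X := X) k
  have hpow : Nonempty (CohB1.tensorPow L 1 ≅ (Scheme.Modules.pullback i).obj (Twist.twistProjSpace n k 1)) :=
    ⟨Groth.L00.Tensor.tensorPowOne L ≪≫ eL.symm⟩
  have hev : ∀ {G : X.Modules}, Coh.IsCoh G → ∀ {p : Polynomial ℚ}, ShStab.IsHilbPoly k X L G p →
      ∀ t : ℤ, (chiP ((Coh.push i).obj G) t : ℚ) = p.eval (t : ℚ) := fun hG p hp t => by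
    have h := chiP_push_eval i hi (r := 1) hpow hG hp t
    rwa [Nat.cast_one, map_one, one_mul, Polynomial.comp_X] at h
  haveI := hι
  haveI : Mono ((Coh.push i).map ι) := (shortExact_push i (S := ShortComplex.mk ι (cokernel.π ι) (cokernel.condition ι))
    { exact := ShortComplex.exact_cokernel ι }).mono_f
  haveI := Groth.L17.ClosedPush.isIso_counit i
  have hA := assDim_of_isPure hE hp
  have key := hN₀ k _ (isCoh_push_closed i hE) (assDim_push i hE hA) (hev hE hP) (fun K g hg hK hK0 p hp' => by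
    haveI := hg
    obtain ⟨G, φ, hφ, hG, ⟨eK⟩⟩ := exists_sub_push i hE hK g
    haveI := hφ
    obtain ⟨pG, -, hpG⟩ := Groth.L03.Euler.exists_isHilbPoly (k := k) hL.1 hG
      ((Groth.L03.Euler.topologicalKrullDim_set_mono (Groth.L21.Mod.support_mono φ)).trans (dim_le_of_assDim hE hA))
    obtain rfl : p = pG := Polynomial.eq_of_infinite_eval_eq _ _
      (Set.infinite_of_injective_forall_mem (f := fun m : ℕ => ((m : ℤ) : ℚ)) (fun a b h => by simpa using h)
        fun m => (hp' m).symm.trans ((congrArg (fun z : ℤ => (z : ℚ)) (chiP_iso eK.symm (m : ℤ))).trans (hev hG hpG m)))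
    by_cases hiso : IsIso φ
    · exact ⟨0, fun t _ => by rw [Groth.L03.Euler.isHilbPoly_unique hpG (Groth.L03.Euler.isHilbPoly_iso (asIso φ).symm hP)]⟩
    · obtain ⟨T, hT⟩ := hss G φ hφ hG (fun hz => hK0 (IsZero.of_iso ((Coh.push i).map_isZero hz) eK.symm)) hiso p P hpG hP
      refine ⟨(T : ℤ), fun t ht => ?_⟩
      have h := hT t.toNat (by omega)
      rw [Polynomial.eval_smul, Polynomial.eval_smul, smul_eq_mul, smul_eq_mul,
        show ((t.toNat : ℕ) : ℚ) = (t : ℚ) by exact_mod_cast Int.toNat_of_nonneg (show 0 ≤ t by omega)] at h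
      exact h) ((Coh.push i).obj F) ((Coh.push i).map ι) inferInstance (isCoh_push_closed i hF)
    (fun hz => hF0 (IsZero.of_iso ((Scheme.Modules.pullback i).map_isZero hz)
      ((asIso (Scheme.Modules.pullbackPushforwardAdjunction i).counit).app F).symm)) ψ (hev hF hψ) N hN
  obtain ⟨e1⟩ := nonempty_twist_pow i L 1 hpow F N
  obtain ⟨e2⟩ := nonempty_push_twist i F (N : ℤ)
  obtain ⟨φ⟩ := nonempty_HH_twist i hi hF (N : ℤ) 0
  have hfr : h0t ((Coh.push i).obj F) (N : ℤ) = Module.finrank k (Coh.HH X (ShStab.twist X L F N) 0) := by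
    rw [h0t_eq, finrank_HH_iso e2, ← φ.finrank_eq]
    exact (Groth.L21.RR.h_congr k ((eqToIso (by rw [Nat.one_mul]) : ShStab.twist X L F N ≅ ShStab.twist X L F (1 * N)) ≪≫ e1) 0).symm
  rwa [hfr] at key

end Closed

end Groth.L11.GM
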