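import Groth.Agent.L11.GM.Chain
import Groth.Agent.L11.GM.Coef

/-!
# Lattice coordinates on a general line
-/

set_option autoImplicit false
set_option linter.style.haveILetI false
set_option linter.unusedSectionVars false
set_option backward.isDefEq.respectTransparency false
set_option backward.isDefEq.respectTransparency.types false

universe u

open CategoryTheory CategoryTheory.Limits AlgebraicGeometry TopologicalSpace Opposite

noncomputable section

namespace Groth.L11.GM

open Groth.L22.Reg Groth.L11.Lemma179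
open Groth.L16

variable {k : Type u} [Field k] {n : ℕ} {e r : ℕ}

/-- One variable as a coordinate ring. -/
def nu : Polynomial k →ₐ[k] R k 0 := Polynomial.aeval (MvPolynomial.X none)

theorem nu_injective : Function.Injective (nu (k := k)) := fun a b h => by
  have hc : ∀ x : Polynomial k, (MvPolynomial.aeval fun _ : Option (Fin 0) => (Polynomial.X : Polynomial k)) (nu x) = x :=
    fun x => by
      rw [nu, ← Polynomial.aeval_algHom_apply, MvPolynomial.aeval_X]
      exact Polynomial.aeval_X_left_apply x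
  rw [← hc a, ← hc b, h]

/-- A nonzero polynomial stays nonzero on general lines. -/
theorem exists_line_ne_zero {f : R k e} (hf : f ≠ 0) :
    ∃ C : P0 k e, C ≠ 0 ∧ ∀ p, MvPolynomial.eval p C ≠ 0 → σ p f ≠ 0 := by
  have h : θ (ψ f) ≠ 0 := fun h => hf (ψ_injective ((θ_injective (h.trans (map_zero θ).symm)).trans (map_zero ψ).symm))
  obtain ⟨i, hi⟩ : ∃ i, (θ (ψ f)).coeff i ≠ 0 := by
    by_contra hall
    push Not at hall
    exact h (Polynomial.ext fun i => by rw [hall i, Polynomial.coeff_zero])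
  refine ⟨_, hi, fun p hp h0 => hp ?_⟩
  have := congrArg (Polynomial.coeff · i) h0
  simpa [σ_eq, Polynomial.coeff_map] using this

variable (y0 : Form n k) (yo : Option (Fin e) → Form n k)

/-- The forms of a line. -/
abbrev lineP (p : Fin e ⊕ Fin e → k) : Fin e → Form n k := lineForm y0 (yo none) (fun i => yo (some i)) p

/-- The equations of a line. -/
def lineL (p : Fin e ⊕ Fin e → k) (i : Fin e) : R k e :=
  MvPolynomial.X (some i) - MvPolynomial.C (p (Sum.inl i)) - MvPolynomial.C (p (Sum.inr i)) * MvPolynomial.X none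

theorem rho_lineL (p : Fin e ⊕ Fin e → k) (i : Fin e) : rho y0 yo (lineL p i) = coef y0 (lineP y0 yo p i) := by
  rw [lineL, lineP, lineForm, coef_sub_smul, coef_sub_smul, coef_self, mul_one, map_sub, map_sub, map_mul, rho_X, rho_C,
    rho_C, rho_X]

theorem σ_lineL (p : Fin e ⊕ Fin e → k) (i : Fin e) : σ p (lineL p i) = 0 := by
  simp [lineL, σ]

/-- On the line a polynomial acts through its restriction. -/
theorem eval_line (p : Fin e ⊕ Fin e → k) {G : (Pn n k).Modules} (z : Γ(G, Dy y0))
    (hz : ∀ i, coef y0 (lineP y0 yo p i) • z = 0) (g : R k e) :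
    rho y0 yo g • z = rho y0 (fun _ : Option (Fin 0) => yo none) (nu (σ p g)) • z := by
  induction g using MvPolynomial.induction_on with
  | C a =>
    rw [rho_C, show σ p (MvPolynomial.C a) = algebraMap k _ a from AlgHom.commutes _ _, AlgHom.commutes]
    rw [show algebraMap k (R k 0) a = MvPolynomial.C a from rfl, rho_C]
  | add a b ha hb => rw [map_add, add_smul, ha, hb, map_add, map_add, map_add, add_smul]
  | mul_X a o ha =>
    have ho : rho y0 yo (MvPolynomial.X o) • z =
        rho y0 (fun _ : Option (Fin 0) => yo none) (nu (σ p (MvPolynomial.X o))) • z := by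
      rw [rho_X]
      cases o with
      | none =>
        rw [show σ p (MvPolynomial.X none) = Polynomial.X by simp [σ], nu, Polynomial.aeval_X, rho_X]
      | some i =>
        have h := hz i
        rw [lineP, lineForm, coef_sub_smul, coef_sub_smul, coef_self, mul_one, sub_smul, sub_smul, sub_eq_zero,
          sub_eq_iff_eq_add] at h
        rw [h, show σ p (MvPolynomial.X (some i)) = Polynomial.C (p (Sum.inl i)) + Polynomial.C (p (Sum.inr i)) * Polynomial.X
          by simp [σ], map_add, map_add, add_smul, map_mul, map_mul, nu, Polynomial.aeval_C, Polynomial.aeval_C,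
          Polynomial.aeval_X, rho_X]
        simp only [show ∀ b : k, algebraMap k (R k 0) b = MvPolynomial.C b from fun _ => rfl, rho_C]
        exact add_comm _ _
    rw [map_mul, mul_smul, ho, smul_comm, ha, map_mul, map_mul, map_mul, smul_smul, mul_comm]

variable {E Q : (Pn n k).Modules}

/-- The filtration of sections of `E`. -/
abbrev VE (E : (Pn n k).Modules) : ℕ → Submodule k (Md y0 yo E) := Vsub y0 yo (𝟙 E)

theorem mem_VE {J : ℕ} {m : Md y0 yo E} : m ∈ VE y0 yo E J ↔ ∃ φ : Tp n k J ⟶ E, etaL y0 yo E J φ = m :=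
  ⟨fun ⟨φ, h⟩ => ⟨φ ≫ 𝟙 E, h⟩, fun ⟨φ, h⟩ => ⟨φ, by
    show etaL y0 yo E J (φ ≫ 𝟙 E) = m
    rw [Category.comp_id]
    exact h⟩⟩

theorem coords_unique {M : Type u} [AddCommGroup M] [Module (R k e) M] {v : Fin r → M}
    (hv : LinearIndependent (R k e) v) {c c' : Fin r → R k e} (h : ∑ l, c l • v l = ∑ l, c' l • v l) : c = c' :=
  linearIndependent_iff_injective_fintypeLinearCombination.1 hv (by simpa [Fintype.linearCombination_apply] using h)

variable {v : Fin r → Md y0 yo E} {f : R k e} {p : Fin e ⊕ Fin e → k} {q : E ⟶ Q} {N : ℕ}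

/-- Sections vanishing on the line have coordinates vanishing on the line. -/
theorem coords_of_kernel (hv : LinearIndependent (R k e) v)
    (hspan : ∀ J, ∀ m ∈ VE y0 yo E J, f • m ∈ Submodule.span (R k e) (Set.range v))
    (c : Cut e y0 (yo none) (lineP y0 yo p) N E Q q) {J : ℕ} (hJ : N + 2 ≤ J) {ξ : Tp n k J ⟶ E} (hξ : ξ ≫ c.π = 0)
    {a : Fin r → R k e} (ha : f • etaL y0 yo E J ξ = ∑ l, a l • v l) : σv p a = 0 := by
  obtain ⟨J, rfl⟩ : ∃ b, J = b + 1 := ⟨J - 1, by omega⟩
  obtain ⟨ψ, hψ⟩ := c.ker J (by omega) ξ hξ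
  choose b hb using fun i => (Submodule.mem_span_range_iff_exists_fun _).1
    (hspan J _ ((mem_VE y0 yo).2 ⟨ψ i, rfl⟩))
  have h : etaL y0 yo E (J + 1) ξ = ∑ i, lineL p i • etaL y0 yo E J (ψ i) := by
    show toMd y0 yo (eta y0 (J + 1) ξ) = _
    rw [hψ]
    refine Eq.trans (?_ : _ = ∑ i, toMd y0 yo (coef y0 (lineP y0 yo p i) • eta y0 J (ψ i))) ?_
    · exact map_sum (AddMonoidHom.id Γ(E, Dy y0)) (fun i => coef y0 (lineP y0 yo p i) • eta y0 J (ψ i)) Finset.univ
    refine Finset.sum_congr rfl fun i _ => ?_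
    show _ = toMd y0 yo (rho y0 yo (lineL p i) • eta y0 J (ψ i))
    rw [rho_lineL]
  rw [h, Finset.smul_sum] at ha
  simp only [smul_comm f, ← hb, Finset.smul_sum, smul_smul] at ha
  rw [Finset.sum_comm] at ha
  simp only [← Finset.sum_smul] at ha
  have := coords_unique hv ha
  funext l
  simp [σv, ← this, map_sum, map_mul, σ_lineL]

/-- The structure of a general line satisfies the covering conditions. -/
theorem covers_cut {h : Fin e → Form n k} (c : Cut e y0 (yo none) h N E Q q) :
    Covers y0 (fun _ : Option (Fin 0) => yo none) c.T ∧ Covers y0 (fun _ : Option (Fin 0) => yo none) c.R1 :=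
  ⟨⟨fun x hx => c.topT x (mem_support_of_isAssPoint hx) (c.assT x hx),
      fun x hx => (c.coverT x hx).imp id fun h => ⟨none, h⟩⟩,
    ⟨fun x hx => c.topR x (mem_support_of_isAssPoint hx) (c.assR x hx),
      fun x hx => (c.coverR x hx).imp id fun h => ⟨none, h⟩⟩⟩

/-- A map of sections on the chart respects polynomials. -/
theorem app_rho {G : (Pn n k).Modules} (g : E ⟶ G) (a : R k e) (m : Md y0 yo E) :
    g.app (Dy y0) (show Γ(E, Dy y0) from a • m) = rho y0 yo a • g.app (Dy y0) (show Γ(E, Dy y0) from m) :=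
  g.app_smul (rho y0 yo a) (show Γ(E, Dy y0) from m)

theorem app_lincomb {G : (Pn n k).Modules} (g : E ⟶ G) (a : Fin r → R k e) :
    g.app (Dy y0) (show Γ(E, Dy y0) from ∑ l, a l • v l) = ∑ l, rho y0 yo (a l) • g.app (Dy y0) (show Γ(E, Dy y0) from v l) := by
  refine (map_sum (g.app (Dy y0)).hom (fun l => (show Γ(E, Dy y0) from a l • v l)) Finset.univ).trans ?_
  exact Finset.sum_congr rfl fun l _ => app_rho y0 yo g _ _

/-- Sections whose coordinates die on the line die there. -/
theorem kills_of_coords {j : ℕ} (hvj : ∀ l, v l ∈ VE y0 yo E j) (c : Cut e y0 (yo none) (lineP y0 yo p) N E Q q)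
    {G : (Pn n k).Modules} (g : c.T ⟶ G) (hG : Coh.IsCoh G) (hA : AssDim G 1)
    (hc : Covers y0 (fun _ : Option (Fin 0) => yo none) G) {f' : R k e} (hf : σ p f' ≠ 0) {J : ℕ} {ξ : Tp n k J ⟶ E}
    {a : Fin r → R k e}
    (ha : (g.app (Dy y0) (c.π.app (Dy y0) (show Γ(E, Dy y0) from f' • etaL y0 yo E J ξ))) =
      ∑ l, rho y0 yo (a l) • g.app (Dy y0) (c.π.app (Dy y0) (show Γ(E, Dy y0) from v l)))
    (hσ : σv p a = 0) : ξ ≫ c.π ≫ g = 0 := by
  have hkill : ∀ (J : ℕ) (φ : Tp n k J ⟶ E) i, coef y0 (lineP y0 yo p i) •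
      g.app (Dy y0) (c.π.app (Dy y0) (eta y0 J φ)) = 0 := fun J φ i => by
    rw [← Scheme.Modules.Hom.app_smul, c.kills i J φ]
    exact map_zero _
  have h0 : ∑ l, rho y0 yo (a l) • g.app (Dy y0) (c.π.app (Dy y0) (show Γ(E, Dy y0) from v l)) = 0 :=
    Finset.sum_eq_zero fun l _ => by
      obtain ⟨φ, hφ⟩ := (mem_VE y0 yo).1 (hvj l)
      rw [← hφ]
      show rho y0 yo (a l) • g.app (Dy y0) (c.π.app (Dy y0) (eta y0 j φ)) = 0
      rw [eval_line y0 yo p _ (hkill j φ), show σ p (a l) = 0 from congrFun hσ l, map_zero, map_zero, zero_smul]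
  rw [h0] at ha
  have h1 : rho y0 yo f' • g.app (Dy y0) (c.π.app (Dy y0) (eta y0 J ξ)) = 0 := by
    rw [← Scheme.Modules.Hom.app_smul, ← Scheme.Modules.Hom.app_smul]
    exact ha
  rw [eval_line y0 yo p _ (hkill J ξ)] at h1
  have h2 := torsion_free y0 (fun _ : Option (Fin 0) => yo none) hG hA hc (nu (σ p f')) J
    (etaL y0 (fun _ : Option (Fin 0) => yo none) G J (ξ ≫ c.π ≫ g)) ((mem_VE y0 _).2 ⟨_, rfl⟩)
    (fun h => hf (nu_injective (h.trans (map_zero nu).symm))) h1
  exact eq_zero_of_eta y0 hG hc.1 h2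

end Groth.L11.GM
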