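import Groth.Agent.L11.GM.Killed

/-!
# Vanishing of sections on a general line below the slope bound
-/

set_option autoImplicit false
set_option linter.style.haveILetI false
set_option linter.unusedSectionVars false
set_option backward.isDefEq.respectTransparency false
set_option backward.isDefEq.respectTransparency.types false

universe u

open CategoryTheory CategoryTheory.Limits AlgebraicGeometry TopologicalSpace Opposite

noncomputable section

namespace Groth.L11.GM

open Groth.L22.Reg Groth.L11.Lemma179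
open Groth.L16
open Groth.L11.Slope (D1)

/-- A generalised inverse of a matrix over a domain. -/
theorem exists_quasi {A : Type u} [CommRing A] [IsDomain A] {r q : ℕ} (Φ : Fin q → Fin r → A) :
    ∃ (f : A) (Ψ : Fin r → Fin q → A), f ≠ 0 ∧ ∀ (c : Fin r → A) (a : Fin q),
      ∑ l, Φ a l * ∑ b, Ψ l b * ∑ m, Φ b m * c m = f * ∑ m, Φ a m * c m := by
  classical
  let K := FractionRing A
  let al := algebraMap A K
  have hal : Function.Injective al := IsFractionRing.injective A K
  let L : (Fin r → K) →ₗ[K] (Fin q → K) := Matrix.mulVecLin (Matrix.of fun a l => al (Φ a l))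
  obtain ⟨s, hs⟩ := L.rangeRestrict.exists_rightInverse_of_surjective L.range_rangeRestrict
  obtain ⟨B, hB⟩ := LinearMap.exists_extend s
  have hLBL : ∀ x, L (B (L x)) = L x := fun x => by
    have h1 : B (L x) = s ⟨L x, LinearMap.mem_range_self L x⟩ :=
      LinearMap.congr_fun hB ⟨L x, LinearMap.mem_range_self L x⟩
    rw [h1]
    exact congrArg Subtype.val (LinearMap.congr_fun hs ⟨L x, LinearMap.mem_range_self L x⟩)
  obtain ⟨f, hf⟩ := IsLocalization.exist_integer_multiples_of_finite (nonZeroDivisors A)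
    (fun lb : Fin r × Fin q => LinearMap.toMatrix' B lb.1 lb.2)
  choose Ψ hΨ using hf
  refine ⟨f, fun l b => Ψ (l, b), nonZeroDivisors.coe_ne_zero f, fun c a => hal ?_⟩
  have hΨ' : ∀ l b, al (Ψ (l, b)) = al (f : A) * LinearMap.toMatrix' B l b := fun l b => by
    rw [hΨ (l, b), Algebra.smul_def]
  have h1 : B (L fun m => al (c m)) = fun l => ∑ b, LinearMap.toMatrix' B l b * ∑ m, al (Φ b m) * al (c m) := by
    conv_lhs => rw [← Matrix.toLin'_toMatrix' B]
    rw [Matrix.toLin'_apply]
    rfl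
  have h2 : ∑ l, al (Φ a l) * B (L fun m => al (c m)) l = ∑ m, al (Φ a m) * al (c m) :=
    congrFun (hLBL fun m => al (c m)) a
  rw [h1] at h2
  simp only at h2
  simp only [map_sum, map_mul, hΨ']
  rw [← h2, Finset.mul_sum]
  refine Finset.sum_congr rfl fun l _ => ?_
  simp only [Finset.mul_sum]
  exact Finset.sum_congr rfl fun b _ => Finset.sum_congr rfl fun m _ => by ring

variable {k : Type u} [Field k] {n : ℕ} {e : ℕ} (y0 : Form n k) (yo : Option (Fin e) → Form n k)

/-- Repeated multiplication by a form. -/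
def mulPow (g : Form n k) {M : (Pn n k).Modules} (φ : Tp n k 0 ⟶ M) : ∀ a, Tp n k a ⟶ M
  | 0 => φ
  | a + 1 => mulF g M a (mulPow g φ a)

theorem eta_mulPow (g : Form n k) {M : (Pn n k).Modules} (φ : Tp n k 0 ⟶ M) :
    ∀ a, eta y0 a (mulPow g φ a) = coef y0 g ^ a • eta y0 0 φ
  | 0 => by rw [pow_zero, one_smul]; rfl
  | a + 1 => by rw [show mulPow g φ (a + 1) = mulF g M a (mulPow g φ a) from rfl, eta_mulF, eta_mulPow g φ a,
      smul_smul, ← pow_succ']

variable [CharZero k]

theorem chiP_kernel_part {E G : (Pn n k).Modules} (hE : Coh.IsCoh E) (hG : Coh.IsCoh G) (ι : G ⟶ E) [Mono ι] (t : ℤ) :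
    D1^[e] (chiP E) t = D1^[e] (chiP G) t + D1^[e] (chiP (cokernel ι)) t := by
  haveI := Groth.L11.Slope.noetherian_proj (k := k) (n := n)
  have h : chiP E = fun s => chiP G s + chiP (cokernel ι) s := funext fun s =>
    chiP_add (S := ShortComplex.mk ι (cokernel.π ι) (cokernel.condition ι))
      { exact := ShortComplex.exact_cokernel ι } hG hE (CohKernel.isCoh_kernel_cokernel hG hE ι).2 s
  rw [h, D1_iter_add]

theorem lattice_sum {E : (Pn n k).Modules} {r : ℕ} {v : Fin r → Md y0 yo E} {ι : Type*} (s : Finset ι) (g : ι → k)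
    (c : ι → Fin r → R k e) : ∑ l, (∑ a ∈ s, g a • c a) l • v l = ∑ a ∈ s, g a • ∑ l, c a l • v l := by
  simp only [Finset.sum_apply, Pi.smul_apply, Finset.sum_smul, smul_assoc, Finset.smul_sum]
  exact Finset.sum_comm

/-- On some line there are no sections of a module whose submodules have very negative slopes. -/
theorem exists_line {E : (Pn n k).Modules} (hE : Coh.IsCoh E) (hA : AssDim E (e + 1))
    (hy0 : ∀ x ∈ CohB1.support E, topologicalKrullDim (closure ({x} : Set (Pn n k))) = ((e + 1 : ℕ) : WithBot ℕ∞) → x ∈ Dy y0)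
    (hyo : ∀ x ∈ CohB1.support E, x ∈ Dy y0 ∨ ∃ o, x ∈ Proj.basicOpen (CohB1.polyGrading n k) (yo o).1)
    (b : ℤ) (hb : ∀ (G : (Pn n k).Modules) (ι : G ⟶ E), Mono ι → Coh.IsCoh G → ¬ IsZero G →
      D1^[e] (chiP G) 0 ≤ b * D1^[e + 1] (chiP G) 0)
    (hbr : b + D1^[e + 1] (chiP E) 0 ≤ 1) :
    ∃ T : (Pn n k).Modules, Chain e E T ∧ Coh.IsCoh T ∧ h0t T 0 = 0 := by
  classical
  haveI := Groth.L11.Slope.noetherian_proj (k := k) (n := n)
  have hcov : Covers y0 yo E := ⟨fun x hx => hy0 x (mem_support_of_isAssPoint hx) (hA x hx), hyo⟩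
  obtain ⟨Je, hgr⟩ := exists_grow y0 yo hE hA hcov hE (𝟙 E)
  have htf : ∀ (g : R k e) J, ∀ m ∈ VE y0 yo E J, g ≠ 0 → g • m = 0 → m = 0 := torsion_free y0 yo hE hA hcov
  obtain ⟨r, j, v, f, hr, hf, hv, hvj, hspan⟩ := exists_frame hgr htf
  have hFE : Filt (e := e) (VE y0 yo E) := filt_Vsub y0 yo hE (𝟙 E)
  obtain ⟨hFfin, hFmono, hFmul⟩ := filt_lat hFE hv f
  have hcov0 : ∀ x ∈ CohB1.support E, y0 ∈ vanAt x → yo none ∈ vanAt x → ∃ i, yo (some i) ∉ vanAt x := by
    intro x hx h0 hw
    rcases hyo x hx with h | ⟨o, h⟩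
    · exact absurd h (mem_vanAt.1 h0)
    · cases o with
      | none => exact absurd h (mem_vanAt.1 hw)
      | some i => exact ⟨i, fun hm => mem_vanAt.1 hm h⟩
  obtain ⟨Cf, hCf, hCf'⟩ := exists_line_ne_zero hf
  obtain ⟨N1, hN1⟩ := exists_regular hE
  by_cases hnh : nh (lat (VE y0 yo E) v f) 0 ⊆ {0}
  · let M := N1 + 1
    obtain ⟨Cv, hCv, hvan⟩ := exists_vanish hFfin hnh M
    obtain ⟨p, hp, ⟨c⟩⟩ := exists_cut y0 (yo none) N1 e (fun i => yo (some i)) (Cv * Cf) (mul_ne_zero hCv hCf) E E (𝟙 E)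
      hE hE hA hA hN1 hN1 hcov0 hy0
    rw [map_mul, mul_ne_zero_iff] at hp
    refine ⟨c.T, c.chain, c.cohT, ?_⟩
    obtain ⟨hcovT, -⟩ := covers_cut y0 yo c
    have hz : ∀ φ : Tp n k 0 ⟶ c.T, φ = 0 := by
      intro φ
      obtain ⟨ξ, hξ⟩ := c.lift M le_rfl (mulPow y0 φ M)
      obtain ⟨ξ', hξ'⟩ := c.lift M le_rfl (mulPow (yo none) φ M)
      have hm : etaL y0 yo E M ξ ∈ VE y0 yo E M := (mem_VE y0 yo).2 ⟨ξ, rfl⟩
      have hm' : etaL y0 yo E M ξ' ∈ VE y0 yo E M := (mem_VE y0 yo).2 ⟨ξ', rfl⟩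
      obtain ⟨a, ha⟩ := (Submodule.mem_span_range_iff_exists_fun _).1 (hspan M _ hm)
      obtain ⟨a', ha'⟩ := (Submodule.mem_span_range_iff_exists_fun _).1 (hspan M _ hm')
      obtain ⟨ξd, hξd⟩ := (mem_VE y0 yo).1 (show ((MvPolynomial.X none : R k e) ^ M • etaL y0 yo E M ξ -
          etaL y0 yo E M ξ') ∈ VE y0 yo E (M + M) from Submodule.sub_mem _
        (hFE.poly_mem (by rw [MvPolynomial.totalDegree_X_pow]) hm) (hFE.mono (Nat.le_add_right M M) hm'))
      have e1 : c.π.app (Dy y0) (eta y0 M ξ) = eta y0 0 φ := by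
        rw [← eta_comp, hξ, eta_mulPow, coef_self, one_pow, one_smul]
      have e2 : c.π.app (Dy y0) (eta y0 M ξ') = coef y0 (yo none) ^ M • eta y0 0 φ := by
        rw [← eta_comp, hξ', eta_mulPow]
      have hd0 : ξd ≫ c.π = 0 := eq_zero_of_eta y0 c.cohT hcovT.1 (by
        rw [eta_comp, show eta y0 (M + M) ξd = (show Γ(E, Dy y0) from etaL y0 yo E (M + M) ξd) from rfl, hξd]
        refine (map_sub (c.π.app (Dy y0)).hom (show Γ(E, Dy y0) from (MvPolynomial.X none : R k e) ^ M • etaL y0 yo E M ξ)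
          (eta y0 M ξ')).trans ?_
        refine sub_eq_zero.2 ((app_rho y0 yo c.π _ _).trans ?_)
        rw [map_pow, rho_X]
        show coef y0 (yo none) ^ M • c.π.app (Dy y0) (eta y0 M ξ) = c.π.app (Dy y0) (eta y0 M ξ')
        rw [e1, e2])
      have hσd := coords_of_kernel y0 yo hv hspan c (J := M + M) (by omega) hd0
        (a := (MvPolynomial.X none : R k e) ^ M • a - a')
        (by rw [hξd, smul_sub, smul_comm, ← ha, ← ha', Finset.smul_sum]; simp [sub_smul, mul_smul, Finset.sum_sub_distrib])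
      have hσa : σv p a = 0 := hvan p hp.1 a (mem_lat.2 ⟨_, by simpa using hm, ha.symm⟩) a'
        (mem_lat.2 ⟨_, by simpa using hm', ha'.symm⟩) fun l => by
          have h := congrFun hσd l
          simp only [σv, Pi.sub_apply, Pi.smul_apply, smul_eq_mul, map_sub, map_mul, map_pow, Pi.zero_apply] at h
          rw [show σ p (MvPolynomial.X none) = Polynomial.X by simp [σ]] at h
          exact sub_eq_zero.1 h
      have h0 := kills_of_coords y0 yo hvj c (𝟙 c.T) c.cohT c.assT hcovT (f' := f) (hCf' p hp.2) (ξ := ξ) (a := a)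
        (by
          show c.π.app (Dy y0) (show Γ(E, Dy y0) from f • etaL y0 yo E M ξ) = _
          rw [← ha, app_lincomb]
          rfl) hσa
      rw [Category.comp_id] at h0
      refine eq_zero_of_eta y0 c.cohT hcovT.1 ?_
      rw [← e1, ← eta_comp, h0, map_zero]
    rw [show (0 : ℤ) = ((0 : ℕ) : ℤ) from rfl, ← finrank_hom]
    haveI : Subsingleton (Tp n k 0 ⟶ c.T) := ⟨fun a b => (hz a).trans (hz b).symm⟩
    exact Module.finrank_zero_of_subsingleton
  · exfalso
    obtain ⟨jp, i, q, Φ, hjp, hi, hst, hind, J0, hpiece⟩ := exists_piece hFfin hFmono hFmul hnh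
    obtain ⟨G, ιG, hιG, hG, hQA, hkill, hWzero⟩ := exists_killed_sub y0 yo hv hvj hspan hf
      (show Stable f Φ (lat (VE y0 yo E) v f) from hst) hE hA hcov
    haveI := hιG
    have hQc : Coh.IsCoh (cokernel ιG) := (CohKernel.isCoh_kernel_cokernel hG hE ιG).2
    have hleE : ∀ J, Vsub y0 yo ιG J ≤ VE y0 yo E J := fun J m hm => by
      obtain ⟨χ, rfl⟩ := (mem_Vsub y0 yo).1 hm
      exact (mem_VE y0 yo).2 ⟨χ ≫ ιG, rfl⟩
    obtain ⟨Jg, hgrG⟩ := exists_grow y0 yo hE hA hcov hG ιG
    obtain ⟨rG, jG, vG, fG, hrG, -, hvG, hvGj, -⟩ := exists_frame hgrG fun g J m hm => htf g J m (hleE J hm)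
    choose cG hcG hcG' using fun s => hkill jG (vG s) (hvGj s)
    have hrGi : rG ≤ i := hind rG cG (Fintype.linearIndependent_iff.2 fun g hg s => by
      refine (Fintype.linearIndependent_iff.1 hvG) g ?_ s
      refine htf f (jG + Finset.univ.sup fun s => (g s).totalDegree) _ ?_ hf ?_
      · exact Submodule.sum_mem _ fun s _ => hFE.poly_mem
          (Finset.le_sup (f := fun s => (g s).totalDegree) (Finset.mem_univ s)) (hleE _ (hvGj s))
      · rw [Finset.smul_sum]
        simp only [smul_comm f, hcG, Finset.smul_sum, smul_smul]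
        rw [Finset.sum_comm]
        refine Finset.sum_eq_zero fun l _ => ?_
        rw [← Finset.sum_smul, show ∑ s, g s * cG s l = 0 by simpa using congrFun hg l, zero_smul]) hcG'
    let Q := cokernel ιG
    let qQ : E ⟶ Q := cokernel.π ιG
    obtain ⟨fq, Ψ, hfq, hΨ⟩ := exists_quasi Φ
    obtain ⟨Cq, hCq, hCq'⟩ := exists_line_ne_zero (mul_ne_zero hfq hf)
    obtain ⟨N2, hN2⟩ := exists_regular hQc
    let N := N1 + N2
    obtain ⟨Jq, hJq⟩ := exists_lift hE hQc qQ
    let α := D1^[e + 1] (chiP G) 0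
    let β := D1^[e] (chiP G) 0
    have key : ∀ J, max (max J0 (N + 2)) Jq ≤ J → (i : ℤ) * ((J - jp + 1 : ℕ) : ℤ) ≤ β + (J : ℤ) * α := by
      intro J hJ
      simp only [max_le_iff] at hJ
      obtain ⟨⟨hJ0, hJN⟩, hJq'⟩ := hJ
      obtain ⟨hjJ, Cp, hCp, hC⟩ := hpiece J hJ0
      obtain ⟨p, hp, ⟨c⟩⟩ := exists_cut y0 (yo none) N e (fun i => yo (some i)) (Cp * Cf * Cq)
        (mul_ne_zero (mul_ne_zero hCp hCf) hCq) E Q qQ hE hQc hA hQA
        (hN1.of_le (by omega)) (hN2.of_le (by omega)) hcov0 hy0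
      simp only [map_mul, mul_ne_zero_iff] at hp
      obtain ⟨m, hm, hli, hdot⟩ := hC p hp.1.1
      obtain ⟨hcovT, hcovR⟩ := covers_cut y0 yo c
      choose x hx hxm using fun s => mem_lat.1 (hm s)
      choose ξ hξ using fun s => (mem_VE y0 yo).1 (hx s)
      have hvan : ∀ s, ξ s ≫ c.π ≫ c.q1 = 0 := by
        intro s
        let w : Fin r → R k e := fun l => ∑ b, Ψ l b * ∑ l', Φ b l' * m s l'
        refine kills_of_coords y0 yo hvj c c.q1 c.cohR c.assR hcovR (f' := fq * f) (hCq' p hp.2) (a := w) ?_ ?_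
        · have hd : ∀ a, dot (Φ a) (fq • m s - w) = 0 := fun a => by
            simp only [dot, Pi.sub_apply, Pi.smul_apply, smul_eq_mul, mul_sub, Finset.sum_sub_distrib]
            rw [hΨ (m s) a, Finset.mul_sum, ← Finset.sum_sub_distrib]
            exact Finset.sum_eq_zero fun l _ => by ring
          have h0 := hWzero _ hd (qQ ≫ c.π') (by rw [← Category.assoc, cokernel.condition, zero_comp])
          rw [← c.comm] at h0
          rw [hξ, mul_smul, hxm, Finset.smul_sum]
          simp only [smul_smul]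
          refine ((congrArg (fun z => c.q1.app (Dy y0) z) (app_lincomb y0 yo c.π (fun l => fq * m s l))).trans ?_)
          rw [map_sum]
          simp only [Scheme.Modules.Hom.app_smul]
          rw [← sub_eq_zero, ← Finset.sum_sub_distrib]
          refine Eq.trans (Finset.sum_congr rfl fun l _ => ?_) h0
          rw [Pi.sub_apply, Pi.smul_apply, smul_eq_mul, map_sub, sub_smul]
          rfl
        · funext l
          simp only [σv, w, map_sum, map_mul, Pi.zero_apply]
          refine Finset.sum_eq_zero fun a _ => mul_eq_zero_of_right _ ?_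
          simpa [dot, σv] using hdot s a
      have hind' : LinearIndependent k fun s => ξ s ≫ c.π := by
        refine Fintype.linearIndependent_iff.2 fun g hg s => ?_
        refine (Fintype.linearIndependent_iff.1 hli) g ?_ s
        have h0 := coords_of_kernel y0 yo hv hspan c (J := J) (by omega) (ξ := ∑ s, g s • ξ s)
          (by rw [Preadditive.sum_comp]; simpa only [Linear.smul_comp] using hg)
          (a := ∑ s, g s • m s) (by
            rw [map_sum, lattice_sum, Finset.smul_sum]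
            refine Finset.sum_congr rfl fun s _ => ?_
            rw [map_smul, hξ, smul_comm, hxm])
        rw [← h0]
        funext l
        simp [σv, Finset.sum_apply, map_sum]
      haveI := finite_hom c.cohT J
      haveI := finite_hom c.cohR J
      let P : (Tp n k J ⟶ c.T) →ₗ[k] (Tp n k J ⟶ c.R1) := Linear.rightComp k (Tp n k J) c.q1
      have hP : LinearMap.range P = ⊤ := LinearMap.range_eq_top.2 fun χ => by
        obtain ⟨ξ1, rfl⟩ := c.liftR J (by omega) χ
        obtain ⟨ξ2, rfl⟩ := hJq J hJq' ξ1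
        refine ⟨ξ2 ≫ c.π, ?_⟩
        show (ξ2 ≫ c.π) ≫ c.q1 = _
        rw [Category.assoc, Category.assoc, c.comm]
      have hker : ∀ s, ξ s ≫ c.π ∈ LinearMap.ker P := fun s => by
        show (ξ s ≫ c.π) ≫ c.q1 = 0
        rw [Category.assoc]
        exact hvan s
      have hli' : LinearIndependent k fun s => (⟨ξ s ≫ c.π, hker s⟩ : LinearMap.ker P) :=
        LinearIndependent.of_comp (LinearMap.ker P).subtype hind'
      have hcard := hli'.fintype_card_le_finrank
      rw [Fintype.card_prod, Fintype.card_fin, Fintype.card_fin] at hcard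
      have h1 := LinearMap.finrank_range_add_finrank_ker P
      rw [hP, finrank_top] at h1
      have hT := finrank_hom_of_regular c.regT (show N ≤ J by omega)
      have hR := finrank_hom_of_regular c.regR (show N ≤ J by omega)
      rw [c.chiT, chiP_kernel_part hE hG ιG] at hT
      rw [c.chiR] at hR
      have hR' : (Module.finrank k (Tp n k J ⟶ c.R1) : ℤ) = D1^[e] (chiP (cokernel ιG)) J := hR
      have hlin := (chiP_diff_lin hG ((Groth.L03.Euler.topologicalKrullDim_set_mono (support_subset_of_mono ιG)).trans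
        (dim_le_of_assDim hE hA)) (J : ℤ)).1
      have hc' : (i : ℤ) * ((J - jp + 1 : ℕ) : ℤ) ≤ (Module.finrank k (LinearMap.ker P) : ℤ) := by exact_mod_cast hcard
      simp only [α, β]
      omega
    have hJ : ∀ J : ℕ, max (max J0 (N + 2)) Jq ≤ J → jp ≤ J := fun J hJ =>
      (hpiece J (((le_max_left _ _).trans (le_max_left _ _)).trans hJ)).1
    have hαi : α = i := by
      refine le_antisymm (by simp only [α]; rw [← hrG]; exact_mod_cast hrGi) ?_
      by_contra hlt
      let J := max (max (max J0 (N + 2)) Jq) (β + (i : ℤ) * (jp : ℤ) + 1).toNat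
      have h := key J (le_max_left _ _)
      have := hJ J (le_max_left _ _)
      have hJb : β + (i : ℤ) * (jp : ℤ) + 1 ≤ (J : ℤ) := (Int.self_le_toNat _).trans (Int.ofNat_le.2 (le_max_right _ _))
      push_cast [Nat.cast_sub this] at h
      nlinarith
    have hβ : (i : ℤ) * (1 - jp) ≤ β := by
      have h := key _ le_rfl
      have := hJ _ le_rfl
      push_cast [Nat.cast_sub this] at h
      rw [hαi] at h
      nlinarith
    have hG0 : ¬ IsZero G := fun hz => by
      have : rG = 0 := by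
        by_contra hne
        obtain ⟨χ, hχ⟩ := (mem_Vsub y0 yo).1 (hvGj ⟨0, Nat.pos_of_ne_zero hne⟩)
        exact hvG.ne_zero _ (by rw [← hχ, hz.eq_of_tgt χ 0, zero_comp, map_zero])
      have : α = 0 := by simp only [α]; rw [← hrG, this]; rfl
      omega
    have hslope := hb G ιG hιG hG hG0
    have : D1^[e + 1] (chiP E) 0 = (r : ℤ) := hr.symm
    simp only [α, β] at hαi hβ
    rw [hαi] at hslope
    have hjp' : (jp : ℤ) + 1 ≤ r := by exact_mod_cast (by omega : jp + 1 ≤ r)
    nlinarith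

end Groth.L11.GM
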