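import Groth.Agent.L11.GM.Twist
import Groth.Agent.L11.GM.Count
import Groth.Agent.L11.Lemma179.Finite
import Groth.Agent.L16.DevissageKilled

/-!
# The sections of twists in a chart as a lattice
-/

set_option autoImplicit false
set_option linter.style.haveILetI false
set_option linter.unusedSectionVars false
set_option backward.isDefEq.respectTransparency false
set_option backward.isDefEq.respectTransparency.types false

universe u

open CategoryTheory CategoryTheory.Limits AlgebraicGeometry TopologicalSpace Opposite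

noncomputable section

namespace Groth.L11.GM

open Groth.L22.Reg Groth.L11.Lemma179
open Groth.L00.Tensor (tensorRightF)
open Groth.L16
open Groth.L11.Slope (D1)

variable {k : Type u} [Field k] {n : ℕ}

theorem isCoh_Tp : ∀ j : ℕ, Coh.IsCoh (Tp n k j)
  | 0 => by
    haveI := Groth.L11.Slope.noetherian_proj (k := k) (n := n)
    exact CohClosedPush.isCoh_structure
  | j + 1 => isCoh_tw (isCoh_Tp j) (-1)

theorem isCoh_image {A B : (Pn n k).Modules} (hA : Coh.IsCoh A) (hB : Coh.IsCoh B) (φ : A ⟶ B) :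
    Coh.IsCoh (Abelian.image φ) := by
  haveI := Groth.L11.Slope.noetherian_proj (k := k) (n := n)
  haveI := hA.1
  haveI := hB.1
  haveI : Coh.IsQCoh (cokernel φ) := Devissage.isQCoh_cokernel φ
  exact CohSupport.isCoh_kernel hB (cokernel.π φ)

theorem exists_finrank_hom {M : (Pn n k).Modules} (hM : Coh.IsCoh M) :
    ∃ J₀ : ℕ, ∀ J : ℕ, J₀ ≤ J → (Module.finrank k (Tp n k J ⟶ M) : ℤ) = chiP M J := by
  obtain ⟨d, hd⟩ := ProjSpace.exists_vanishing n k M hM
  refine ⟨d, fun J hJ => ?_⟩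
  rw [finrank_hom, chiP_eq_h0t fun q hq => subsingleton_iso (Groth.L00.Tensor.tensorComm _ _) q (hd J hJ q hq)]

/-- Maps from very negative twists lift along epimorphisms. -/
theorem exists_lift {A B : (Pn n k).Modules} (hA : Coh.IsCoh A) (hB : Coh.IsCoh B) (g : A ⟶ B) [Epi g] :
    ∃ J₀ : ℕ, ∀ J : ℕ, J₀ ≤ J → ∀ φ : Tp n k J ⟶ B, ∃ ψ : Tp n k J ⟶ A, ψ ≫ g = φ := by
  have hK : Coh.IsCoh (kernel g) := (CohKernel.isCoh_kernel_cokernel hA hB g).1
  obtain ⟨a, ha⟩ := exists_finrank_hom hA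
  obtain ⟨b, hb⟩ := exists_finrank_hom hB
  obtain ⟨c, hc⟩ := exists_finrank_hom hK
  refine ⟨a + b + c, fun J hJ φ => ?_⟩
  haveI := finite_hom hA J
  haveI := finite_hom hB J
  haveI := finite_hom hK J
  let G : (Tp n k J ⟶ A) →ₗ[k] (Tp n k J ⟶ B) := Linear.rightComp k (Tp n k J) g
  let K : (Tp n k J ⟶ kernel g) →ₗ[k] (Tp n k J ⟶ A) := Linear.rightComp k (Tp n k J) (kernel.ι g)
  have hker : LinearMap.ker G ≤ LinearMap.range K := fun ψ hψ =>
    ⟨kernel.lift g ψ hψ, kernel.lift_ι g ψ hψ⟩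
  have hadd := chiP_add (S := ShortComplex.mk (kernel.ι g) g (kernel.condition g))
    { exact := ShortComplex.exact_kernel g } hK hA hB (J : ℤ)
  have h1 := LinearMap.finrank_range_add_finrank_ker G
  have h2 := (Submodule.finrank_mono hker).trans (LinearMap.finrank_range_le K)
  have h3 := Submodule.finrank_le (LinearMap.range G)
  have ha' := ha J (by omega)
  have hb' := hb J (by omega)
  have hc' := hc J (by omega)
  simp only at hadd
  have htop : LinearMap.range G = ⊤ := Submodule.eq_top_of_finrank_eq (by omega)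
  exact LinearMap.range_eq_top.1 htop φ

/-- Forms without common zero on the support generate the high twists. -/
theorem exists_gen {G : (Pn n k).Modules} (hG : Coh.IsCoh G) {m : ℕ} (y : Fin m → Form n k)
    (hy : ∀ x ∈ CohB1.support G, ∃ l, x ∈ Proj.basicOpen (CohB1.polyGrading n k) (y l).1) :
    ∃ J₀ : ℕ, ∀ J : ℕ, J₀ ≤ J → ∀ φ : Tp n k (J + 1) ⟶ G,
      ∃ ψ : Fin m → (Tp n k J ⟶ G), φ = ∑ l, mulF (y l) G J (ψ l) := by
  haveI := Groth.L11.Slope.noetherian_proj (k := k) (n := n)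
  let g : (⨁ fun _ : Fin m => (tensorRightF (Lm n k)).obj G) ⟶ G :=
    biproduct.desc fun l => mu (sigmaF (y l)) G
  have hA : Coh.IsCoh (⨁ fun _ : Fin m => (tensorRightF (Lm n k)).obj G) :=
    CohSupport.isCoh_of_iso (biproduct.isoCoproduct _).symm (Devissage.isCoh_sigma _ fun _ => isCoh_tw hG (-1))
  haveI : Epi g := by
    rw [Groth.L21.Mod.epi_iff_stalk_surjective]
    intro x
    by_cases hx : x ∈ CohB1.support G
    · obtain ⟨l, hl⟩ := hy x hx
      intro v
      obtain ⟨a, rfl⟩ := (bijective_mu x (sigmaF (y l)) (bijective_sigmaF (y l) hl) G).2 v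
      refine ⟨sm x (biproduct.ι (fun _ : Fin m => (tensorRightF (Lm n k)).obj G) l) a, ?_⟩
      show sm x g (sm x (biproduct.ι _ l) a) = _
      rw [← sm_comp, biproduct.ι_desc]
    · intro v
      haveI : Subsingleton (G.presheaf.stalk x) := not_not.1 hx
      exact ⟨sm x (0 : G ⟶ _) v, Subsingleton.elim (α := G.presheaf.stalk x) _ _⟩
  obtain ⟨J₀, hJ₀⟩ := exists_lift hA hG g
  refine ⟨J₀, fun J hJ φ => ?_⟩
  obtain ⟨a⟩ := nonempty_O_add (n := n) (R := k) (show (1 : ℤ) + -1 = 0 by norm_num)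
  obtain ⟨z⟩ := nonempty_O_zero n k
  haveI : (tensorRightF (Lm n k)).IsEquivalence :=
    inferInstanceAs (Groth.L21.Bundle.twistEquiv (L := Lm n k) (L' := O' n k 1) (a ≪≫ z)).functor.IsEquivalence
  obtain ⟨χ, hχ⟩ := hJ₀ (J + 1) (by omega) φ
  refine ⟨fun l => (tensorRightF (Lm n k)).preimage (χ ≫ biproduct.π _ l), ?_⟩
  have hterm : ∀ l, mulF (y l) G J ((tensorRightF (Lm n k)).preimage (χ ≫ biproduct.π _ l)) =
      (χ ≫ biproduct.π _ l) ≫ mu (sigmaF (y l)) G := fun l => by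
    rw [mulF_apply, ← mu_natural, Functor.map_preimage]
  simp only [hterm, Category.assoc, ← Preadditive.comp_sum]
  rw [← hχ]
  refine congrArg (χ ≫ ·) (biproduct.hom_ext' _ _ fun l => ?_)
  rw [biproduct.ι_desc, Preadditive.comp_sum, Finset.sum_eq_single l]
  · rw [biproduct.ι_π_self_assoc]
  · intro b _ hb
    rw [biproduct.ι_π_ne_assoc _ (Ne.symm hb), zero_comp]
  · simp

section Chart

variable (y0 : Form n k)

/-- Vanishing on the chart is vanishing, when the chart contains the associated points. -/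
theorem eq_zero_of_eta {G : (Pn n k).Modules} (hG : Coh.IsCoh G)
    (hy0 : ∀ x, Curv2.IsAssPoint G x → x ∈ Dy y0) {j : ℕ} {φ : Tp n k j ⟶ G} (h : eta y0 j φ = 0) : φ = 0 := by
  haveI := Groth.L11.Slope.noetherian_proj (k := k) (n := n)
  have happ : ∀ (V : (Pn n k).Opens) (hV : V ≤ Dy y0) (m : Γ(Tp n k j, V)), φ.app V m = 0 := by
    intro V hV m
    obtain ⟨a, rfl⟩ := (isFrame_theta y0 j).exists_coeff hV m
    rw [Scheme.Modules.Hom.app_smul]
    refine (congrArg (a • ·) ?_).trans (smul_zero a)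
    have := congr($(φ.mapPresheaf.naturality (homOfLE hV).op) (theta y0 j))
    refine this.trans ((congrArg (fun z => G.presheaf.map (homOfLE hV).op z) h).trans ?_)
    exact map_zero _
  have hst : ∀ x ∈ Dy y0, ∀ v, sm x φ v = 0 := by
    intro x hx v
    obtain ⟨U, hxU, t, rfl⟩ := TopCat.Presheaf.exists_germ_eq (Tp n k j).presheaf v
    rw [← Groth.L20.ModStalk.germ_rs (Tp n k j) (inf_le_left : U ⊓ Dy y0 ≤ U) ⟨hxU, hx⟩ t]
    refine (Groth.L21.RR.st_germ φ (U := U ⊓ Dy y0) (x := x) ⟨hxU, hx⟩ _).trans ?_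
    rw [happ _ inf_le_right, map_zero]
  let i : Abelian.image φ ⟶ G := Abelian.image.ι φ
  have hK : Coh.IsCoh (Abelian.image φ) := isCoh_image (isCoh_Tp j) hG φ
  haveI := hK.1
  have hno : ∀ x, ¬ Curv2.IsAssPoint (Abelian.image φ) x := fun x hx => by
    refine mem_support_of_isAssPoint hx (subsingleton_of_forall_eq 0 fun v => ?_)
    obtain ⟨w, rfl⟩ := (Groth.L21.Mod.epi_iff_stalk_surjective (Abelian.factorThruImage φ)).1 inferInstance x v
    refine (Groth.L21.Mod.mono_iff_stalk_injective i).1 inferInstance x ?_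
    show sm x i (sm x (Abelian.factorThruImage φ) w) = sm x i 0
    rw [← sm_comp, Abelian.image.fac, hst x (hy0 x (sub_isAssPoint i hx)), sm_map_zero]
  haveI : Mono (0 : Abelian.image φ ⟶ Abelian.image φ) :=
    Groth.L22.EnrSev.mono_of_injective_ass _ fun x hx => absurd hx (hno x)
  rw [← Abelian.image.fac φ, (IsZero.of_mono_zero (Abelian.image φ) (Abelian.image φ)).eq_of_src (Abelian.image.ι φ) 0,
    comp_zero]

variable {e : ℕ} (yo : Option (Fin e) → Form n k)

/-- Polynomials in the dehomogenised coordinates. -/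
def rho : R k e →+* Γ(Pn n k, Dy y0) :=
  MvPolynomial.eval₂Hom (scalD y0) fun o => coef y0 (yo o)

theorem rho_X (o : Option (Fin e)) : rho y0 yo (MvPolynomial.X o) = coef y0 (yo o) :=
  MvPolynomial.eval₂Hom_X' _ _ _

theorem rho_C (a : k) : rho y0 yo (MvPolynomial.C a) = scalD y0 a := MvPolynomial.eval₂Hom_C _ _ _

/-- Sections on the chart as a module over the coordinates. -/
def Md (y0 : Form n k) (yo : Option (Fin e) → Form n k) (E : (Pn n k).Modules) : Type u := Γ(E, Dy y0)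

/-- A section on the chart. -/
def toMd {E : (Pn n k).Modules} : Γ(E, Dy y0) → Md y0 yo E := id

variable (E : (Pn n k).Modules)

instance : AddCommGroup (Md y0 yo E) := inferInstanceAs (AddCommGroup Γ(E, Dy y0))

instance : Module (R k e) (Md y0 yo E) :=
  letI : Module Γ(Pn n k, Dy y0) (Md y0 yo E) := inferInstanceAs (Module Γ(Pn n k, Dy y0) Γ(E, Dy y0))
  Module.compHom _ (rho y0 yo)

instance : Module k (Md y0 yo E) :=
  letI : Module Γ(Pn n k, Dy y0) (Md y0 yo E) := inferInstanceAs (Module Γ(Pn n k, Dy y0) Γ(E, Dy y0))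
  Module.compHom _ (scalD y0)

theorem md_smul (p : R k e) (m : Md y0 yo E) :
    p • m = toMd y0 yo (rho y0 yo p • (show Γ(E, Dy y0) from m)) := rfl

theorem md_ksmul (a : k) (m : Md y0 yo E) :
    a • m = toMd y0 yo (scalD y0 a • (show Γ(E, Dy y0) from m)) := rfl

instance : IsScalarTower k (R k e) (Md y0 yo E) := ⟨fun a p m => by
  rw [md_smul, md_ksmul, md_smul, MvPolynomial.smul_eq_C_mul, map_mul, rho_C]
  exact mul_smul _ _ (show Γ(E, Dy y0) from m)⟩

/-- Multiplication by a dehomogenised form. -/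
def mulC (g : Form n k) : Md y0 yo E →ₗ[R k e] Md y0 yo E where
  toFun m := toMd y0 yo (coef y0 g • (show Γ(E, Dy y0) from m))
  map_add' a b := smul_add (coef y0 g) (show Γ(E, Dy y0) from a) (show Γ(E, Dy y0) from b)
  map_smul' p m := by
    rw [RingHom.id_apply, md_smul, md_smul]
    exact smul_comm (coef y0 g) (rho y0 yo p) (show Γ(E, Dy y0) from m)

/-- Evaluation on the frames, linearly. -/
def etaL (j : ℕ) : (Tp n k j ⟶ E) →ₗ[k] Md y0 yo E where
  toFun φ := toMd y0 yo (eta y0 j φ)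
  map_add' a b := map_add (eta y0 j) a b
  map_smul' a φ := eta_smul y0 a φ

variable {E}

theorem etaL_mulF (g : Form n k) {j : ℕ} (φ : Tp n k j ⟶ E) :
    etaL y0 yo E (j + 1) (mulF g E j φ) = mulC y0 yo E g (etaL y0 yo E j φ) := eta_mulF y0 g φ

theorem X_smul (o : Option (Fin e)) (m : Md y0 yo E) :
    (MvPolynomial.X o : R k e) • m = mulC y0 yo E (yo o) m := by
  rw [md_smul, rho_X]
  rfl

theorem mulC_self (m : Md y0 yo E) : mulC y0 yo E y0 m = m := by
  show toMd y0 yo (coef y0 y0 • (show Γ(E, Dy y0) from m)) = m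
  rw [coef_self]
  exact one_smul _ (show Γ(E, Dy y0) from m)

/-- The sections of a subobject in a degree. -/
def Vsub {G : (Pn n k).Modules} (i : G ⟶ E) (J : ℕ) : Submodule k (Md y0 yo E) :=
  LinearMap.range ((etaL y0 yo E J).comp (Linear.rightComp k (Tp n k J) i))

theorem mem_Vsub {G : (Pn n k).Modules} {i : G ⟶ E} {J : ℕ} {m : Md y0 yo E} :
    m ∈ Vsub y0 yo i J ↔ ∃ φ : Tp n k J ⟶ G, etaL y0 yo E J (φ ≫ i) = m := Iff.rfl

theorem mulC_mem_Vsub {G : (Pn n k).Modules} {i : G ⟶ E} (g : Form n k) {J : ℕ} {m : Md y0 yo E}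
    (hm : m ∈ Vsub y0 yo i J) : mulC y0 yo E g m ∈ Vsub y0 yo i (J + 1) := by
  obtain ⟨φ, rfl⟩ := (mem_Vsub y0 yo).1 hm
  refine (mem_Vsub y0 yo).2 ⟨mulF g G J φ, ?_⟩
  rw [← etaL_mulF, mulF_comp]

theorem filt_Vsub {G : (Pn n k).Modules} (hG : Coh.IsCoh G) (i : G ⟶ E) : Filt (e := e) (Vsub y0 yo i) where
  mono := monotone_nat_of_le_succ fun J m hm => by
    have := mulC_mem_Vsub y0 yo y0 hm
    rwa [mulC_self] at this
  mul J o m hm := by
    rw [X_smul]
    exact mulC_mem_Vsub y0 yo (yo o) hm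
  fin J := by
    haveI := finite_hom hG J
    rw [Vsub, LinearMap.range_eq_map]
    exact Submodule.FG.map _ Module.Finite.fg_top

/-- A form of the cover misses nothing of the support. -/
def Covers (y0 : Form n k) (yo : Option (Fin e) → Form n k) (E : (Pn n k).Modules) : Prop :=
  (∀ x, Curv2.IsAssPoint E x → x ∈ Dy y0) ∧
    ∀ x ∈ CohB1.support E, x ∈ Dy y0 ∨ ∃ o, x ∈ Proj.basicOpen (CohB1.polyGrading n k) (yo o).1

theorem injective_etaL (hE : Coh.IsCoh E) (hc : Covers y0 yo E) (J : ℕ) : Function.Injective (etaL y0 yo E J) :=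
  (injective_iff_map_eq_zero _).2 fun _ h => eq_zero_of_eta y0 hE hc.1 h

/-- The sections of a subobject grow like its polynomial. -/
theorem exists_grow (hE : Coh.IsCoh E) (hA : AssDim E (e + 1)) (hc : Covers y0 yo E) {G : (Pn n k).Modules}
    (hG : Coh.IsCoh G) (i : G ⟶ E) [Mono i] :
    ∃ J₀ : ℕ, Grow (e := e) (Vsub y0 yo i) J₀ (chiP G) (D1^[e + 1] (chiP G) 0) := by
  classical
  obtain ⟨a, ha⟩ := exists_finrank_hom hG
  obtain ⟨q, y, hy⟩ : ∃ (q : ℕ) (y : Fin q → Form n k), (∀ l, y l = y0 ∨ ∃ o, y l = yo o) ∧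
      (∀ x ∈ CohB1.support G, ∃ l, x ∈ Proj.basicOpen (CohB1.polyGrading n k) (y l).1) := by
    refine ⟨_, (Fin.cons y0 fun l => yo ((Fintype.equivFin (Option (Fin e))).symm l) :
      Fin (Fintype.card (Option (Fin e)) + 1) → Form n k),
      Fin.cases (Or.inl rfl) fun l => Or.inr ⟨_, Fin.cons_succ _ _ _⟩, fun x hx => ?_⟩
    rcases hc.2 x (support_subset_of_mono i hx) with h | ⟨o, h⟩
    · exact ⟨0, h⟩
    · exact ⟨(Fintype.equivFin _ o).succ, by simpa using h⟩
  obtain ⟨b, hb⟩ := exists_gen hG y hy.2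
  refine ⟨a + b, ⟨filt_Vsub y0 yo hG i, fun J hJ m hm => ?_, fun J hJ => ?_, fun t => ?_⟩⟩
  · obtain ⟨φ, rfl⟩ := (mem_Vsub y0 yo).1 hm
    obtain ⟨ψ, rfl⟩ := hb J (by omega) φ
    rw [Preadditive.sum_comp, map_sum]
    refine Submodule.sum_mem _ fun l _ => ?_
    rw [← mulF_comp, etaL_mulF]
    have hmem : etaL y0 yo E J (ψ l ≫ i) ∈ Vsub y0 yo i J := ⟨ψ l, rfl⟩
    rcases hy.1 l with h | ⟨o, h⟩
    · rw [h, mulC_self]
      exact Submodule.mem_sup_left hmem
    · rw [h, ← X_smul]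
      exact Submodule.mem_sup_right (Submodule.mem_iSup_of_mem o ⟨_, hmem, rfl⟩)
  · rw [← ha J (by omega)]
    have hinj : Function.Injective ((etaL y0 yo E J).comp (Linear.rightComp k (Tp n k J) i)) :=
      (injective_etaL y0 yo hE hc J).comp fun φ ψ h => (cancel_mono i).1 h
    exact_mod_cast LinearMap.finrank_range_of_inj hinj
  · exact (chiP_diff_lin hG ((Groth.L03.Euler.topologicalKrullDim_set_mono (support_subset_of_mono i)).trans
      (dim_le_of_assDim hE hA)) t).2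

/-- A polynomial kills no section. -/
theorem torsion_free (hE : Coh.IsCoh E) (hA : AssDim E (e + 1)) (hc : Covers y0 yo E) (g : R k e) (J : ℕ)
    (m : Md y0 yo E) (hm : m ∈ Vsub y0 yo (𝟙 E) J) (hg : g ≠ 0) (h0 : g • m = 0) : m = 0 := by
  obtain ⟨φ, rfl⟩ := (mem_Vsub y0 yo).1 hm
  rw [Category.comp_id] at h0 ⊢
  let i : Abelian.image φ ⟶ E := Abelian.image.ι φ
  have hG : Coh.IsCoh (Abelian.image φ) := isCoh_image (isCoh_Tp J) hE φ
  obtain ⟨J₁, hJ₁⟩ := exists_lift (isCoh_Tp J) hG (Abelian.factorThruImage φ)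
  obtain ⟨J₀, hgr⟩ := exists_grow y0 yo hE hA hc hG i
  have hkill : ∀ x ∈ Vsub y0 yo i (J₀ + J₁), g • x = 0 := by
    intro x hx
    obtain ⟨χ, rfl⟩ := (mem_Vsub y0 yo).1 hx
    obtain ⟨ξ, rfl⟩ := hJ₁ _ (by omega) χ
    obtain ⟨a, ha⟩ := eta_precomp y0 (M := E) ξ
    rw [Category.assoc, Abelian.image.fac]
    show g • toMd y0 yo (eta y0 (J₀ + J₁) (ξ ≫ φ)) = 0
    rw [ha, md_smul]
    show toMd y0 yo (rho y0 yo g • (a • eta y0 J φ : Γ(E, Dy y0))) = 0
    rw [smul_comm]
    have h0' : (rho y0 yo g • eta y0 J φ : Γ(E, Dy y0)) = 0 := h0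
    rw [h0', smul_zero]
    rfl
  have hgr' : Grow (e := e) (Vsub y0 yo i) (J₀ + J₁) (chiP (Abelian.image φ))
      (D1^[e + 1] (chiP (Abelian.image φ)) 0) :=
    ⟨hgr.toFilt, fun J hJ => hgr.gen J (by omega), fun J hJ => hgr.card J (by omega), hgr.top⟩
  have hle := top_nonpos_of_killed hgr' hg hkill
  by_cases hz : IsZero (Abelian.image φ)
  · rw [← Abelian.image.fac φ, hz.eq_of_src (Abelian.image.ι φ) 0, comp_zero, map_zero]
  · have := one_le_chiP_diff hG (assDim_of_mono i hA) hz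
    omega

end Chart

end Groth.L11.GM
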