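import Groth.Agent.L22.Reg.Mumford
import Groth.Agent.L21.CurveDual.Twist
import Groth.Agent.L16.ProjSpace.Sections
import Groth.Agent.L21.Mod.Locality
import Groth.Agent.L20.ResDescent
import Groth.Agent.L16.HomSh.ModPowSect
import Groth.Agent.L11.Slope.Main

/-!
# Sections of twists as homomorphisms from iterated twists, read off in a chart
-/

set_option autoImplicit false
set_option linter.style.haveILetI false
set_option linter.unusedSectionVars false
set_option backward.isDefEq.respectTransparency false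
set_option backward.isDefEq.respectTransparency.types false

universe u

open CategoryTheory CategoryTheory.Limits AlgebraicGeometry TopologicalSpace Opposite

noncomputable section

namespace Groth.L11.GM

open Groth.L22.Reg
open Groth.L00.Tensor (tensorRightF tensorIso tensorUnitLeft tensorUnitRight tensorMap tensorComm)
open Groth.L18.GenLoc (tens tens_smul_left tens_smul_right isFrame_tens secOf app_eq)
open Groth.L18.Frame (rs ro rs_rs rs_self rs_smul IsFrame)
open Groth.L16

variable {k : Type u} [Field k] {n : ℕ}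

/-- Projective space. -/
abbrev Pn (n : ℕ) (k : Type u) [Field k] : Scheme.{u} := CohB1.ProjSpace n k

/-- `O(-1)`. -/
abbrev Lm (n : ℕ) (k : Type u) [Field k] : (Pn n k).Modules := O' n k (-1)

/-- `O(-j)` as an iterated tensor product. -/
def Tp (n : ℕ) (k : Type u) [Field k] : ℕ → (Pn n k).Modules
  | 0 => Coh.structureModule (Pn n k)
  | j + 1 => (tensorRightF (Lm n k)).obj (Tp n k j)

/-- Multiplication by a linear form. -/
def mulF (f : Form n k) (M : (Pn n k).Modules) (j : ℕ) : (Tp n k j ⟶ M) →ₗ[k] (Tp n k (j + 1) ⟶ M) :=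
  Linear.leftComp k M (mu (sigmaF f) (Tp n k j))

theorem mulF_apply (f : Form n k) {M : (Pn n k).Modules} {j : ℕ} (φ : Tp n k j ⟶ M) :
    mulF f M j φ = mu (sigmaF f) (Tp n k j) ≫ φ := rfl

theorem mulF_comp (f : Form n k) {M N : (Pn n k).Modules} (g : M ⟶ N) {j : ℕ} (φ : Tp n k j ⟶ M) :
    mulF f N j (φ ≫ g) = mulF f M j φ ≫ g := by
  rw [mulF_apply, mulF_apply, Category.assoc]

section Dim

/-- Twisting is an equivalence, linearly. -/
def homTw (e : CohB1.tensorMod (O' n k 1) (Lm n k) ≅ Coh.structureModule (Pn n k)) (A B : (Pn n k).Modules) :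
    ((tensorRightF (Lm n k)).obj A ⟶ B) ≃ₗ[k] (A ⟶ tw' B 1) :=
  { (Groth.L21.Bundle.twistEquiv (L := Lm n k) (L' := O' n k 1) e).toAdjunction.homEquiv A B with
    map_add' := fun a b => by
      haveI : (Groth.L21.Bundle.twistEquiv (L := Lm n k) (L' := O' n k 1) e).inverse.Additive :=
        Functor.additive_of_preserves_binary_products _
      simp [Adjunction.homEquiv_unit, Functor.map_add]
    map_smul' := fun c a => by
      simp only [Equiv.toFun_as_coe, Adjunction.homEquiv_unit, RingHom.id_apply]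
      have h1 : (Groth.L21.Bundle.twistEquiv (L := Lm n k) (L' := O' n k 1) e).inverse.map (c • a) =
          c • (Groth.L21.Bundle.twistEquiv (L := Lm n k) (L' := O' n k 1) e).inverse.map a := by
        rw [KLin.smul_def, KLin.smul_def, Functor.map_comp]
        exact congrArg (· ≫ _) (Groth.L17.BC.TensorA.tensor_smulModΓ (O' n k 1) _ _)
      rw [h1]
      exact Linear.comp_smul _ _ _ _ _ _ }

theorem nonempty_hom_equiv : ∀ (j : ℕ) (M : (Pn n k).Modules),
    Nonempty ((Tp n k j ⟶ M) ≃ₗ[k] Coh.HH (Pn n k) (tw' M (j : ℤ)) 0)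
  | 0, M => by
    haveI := isProper_over_proj (k := k) (n := n)
    obtain ⟨e⟩ := nonempty_tw_zero M
    exact ⟨(Linear.homCongr k (Iso.refl _) e.symm).trans
      (LinearEquiv.ofBijective _ (Groth.L21.CurveDual.homH0_bijective (k := k) (tw' M 0)))⟩
  | j + 1, M => by
    obtain ⟨a⟩ := nonempty_O_add (n := n) (R := k) (show (1 : ℤ) + -1 = 0 by norm_num)
    obtain ⟨z⟩ := nonempty_O_zero n k
    obtain ⟨E⟩ := nonempty_hom_equiv j (tw' M 1)
    obtain ⟨c⟩ := nonempty_tw_tw M (show (1 : ℤ) + (j : ℤ) = ((j + 1 : ℕ) : ℤ) by push_cast; ring)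
    exact ⟨(homTw (a ≪≫ z) _ M).trans (E.trans
      (LinearEquiv.ofBijective (Groth.L21.RR.hk k c.hom 0) ⟨fun x y h => by
        have h2 := congrArg (Groth.L16.CohLinear.hmap c.inv 0) h
        change Groth.L16.CohLinear.hmap c.inv 0 (Groth.L16.CohLinear.hmap c.hom 0 x) =
          Groth.L16.CohLinear.hmap c.inv 0 (Groth.L16.CohLinear.hmap c.hom 0 y) at h2
        rwa [← Groth.L16.CohLinear.hmap_comp, ← Groth.L16.CohLinear.hmap_comp, c.hom_inv_id,
          Groth.L16.CohLinear.hmap_id, Groth.L16.CohLinear.hmap_id] at h2,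
        fun y => ⟨Groth.L16.CohLinear.hmap c.inv 0 y, by
          change Groth.L16.CohLinear.hmap c.hom 0 (Groth.L16.CohLinear.hmap c.inv 0 y) = y
          rw [← Groth.L16.CohLinear.hmap_comp, c.inv_hom_id, Groth.L16.CohLinear.hmap_id]⟩⟩))⟩

theorem finite_hom {M : (Pn n k).Modules} (hM : Coh.IsCoh M) (j : ℕ) : Module.Finite k (Tp n k j ⟶ M) := by
  obtain ⟨e⟩ := nonempty_hom_equiv j M
  haveI := isProper_over_proj (k := k) (n := n)
  haveI := Groth.L16.ProperFinite.finite_HH k (isCoh_tw hM (j : ℤ)) 0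
  exact Module.Finite.equiv e.symm

theorem finrank_hom (M : (Pn n k).Modules) (j : ℕ) : Module.finrank k (Tp n k j ⟶ M) = h0t M (j : ℤ) := by
  obtain ⟨e⟩ := nonempty_hom_equiv j M
  rw [e.finrank_eq, h0t_eq]

/-- Homomorphisms into the kernel of multiplication are multiples. -/
theorem exists_mulF_eq (h : Form n k) {M : (Pn n k).Modules} [Mono (mu (sigmaF h) M)] {j : ℕ}
    (φ : Tp n k (j + 1) ⟶ M) (hφ : φ ≫ cokernel.π (mu (sigmaF h) M) = 0) :
    ∃ ψ : Tp n k j ⟶ M, mulF h M j ψ = φ := by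
  obtain ⟨a⟩ := nonempty_O_add (n := n) (R := k) (show (1 : ℤ) + -1 = 0 by norm_num)
  obtain ⟨z⟩ := nonempty_O_zero n k
  haveI : (tensorRightF (Lm n k)).IsEquivalence :=
    inferInstanceAs (Groth.L21.Bundle.twistEquiv (L := Lm n k) (L' := O' n k 1) (a ≪≫ z)).functor.IsEquivalence
  let χ := Abelian.monoLift (mu (sigmaF h) M) φ hφ
  refine ⟨(tensorRightF (Lm n k)).preimage χ, ?_⟩
  rw [mulF_apply, ← mu_natural, Functor.map_preimage, Abelian.monoLift_comp]

end Dim

section Chart

variable (y0 : Form n k)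

/-- The chart of a form. -/
abbrev Dy : (Pn n k).Opens := Proj.basicOpen (CohB1.polyGrading n k) y0.1

/-- The values of constants. -/
abbrev scalD : k →+* Γ(Pn n k, Dy y0) :=
  ((Pn n k).presheaf.map (homOfLE (le_top : Dy y0 ≤ ⊤)).op).hom.comp
    (Coh.toGlobal (Pn n k ↘ Spec (CommRingCat.of k)))

theorem smul_app {M N : (Pn n k).Modules} (a : k) (φ : M ⟶ N) (m : Γ(M, Dy y0)) :
    (a • φ).app (Dy y0) m = scalD y0 a • φ.app (Dy y0) m := by
  rw [KLin.smul_def]
  show φ.app (Dy y0) ((Formal.smulMod k M a).app (Dy y0) m) = _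
  exact φ.app_smul _ _

/-- A map bijective on the stalks over an open is bijective on sections inside it. -/
theorem bijective_app_of_stalk {X : Scheme.{u}} {M N : X.Modules} (f : M ⟶ N) (U : X.Opens)
    (h : ∀ z ∈ U, Function.Bijective ((Groth.L21.Mod.stalkF X z).map f)) {V : X.Opens} (hV : V ≤ U) :
    Function.Bijective (f.app V) := by
  have hiso : IsIso ((Scheme.Modules.restrictFunctor U.ι).map f) := by
    refine (Groth.L21.Mod.isIso_iff_stalk _).2 fun z => ?_
    rw [Groth.L21.Mod.restrict_stalk_map]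
    haveI : IsIso ((Groth.L21.Mod.stalkF X (U.ι z)).map f) :=
      (ConcreteCategory.isIso_iff_bijective _).2 (h _ z.2)
    infer_instance
  obtain ⟨V', rfl⟩ : ∃ V' : U.toScheme.Opens, U.ι ''ᵁ V' = V := ⟨U.ι ⁻¹ᵁ V, by
    rw [Scheme.Hom.image_preimage_eq_opensRange_inf, Scheme.Opens.opensRange_ι, inf_eq_right]
    exact hV⟩
  exact (ConcreteCategory.isIso_iff_bijective _).1 (Scheme.Modules.Hom.isIso_iff_isIso_app.1 hiso V')

theorem bijective_app_sigma {V : (Pn n k).Opens} (hV : V ≤ Dy y0) :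
    Function.Bijective ((sigmaF y0).app V) :=
  bijective_app_of_stalk (sigmaF y0) (Dy y0) (fun _ hz => bijective_sigmaF y0 hz) hV

/-- The frame of `O(-1)` on the chart. -/
def eps : Γ(Lm n k, Dy y0) := ((bijective_app_sigma y0 le_rfl).2 (1 : Γ(Pn n k, Dy y0))).choose

theorem sigma_eps : (sigmaF y0).app (Dy y0) (eps y0) = (1 : Γ(Pn n k, Dy y0)) :=
  ((bijective_app_sigma y0 le_rfl).2 (1 : Γ(Pn n k, Dy y0))).choose_spec

theorem isFrame_eps : IsFrame (Lm n k) (Dy y0) (eps y0) := by
  intro V hV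
  have h : ∀ a : Γ(Pn n k, V), (sigmaF y0).app V (a • rs (Lm n k) hV (eps y0)) = a := fun a => by
    rw [(sigmaF y0).app_smul]
    have := congr($((sigmaF y0).mapPresheaf.naturality (homOfLE hV).op) (eps y0))
    refine (congrArg (a • ·) (this.trans (congrArg (fun z => (Pn n k).presheaf.map (homOfLE hV).op z) (sigma_eps y0)))).trans ?_
    show a * _ = a
    rw [map_one, mul_one]
  exact ⟨fun a b hab => (h a).symm.trans ((congrArg _ hab).trans (h b)),
    fun x => ⟨(sigmaF y0).app V x, (bijective_app_sigma y0 hV).1 (h _)⟩⟩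

/-- The dehomogenised form. -/
def coef (f : Form n k) : Γ(Pn n k, Dy y0) := (sigmaF f).app (Dy y0) (eps y0)

theorem coef_self : coef y0 y0 = 1 := sigma_eps y0

theorem globalOf_add (f g : Form n k) : Twist.globalOf (CohB1.polyGrading n k) (f + g) =
    Twist.globalOf (CohB1.polyGrading n k) f + Twist.globalOf (CohB1.polyGrading n k) g := by
  refine Subtype.ext (funext fun x => Subtype.ext ?_)
  show Localization.mk (f.1 + g.1) _ = Localization.mk f.1 _ + Localization.mk g.1 _
  rw [Localization.add_mk_self]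

theorem globalOf_smul (a : k) (f : Form n k) :
    (show Γ(Twist.twist (CohB1.polyGrading n k) ((1 : ℕ) : ℤ), ⊤) from Twist.globalOf (CohB1.polyGrading n k) (a • f)) =
      (show Γ(Pn n k, ⊤) from Coh.toGlobal (Pn n k ↘ Spec (CommRingCat.of k)) a) •
        (show Γ(Twist.twist (CohB1.polyGrading n k) ((1 : ℕ) : ℤ), ⊤) from Twist.globalOf (CohB1.polyGrading n k) f) := by
  refine Subtype.ext (funext fun x => Subtype.ext ?_)
  refine Eq.trans ?_ (Twist.coe_smul_val _ x.1
    ((show Twist.O (op ⊤) from Coh.toGlobal (CohB1.ProjSpace.toSpec n k) a).1 x) _).symm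
  erw [Groth.L16.ProjSpace.toGlobal_apply_val]
  show Localization.mk (a • f.1) _ = Localization.mk _ _ * Localization.mk f.1 _
  rw [Localization.mk_mul, Localization.mk_eq_mk_iff, Localization.r_iff_exists]
  exact ⟨1, by simp [MvPolynomial.smul_eq_C_mul]⟩

/-- The linear expression for the dehomogenised form. -/
theorem coef_eq (f : Form n k) : coef y0 f =
    ((nonempty_O_add (n := n) (R := k) (show ((1 : ℕ) : ℤ) + -1 = 0 by norm_num)).some ≪≫
      (nonempty_O_zero n k).some).hom.app (Dy y0)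
      (tens (Twist.twist (CohB1.polyGrading n k) ((1 : ℕ) : ℤ)) (Lm n k) (Dy y0)
        (rs (Twist.twist (CohB1.polyGrading n k) ((1 : ℕ) : ℤ)) le_top (Twist.globalOf (CohB1.polyGrading n k) f))
        (eps y0)) := by
  have h1 : (tensorUnitLeft (Lm n k)).inv.app (Dy y0) (eps y0) =
      tens (Coh.structureModule (Pn n k)) (Lm n k) (Dy y0) (1 : Γ(Pn n k, Dy y0)) (eps y0) := by
    refine ((ConcreteCategory.isIso_iff_bijective _).1 (Scheme.Modules.Hom.isIso_iff_isIso_app.1
      (inferInstance : IsIso (tensorUnitLeft (Lm n k)).hom) (Dy y0))).1 ?_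
    rw [Groth.L22.Reg.tensorUnitLeft_tens, one_smul]
    exact congr($((tensorUnitLeft (Lm n k)).inv_hom_id).app (Dy y0) (eps y0))
  show (((nonempty_O_add (n := n) (R := k) (show ((1 : ℕ) : ℤ) + -1 = 0 by norm_num)).some ≪≫
      (nonempty_O_zero n k).some).hom).app (Dy y0)
      ((tensorMap (ProjTwist.sect (CohB1.polyGrading n k) f) (𝟙 (Lm n k))).app (Dy y0)
        ((tensorUnitLeft (Lm n k)).inv.app (Dy y0) (eps y0))) = _
  rw [h1]
  erw [Groth.L18.Ample.tensorMap_tens]
  refine congrArg _ (congrArg (fun z => tens _ (Lm n k) (Dy y0) z (eps y0)) ?_)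
  exact (Groth.L16.homOfSection_app _ _ _ _).trans (one_smul _ _)

theorem coef_add (f g : Form n k) : coef y0 (f + g) = coef y0 f + coef y0 g := by
  rw [coef_eq, coef_eq, coef_eq, globalOf_add]
  refine (congrArg _ ?_).trans (map_add _ _ _)
  exact (congrArg (fun z => tens _ (Lm n k) (Dy y0) z (eps y0)) (map_add _ _ _)).trans
    (Groth.L18.Ample.tens_add_left _ _ _)

theorem coef_smul (a : k) (f : Form n k) : coef y0 (a • f) = scalD y0 a * coef y0 f := by
  rw [coef_eq, coef_eq]
  refine Eq.trans (congrArg _ ((congrArg (fun z => tens _ (Lm n k) (Dy y0) z (eps y0))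
    ((congrArg (rs (Twist.twist (CohB1.polyGrading n k) ((1 : ℕ) : ℤ)) le_top) (globalOf_smul a f)).trans
      (rs_smul _ _ _ _))).trans (tens_smul_left _ _ _))) ?_
  exact Scheme.Modules.Hom.app_smul _ _ _

/-- Dehomogenisation. -/
def coefL : Form n k →+ Γ(Pn n k, Dy y0) := AddMonoidHom.mk' (coef y0) (coef_add y0)

/-- The frames of the iterated twists. -/
def theta : ∀ j, Γ(Tp n k j, Dy y0)
  | 0 => (1 : Γ(Pn n k, Dy y0))
  | j + 1 => tens (Tp n k j) (Lm n k) (Dy y0) (theta j) (eps y0)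

theorem isFrame_theta : ∀ j, IsFrame (Tp n k j) (Dy y0) (theta y0 j)
  | 0 => fun V hV => by
    have : (fun a : Γ(Pn n k, V) => a • rs (Tp n k 0) hV (theta y0 0)) = id := funext fun a => by
      show a * (Pn n k).presheaf.map (homOfLE hV).op 1 = a
      rw [map_one, mul_one]
    rw [this]
    exact Function.bijective_id
  | j + 1 => isFrame_tens (isFrame_theta j) (isFrame_eps y0)

theorem mu_theta (f : Form n k) (j : ℕ) :
    (mu (sigmaF f) (Tp n k j)).app (Dy y0) (theta y0 (j + 1)) = coef y0 f • theta y0 j := by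
  show (tensorUnitRight (Tp n k j)).hom.app (Dy y0) ((tensorMap (𝟙 (Tp n k j)) (sigmaF f)).app (Dy y0)
    (tens (Tp n k j) (Lm n k) (Dy y0) (theta y0 j) (eps y0))) = _
  rw [Groth.L18.Ample.tensorMap_tens]
  exact Groth.L20.ResDescent.tensorUnitRight_app _ _ _ _

/-- Homomorphisms evaluated on the frames. -/
def eta {M : (Pn n k).Modules} (j : ℕ) : (Tp n k j ⟶ M) →+ Γ(M, Dy y0) :=
  AddMonoidHom.mk' (fun φ => φ.app (Dy y0) (theta y0 j)) fun _ _ => rfl

theorem eta_smul {M : (Pn n k).Modules} {j : ℕ} (a : k) (φ : Tp n k j ⟶ M) :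
    eta y0 j (a • φ) = scalD y0 a • eta y0 j φ := smul_app y0 a φ _

theorem eta_mulF (f : Form n k) {M : (Pn n k).Modules} {j : ℕ} (φ : Tp n k j ⟶ M) :
    eta y0 (j + 1) (mulF f M j φ) = coef y0 f • eta y0 j φ := by
  show φ.app (Dy y0) ((mu (sigmaF f) (Tp n k j)).app (Dy y0) (theta y0 (j + 1))) = _
  rw [mu_theta]
  exact φ.app_smul _ _

theorem eta_comp {M N : (Pn n k).Modules} (g : M ⟶ N) {j : ℕ} (φ : Tp n k j ⟶ M) :
    eta y0 j (φ ≫ g) = g.app (Dy y0) (eta y0 j φ) := rfl

/-- Composites with maps of twists are multiples on the chart. -/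
theorem eta_precomp {M : (Pn n k).Modules} {i j : ℕ} (ξ : Tp n k j ⟶ Tp n k i) :
    ∃ a : Γ(Pn n k, Dy y0), ∀ φ : Tp n k i ⟶ M, eta y0 j (ξ ≫ φ) = a • eta y0 i φ := by
  obtain ⟨a, ha⟩ := (isFrame_theta y0 i).exists_coeff le_rfl (ξ.app (Dy y0) (theta y0 j))
  refine ⟨a, fun φ => ?_⟩
  show φ.app (Dy y0) (ξ.app (Dy y0) (theta y0 j)) = _
  rw [← ha, rs_self]
  exact φ.app_smul _ _

end Chart

end Groth.L11.GM
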